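import Cfsg.Prelude.Def_Spor_Ly
import Cfsg.Agent.H68.Ly.RepRows

/-! The generators of the presented Lyons group as words in five letters, and their matrices. -/

set_option autoImplicit false
set_option maxRecDepth 100000

namespace H68.Ly

open Cfsg.Spor (Ly.Gen)

/-- a, b, c, d, z, then their inverses -/
noncomputable def tab : ℕ → List (List ℕ)
  | 0 => tabA | 1 => tabB | 2 => tabC | 3 => tabD | 4 => tabZ
  | 5 => tabAi | 6 => tabBi | 7 => tabCi | 8 => tabDi | _ => tabZi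

/-- the same with packed rows -/
noncomputable def rows : ℕ → List ℕ
  | 0 => rowsA | 1 => rowsB | 2 => rowsC | 3 => rowsD | 4 => rowsZ
  | 5 => rowsAi | 6 => rowsBi | 7 => rowsCi | 8 => rowsDi | _ => rowsZi

theorem rows_eq : ∀ k, rows k = packTab (tab k)
  | 0 => rowsA_eq | 1 => rowsB_eq | 2 => rowsC_eq | 3 => rowsD_eq | 4 => rowsZ_eq
  | 5 => rowsAi_eq | 6 => rowsBi_eq | 7 => rowsCi_eq | 8 => rowsDi_eq | _ + 9 => rowsZi_eq

/-- the word of a generator -/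
def genWord : Cfsg.Spor.Ly.Gen → List ℕ
  | .a => [0]
  | .b => [1]
  | .c => [2]
  | .d => [3]
  | .z => [4]
  | .e => [6,6,5,7,0,2,5,2,0,3,2,1,0,6,3,2,3]
  | .a1 => [0]
  | .a2 => [1,0,6]
  | .a3 => [1,1,0,6,6]
  | .a4 => [6,6,0,1,1]
  | .c1 => [2]
  | .c2 => [5,2,0]
  | .c3 => [6,2,1]
  | .c4 => [1,2,6]
  | .c5 => [7,5,7,0,2,5,2,0]
  | .u => [0,0]
  | .x23 => [3]
  | .x24 => [8]
  | .x25 => [1,1,5,6,5,1,1,7,0,2,5,7,3,7,1,1,5,2,1]
  | .x29 => [0,1,5,1,1,5,1,1,7,0,2,1,2,6,3,2,6,6,3,2,1,2]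
  | .x47 => [7,8,5,7,5,1,7,8]
  | .x96 => [1,3]
  | .x129 => [8,6]
  | .x162 => [5,6,5,1,7,6,0,7,1,0]
  | .x163 => [6,6,0,2,5,1,2,1]
  | .x164 => [5,6,5,2,0,1,0]
  | .x165 => [6,5,1,2,6,0,1]
  | .x166 => [1,1,5,6,2,1,0,2,6,6,7]
  | .x167 => [5,5,5]
  | .x168 => [1,5,6,5,5]
  | .x169 => [0,1,1,0,6,6,5]
  | .x364 => [5,3,6,7,5,1,7,8,1,7,6,5,7,0,6,0,1,0,6]
  | .x365 => [0,6,6,5,2,1,7,1,5,7,7,3,2,0,2,5,2,6,8]
  | .x366 => [1,0,6,5,6,6,5,6,2,1,1,2,1,3,2,6,6,3,2,1,2]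
  | .x367 => [7,6,7,8,1,1,7,8,6,7,6,6,7,1,0,1,1,0,1,5,6]
  | .x368 => [5,7,8,0,7,6,0,7,8,5,7,0,2,6,6,7,6,5,6,6]
  | .x369 => [5,7,8,1,5,6,7,8,1,5,6,7,6,0,6,6,0,6]
  | .x370 => [8,0,2,1,2,5,7,8,0,6,5,2,5,6,6,5,1,5]
  | .x371 => [7,5,2,1,7,8,2,5,2,0,2,6,5,6,5,1]

/-- the inverse word -/
def invWord (w : List ℕ) : List ℕ := w.reverse.map fun k => if k < 5 then k + 5 else k - 5

/-- a signed generator -/
def letWord (x : Cfsg.Spor.Ly.Gen × Bool) : List ℕ :=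
  cond x.2 (genWord x.1) (invWord (genWord x.1))

/-- cancel adjacent inverse letters -/
def push (k : ℕ) : List ℕ → List ℕ
  | [] => [k]
  | j :: t => bif Nat.beq j (if k < 5 then k + 5 else k - 5) then t else k :: j :: t

/-- free reduction of a word in the five letters -/
def redWord (w : List ℕ) : List ℕ := w.foldr push []

/-- the relators with numbers in a range act as the identity -/
noncomputable def checkRange (lo n : ℕ) : Bool :=
  ((Cfsg.Spor.Ly.extra.drop lo).take n).all fun r => isOneR ((redWord (r.toWord.flatMap letWord)).map rows)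

end H68.Ly
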