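import Cfsg.Agent.H68.Ly.QCells

/-!
A group element set generated by a, b, c, d with the relations has at most 5859000000 members.
-/

set_option autoImplicit false
set_option maxRecDepth 100000

namespace H68.Ly

open Pointwise

variable {G : Type*} [Group G] {a b c d : G}

/-- the twelve words, the longest one in both forms -/
def cellWords : List (List Bool) :=
  [[], [false], [true], [false, true], [true, false], [false, true, false], [true, false, true],
    [false, true, false, true], [true, false, true, false], [false, true, false, true, false],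
    [true, false, true, false, true], [false, true, false, true, false, true],
    [true, false, true, false, true, false]]

/-- the union of the cells -/
def cells (a b c d : G) : Set G := {x | ∃ w ∈ cellWords, x ∈ cell a b c d w}

/-- finite with at most n members -/
def Small (A : Set G) (n : ℕ) : Prop := A.Finite ∧ A.ncard ≤ n

theorem Small.mul {A B C : Set G} {m n : ℕ} (hA : Small A m) (hB : Small B n) (h : C ⊆ A * B) :
    Small C (m * n) :=
  ⟨(hA.1.mul hB.1).subset h, (Set.ncard_le_ncard h (hA.1.mul hB.1)).trans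
    ((Set.natCard_mul_le).trans (Nat.mul_le_mul hA.2 hB.2))⟩

theorem Small.mono {A : Set G} {m n : ℕ} (hA : Small A m) (h : m ≤ n) : Small A n := ⟨hA.1, hA.2.trans h⟩

theorem Small.union {A B : Set G} {m n : ℕ} (hA : Small A m) (hB : Small B n) : Small (A ∪ B) (m + n) :=
  ⟨hA.1.union hB.1, (Set.ncard_union_le A B).trans (Nat.add_le_add hA.2 hB.2)⟩

/-- the powers below n -/
def pows (x : G) (n : ℕ) : Set G := (fun k => x ^ k) '' Set.Iio n

theorem small_pows (x : G) (n : ℕ) : Small (pows x n) n :=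
  ⟨(Set.finite_Iio n).image _, (Set.ncard_image_le (Set.finite_Iio n)).trans (by simp)⟩

/-- letters from m on -/
def above (a b c : G) (m : ℕ) : Subgroup G := spanW a b c fun i => Nat.ble m i

namespace Rels

variable (h : Rels a b c d)
include h

theorem above_split {m : ℕ} (hm : 1 ≤ m) (hm5 : m ≤ 5) :
    (above a b c m : Set G) ⊆ pows (gen a b c m) 5 * (above a b c (m + 1) : Set G) := by
  have hn : gen a b c m ∈ Subgroup.normalizer (above a b c (m + 1) : Set G) := by
    have ok : ∀ i < 6, okWord ([m] ++ [i] ++ winv [m]) = true ∧ okWord (winv [m] ++ [i] ++ [m]) = true := by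
      interval_cases m <;> decide
    refine le_normalizer_closure ?_ ?_ <;> rintro s ⟨i, hi, hp, rfl⟩
    · have e : gen a b c m * gen a b c i * (gen a b c m)⁻¹ =
          ev a b c (norm 4000 ([m] ++ [i] ++ winv [m])) := by
        rw [h.norm_eq _ _ (ok i hi).1, ev_append, ev_append, h.ev_winv]
        simp [ev]
      rw [e]
      refine ev_mem_span ?_
      interval_cases m <;> interval_cases i <;> first | (exact absurd hp (by decide)) | decide +kernel
    · have e : (gen a b c m)⁻¹ * gen a b c i * gen a b c m =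
          ev a b c (norm 4000 (winv [m] ++ [i] ++ [m])) := by
        rw [h.norm_eq _ _ (ok i hi).2, ev_append, ev_append, h.ev_winv]
        simp [ev]
      rw [e]
      refine ev_mem_span ?_
      interval_cases m <;> interval_cases i <;> first | (exact absurd hp (by decide)) | decide +kernel
  have hle : above a b c m ≤ Subgroup.zpowers (gen a b c m) ⊔ above a b c (m + 1) := by
    refine (Subgroup.closure_le _).2 ?_
    rintro x ⟨i, hi, hp, rfl⟩
    have hmi : m ≤ i := Nat.le_of_ble_eq_true hp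
    rcases hmi.eq_or_lt with rfl | hlt
    · exact Subgroup.mem_sup_left (Subgroup.mem_zpowers _)
    · exact Subgroup.mem_sup_right (Subgroup.subset_closure ⟨i, hi, by rw [Nat.ble_eq]; exact hlt, rfl⟩)
  intro x hx
  have hx' : x ∈ ((Subgroup.zpowers (gen a b c m) ⊔ above a b c (m + 1) : Subgroup G) : Set G) := hle hx
  rw [Subgroup.coe_mul_of_left_le_normalizer_right _ _ (Subgroup.zpowers_le.2 hn)] at hx'
  obtain ⟨y, hy, n, hn', rfl⟩ := hx'
  have hfin : IsOfFinOrder (gen a b c m) :=
    isOfFinOrder_iff_pow_eq_one.2 ⟨5, by norm_num, h.gen_pow m⟩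
  obtain ⟨k, rfl⟩ := Submonoid.mem_powers_iff _ _ |>.1 (hfin.mem_powers_iff_mem_zpowers.2 hy)
  refine ⟨_, ⟨k % 5, Nat.mod_lt _ (by norm_num), rfl⟩, n, hn', ?_⟩
  show gen a b c m ^ (k % 5) * n = _
  conv_rhs => rw [← Nat.mod_add_div k 5, pow_add, pow_mul, h.gen_pow, one_pow, mul_one]

theorem small_nB : Small (nB a b c : Set G) 3125 := by
  have h6 : Small (above a b c 6 : Set G) 1 := by
    have e : above a b c 6 = ⊥ := by
      refine le_bot_iff.1 ((Subgroup.closure_le _).2 ?_)
      rintro x ⟨i, hi, hp, rfl⟩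
      have := Nat.le_of_ble_eq_true hp
      omega
    rw [e, Subgroup.coe_bot]
    exact ⟨Set.finite_singleton _, by simp⟩
  have h5 := (small_pows _ 5).mul h6 (h.above_split (m := 5) (by norm_num) (by norm_num))
  have h4 := (small_pows _ 5).mul h5 (h.above_split (m := 4) (by norm_num) (by norm_num))
  have h3 := (small_pows _ 5).mul h4 (h.above_split (m := 3) (by norm_num) (by norm_num))
  have h2 := (small_pows _ 5).mul h3 (h.above_split (m := 2) (by norm_num) (by norm_num))
  have h1 := (small_pows _ 5).mul h2 (h.above_split (m := 1) (by norm_num) (by norm_num))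
  have e : nB a b c = above a b c 1 := by
    refine le_antisymm ?_ ?_ <;> refine Subgroup.closure_mono ?_ <;> rintro x ⟨i, hi, hp, e⟩ <;>
      refine ⟨i, hi, ?_, e⟩ <;> interval_cases i <;> first | rfl | exact absurd hp (by decide)
  rw [e]; exact h1

theorem z4 : (a ^ 2) ^ 4 = 1 := by rw [← pow_mul]; exact h.r1

theorem small_bor : Small (bor a b c : Set G) 250000 := by
  have hu : (uB a b c : Set G) ⊆ pows b 5 * (nB a b c : Set G) := fun x hx => by
    obtain ⟨k, hk, n, hn, rfl⟩ := h.u_split_b hx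
    exact ⟨_, ⟨k, hk, rfl⟩, n, hn, rfl⟩
  have ht : (tor a b : Set G) ⊆ pows (a ^ 2) 4 * pows (gg a b) 4 := by
    intro x hx
    induction hx using Subgroup.closure_induction with
    | mem x hx =>
      rcases hx with rfl | rfl
      · exact ⟨_, ⟨1, by simp, rfl⟩, _, ⟨0, by simp, rfl⟩, by simp⟩
      · exact ⟨_, ⟨0, by simp, rfl⟩, _, ⟨1, by simp, rfl⟩, by simp⟩
    | one => exact ⟨_, ⟨0, by simp, rfl⟩, _, ⟨0, by simp, rfl⟩, by simp⟩
    | mul x y _ _ hx hy =>
      obtain ⟨_, ⟨i, -, rfl⟩, _, ⟨j, -, rfl⟩, rfl⟩ := hx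
      obtain ⟨_, ⟨i', -, rfl⟩, _, ⟨j', -, rfl⟩, rfl⟩ := hy
      refine ⟨_, ⟨(i + i') % 4, Nat.mod_lt _ (by norm_num), rfl⟩,
        _, ⟨(j + j') % 4, Nat.mod_lt _ (by norm_num), rfl⟩, ?_⟩
      show (a ^ 2) ^ ((i + i') % 4) * gg a b ^ ((j + j') % 4) = _
      rw [← pow_eq_pow_mod _ h.z4, ← pow_eq_pow_mod _ h.g4, pow_add, pow_add]
      simp only [mul_assoc]
      rw [← mul_assoc (gg a b ^ j), ← (h.z_comm_g.pow_pow i' j).eq, mul_assoc]
    | inv x _ hx =>
      obtain ⟨_, ⟨i, -, rfl⟩, _, ⟨j, -, rfl⟩, rfl⟩ := hx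
      refine ⟨_, ⟨(3 * i) % 4, Nat.mod_lt _ (by norm_num), rfl⟩,
        _, ⟨(3 * j) % 4, Nat.mod_lt _ (by norm_num), rfl⟩, ?_⟩
      show (a ^ 2) ^ ((3 * i) % 4) * gg a b ^ ((3 * j) % 4) = _
      rw [← pow_eq_pow_mod _ h.z4, ← pow_eq_pow_mod _ h.g4]
      refine eq_inv_of_mul_eq_one_left ?_
      rw [show (a ^ 2) ^ (3 * i) * gg a b ^ (3 * j) * ((a ^ 2) ^ i * gg a b ^ j) =
        (a ^ 2) ^ (3 * i) * (gg a b ^ (3 * j) * (a ^ 2) ^ i) * gg a b ^ j by simp only [mul_assoc],
        ← (h.z_comm_g.pow_pow i (3 * j)).eq, ← mul_assoc, ← pow_add, mul_assoc, ← pow_add,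
        show 3 * i + i = 4 * i by ring, show 3 * j + j = 4 * j by ring, pow_mul (a ^ 2), pow_mul (gg a b),
        h.z4, h.g4, one_pow, one_pow, mul_one]
  have hT := (small_pows (a ^ 2) 4).mul (small_pows (gg a b) 4) ht
  have hU := (small_pows b 5).mul h.small_nB hu
  refine hU.mul hT fun x hx => ?_
  obtain ⟨u, hu, t, ht, rfl⟩ := h.bor_split hx
  exact ⟨u, hu, t, ht, rfl⟩

/-! #### the longest cell -/

theorem a_cell : a ∈ cell a b c d [false] := by
  refine ⟨b, h.b_mem, b⁻¹, inv_mem h.b_mem, ?_⟩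
  simp only [wv, lv, ss, List.map_cons, List.map_nil, List.prod_cons, List.prod_nil]; group

theorem e_cell : ee a b c d ∈ cell a b c d [true] :=
  ⟨(ev a b c uWord)⁻¹, inv_mem h.u_mem, 1, one_mem _, by simp [wv, lv, h.e_eq]⟩

theorem cell_ext {w : List Bool} {p : Bool} (hP : Pos a b c d w p) {x y : G}
    (hx : x ∈ cell a b c d w) (hy : y ∈ cell a b c d [p]) : x * y ∈ cell a b c d (w ++ [p]) := by
  obtain ⟨β, hβ, β', hβ', rfl⟩ := hy
  have := cell_mul_right (h.pos_mul hP hx hβ) hβ'
  simpa [wv, mul_assoc] using this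

theorem d_cell : d ∈ cell a b c d [true, false, true, false, true] := by
  have hc : ∀ i, i < 6 → gen a b c i ∈ bor a b c := fun i hi => uB_le_bor (mem_uB_gen a b c hi)
  obtain ⟨p1, p2, p3, p4, -⟩ := h.pos_s
  obtain ⟨q1, q2', q3', q4', -⟩ := h.pos_f
  have e1 : ee a b c d * a ∈ cell a b c d [true, false] := h.cell_ext p1 h.e_cell h.a_cell
  have e2 : ee a b c d * a * ee a b c d ∈ cell a b c d [true, false, true] :=
    h.cell_ext q2' e1 h.e_cell
  have e3 : ee a b c d * a * ee a b c d * a ∈ cell a b c d [true, false, true, false] :=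
    h.cell_ext p3 e2 h.a_cell
  have e4 : ee a b c d * a * ee a b c d * a * ((q2 a c)⁻¹ * b) * ee a b c d ∈
      cell a b c d [true, false, true, false, true] :=
    h.cell_ext q4' (cell_mul_right e3 (mul_mem (inv_mem (hc 2 (by norm_num))) h.b_mem)) h.e_cell
  have hn : a⁻¹ * (c⁻¹ * (q4 b c)⁻¹ * (q5 a c)⁻¹) * a ∈ bor a b c := by
    have e : c⁻¹ * (q4 b c)⁻¹ * (q5 a c)⁻¹ = ev a b c (winv [5, 4, 1]) := by
      rw [h.ev_winv]; simp [ev, gen, mul_assoc]
    have := h.ev_map h.A_gen (w := winv [5, 4, 1]) (by decide)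
    rw [inv_inv] at this
    rw [e, ← this]
    exact h.ev_bor (by decide +kernel)
  have e : d = gg a b * (a ^ 2)⁻¹ * (a⁻¹ * (c⁻¹ * (q4 b c)⁻¹ * (q5 a c)⁻¹) * a) *
      (ee a b c d * a * ee a b c d * a * ((q2 a c)⁻¹ * b) * ee a b c d) := by
    conv_lhs => rw [h.r39]
    have e' : gg a b * (a ^ 2)⁻¹ * a⁻¹ = a * b ^ 2 * a⁻¹ * b⁻¹ := by
      have hb := h.z_comm_b.inv_inv.eq
      calc gg a b * (a ^ 2)⁻¹ * a⁻¹ = a * b ^ 2 * a * (b⁻¹ * (a ^ 2)⁻¹) := by rw [gg]; group
        _ = a * b ^ 2 * a * ((a ^ 2)⁻¹ * b⁻¹) := by rw [hb]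
        _ = _ := by group
    rw [show gg a b * (a ^ 2)⁻¹ * (a⁻¹ * (c⁻¹ * (q4 b c)⁻¹ * (q5 a c)⁻¹) * a) =
      gg a b * (a ^ 2)⁻¹ * a⁻¹ * (c⁻¹ * (q4 b c)⁻¹ * (q5 a c)⁻¹ * a) by simp only [mul_assoc], e']
    simp only [mul_assoc]
  have := cell_mul_left e4 (mul_mem (mul_mem (tor_le_bor h.g_mem) (inv_mem (tor_le_bor h.z_mem))) hn)
  rwa [← e] at this

theorem s_d : ss a b * d = d * a ^ 2 * ss a b := by
  have hbd : b * d = d * b := by
    have : d * b * (b⁻¹ * d⁻¹ * b * d) = b * d := by group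
    rw [h.r41, mul_one] at this; exact this.symm
  have had : a * d = d * a ^ 3 := by rw [← h.r42]; group
  have hz := h.z_comm_b.inv_right.eq
  calc ss a b * d = b⁻¹ * a * (b * d) := by rw [ss]; group
    _ = b⁻¹ * (a * d) * b := by rw [hbd]; simp only [mul_assoc]
    _ = b⁻¹ * d * (a ^ 2 * a) * b := by rw [had, pow_succ, pow_two]; simp only [mul_assoc]
    _ = d * b⁻¹ * (a ^ 2 * a) * b := by
      rw [show b⁻¹ * d = d * b⁻¹ from (Commute.inv_left (show Commute b d from hbd)).eq]
    _ = d * (b⁻¹ * a ^ 2) * a * b := by simp only [mul_assoc]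
    _ = d * (a ^ 2 * b⁻¹) * a * b := by rw [← hz]
    _ = d * a ^ 2 * ss a b := by rw [ss]; simp only [mul_assoc]

theorem longest : cell a b c d [false, true, false, true, false, true] =
    cell a b c d [true, false, true, false, true, false] := by
  obtain ⟨p1, p2, p3, p4, p5⟩ := h.pos_s
  obtain ⟨q1, q2', q3', q4', q5'⟩ := h.pos_f
  obtain ⟨β, hβ, β', hβ', e⟩ := h.d_cell
  have h1 : d * a ^ 2 * ss a b ∈ cell a b c d [true, false, true, false, true, false] :=
    h.pos_mul p5 h.d_cell (tor_le_bor h.z_mem)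
  have h2 : ss a b * d ∈ cell a b c d [false, true, false, true, false, true] := by
    have k0 : ss a b * β ∈ cell a b c d [false] := ⟨1, one_mem _, β, hβ, by simp [wv, lv]⟩
    have k1 := h.pos_mul' q1 k0
    have k2 := h.pos_mul' p2 k1
    have k3 := h.pos_mul' q3' k2
    have k4 := h.pos_mul' p4 k3
    have k5 := cell_mul_right (h.pos_mul' q5' k4) hβ'
    rw [show ss a b * d = ss a b * (β * wv a b c d [true, false, true, false, true] * β') from
      congrArg (ss a b * ·) e]
    simpa [wv, lv, mul_assoc] using k5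
  rw [h.s_d] at h2
  exact Set.Subset.antisymm (cell_congr h2 h1) (cell_congr h1 h2)

/-! #### closure -/

theorem mem_cells {w : List Bool} {x : G} (hw : w ∈ cellWords) (hx : x ∈ cell a b c d w) :
    x ∈ cells a b c d := ⟨w, hw, hx⟩

theorem cells_neg {w : List Bool} {p : Bool} (hP : Pos a b c d w p) (hw : w ∈ cellWords)
    (hwp : w ++ [p] ∈ cellWords) {x : G} (hx : x ∈ cell a b c d (w ++ [p])) :
    x * lv a b c d p ∈ cells a b c d := by
  obtain ⟨β, hβ, β', hβ', rfl⟩ := hx
  rw [wv_snoc]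
  have hwm : β * wv a b c d w ∈ cell a b c d w := ⟨β, hβ, 1, one_mem _, by simp⟩
  rcases h.rank_one p hβ' with hr | hr
  · refine mem_cells (h := h) hw ?_
    have := cell_mul_right hwm hr
    simpa [mul_assoc] using this
  · refine mem_cells (h := h) hwp ?_
    have := h.cell_ext hP hwm hr
    simpa [mul_assoc] using this

theorem cells_step (p : Bool) {x : G} (hx : x ∈ cells a b c d) : x * lv a b c d p ∈ cells a b c d := by
  obtain ⟨w, hw, hx⟩ := hx
  obtain ⟨p1, p2, p3, p4, p5⟩ := h.pos_s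
  obtain ⟨q1, q2', q3', q4', q5'⟩ := h.pos_f
  have p0 := h.pos_nil (a := a) false
  have q0 := h.pos_nil (a := a) true
  have up : ∀ {w : List Bool} {p : Bool}, Pos a b c d w p → x ∈ cell a b c d w → w ++ [p] ∈ cellWords →
      x * lv a b c d p ∈ cells a b c d := fun hP hx hm => mem_cells (h := h) hm (h.pos_mul' hP hx)
  simp only [cellWords, List.mem_cons, List.not_mem_nil, or_false] at hw
  rcases hw with rfl | rfl | rfl | rfl | rfl | rfl | rfl | rfl | rfl | rfl | rfl | rfl | rfl <;>
    cases p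
  · exact up p0 hx (by decide)
  · exact up q0 hx (by decide)
  · exact h.cells_neg p0 (by decide) (by decide) hx
  · exact up q1 hx (by decide)
  · exact up p1 hx (by decide)
  · exact h.cells_neg q0 (by decide) (by decide) hx
  · exact up p2 hx (by decide)
  · exact h.cells_neg (w := [false]) q1 (by decide) (by decide) hx
  · exact h.cells_neg (w := [true]) p1 (by decide) (by decide) hx
  · exact up q2' hx (by decide)
  · exact h.cells_neg (w := [false, true]) p2 (by decide) (by decide) hx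
  · exact up q3' hx (by decide)
  · exact up p3 hx (by decide)
  · exact h.cells_neg (w := [true, false]) q2' (by decide) (by decide) hx
  · exact up p4 hx (by decide)
  · exact h.cells_neg (w := [false, true, false]) q3' (by decide) (by decide) hx
  · exact h.cells_neg (w := [true, false, true]) p3 (by decide) (by decide) hx
  · exact up q4' hx (by decide)
  · exact h.cells_neg (w := [false, true, false, true]) p4 (by decide) (by decide) hx
  · exact up q5' hx (by decide)
  · exact up p5 hx (by decide)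
  · exact h.cells_neg (w := [true, false, true, false]) q4' (by decide) (by decide) hx
  · rw [h.longest] at hx
    exact h.cells_neg (w := [true, false, true, false, true]) p5 (by decide) (by decide) hx
  · exact h.cells_neg (w := [false, true, false, true, false]) q5' (by decide) (by decide) hx
  · exact h.cells_neg (w := [true, false, true, false, true]) p5 (by decide) (by decide) hx
  · rw [← h.longest] at hx
    exact h.cells_neg (w := [false, true, false, true, false]) q5' (by decide) (by decide) hx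

theorem closure_subset : (Subgroup.closure ({a, b, c, d} : Set G) : Set G) ⊆ cells a b c d := by
  let M : Submonoid G :=
    { carrier := {x | ∀ y ∈ cells a b c d, y * x ∈ cells a b c d}
      one_mem' := by simp
      mul_mem' := fun {x y} hx hy z hz => by rw [← mul_assoc]; exact hy _ (hx z hz) }
  have hB : ∀ β ∈ bor a b c, β ∈ M := fun β hβ y ⟨w, hw, hy⟩ => ⟨w, hw, cell_mul_right hy hβ⟩
  have hl : ∀ p, lv a b c d p ∈ M := fun p y hy => h.cells_step p hy
  have hss : ss a b ∈ M := hl false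
  have hff : ff a b c d ∈ M := hl true
  have he : ee a b c d ∈ M := by
    rw [h.e_eq]; exact M.mul_mem (hB _ (inv_mem h.u_mem)) hff
  have ha : a ∈ M := by
    have : a = b * ss a b * b⁻¹ := by rw [ss]; group
    rw [this]
    exact M.mul_mem (M.mul_mem (hB _ h.b_mem) hss) (hB _ (inv_mem h.b_mem))
  have hai : a⁻¹ ∈ M := by
    rw [show a⁻¹ = a ^ 7 from inv_eq_of_mul_eq_one_left (by rw [← pow_succ]; exact h.r1)]
    exact pow_mem ha 7
  have hc : ∀ i, i < 6 → gen a b c i ∈ M ∧ (gen a b c i)⁻¹ ∈ M := fun i hi =>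
    ⟨hB _ (uB_le_bor (mem_uB_gen a b c hi)), hB _ (inv_mem (uB_le_bor (mem_uB_gen a b c hi)))⟩
  have hb := hc 0 (by norm_num)
  have hc1 := hc 1 (by norm_num)
  have mm : ∀ {x y : G}, (x ∈ M ∧ x⁻¹ ∈ M) → (y ∈ M ∧ y⁻¹ ∈ M) → (x * y ∈ M ∧ (x * y)⁻¹ ∈ M) :=
    fun hx hy => ⟨M.mul_mem hx.1 hy.1, by rw [mul_inv_rev]; exact M.mul_mem hy.2 hx.2⟩
  have sw : ∀ {x : G}, (x ∈ M ∧ x⁻¹ ∈ M) → (x⁻¹ ∈ M ∧ x⁻¹⁻¹ ∈ M) :=
    fun hx => ⟨hx.2, by rw [inv_inv]; exact hx.1⟩
  have hd : d ∈ M ∧ d⁻¹ ∈ M := by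
    have A : a ∈ M ∧ a⁻¹ ∈ M := ⟨ha, hai⟩
    have E : ee a b c d ∈ M ∧ (ee a b c d)⁻¹ ∈ M := ⟨he, by rw [h.e_inv]; exact he⟩
    have B2 : b ^ 2 ∈ M ∧ (b ^ 2)⁻¹ ∈ M := by rw [pow_two]; exact mm hb hb
    exact (congrArg (fun x => x ∈ M ∧ x⁻¹ ∈ M) h.r39).mpr
      (mm (mm (mm (mm (mm (mm (mm (mm (mm (mm (mm (mm (mm (mm A B2) (sw A)) (sw hb)) (sw hc1))
        (sw (hc 4 (by norm_num)))) (sw (hc 5 (by norm_num)))) A) E) A) E) A) (sw (hc 2 (by norm_num)))) hb) E)
  have hle : ∀ x ∈ Subgroup.closure ({a, b, c, d} : Set G), x ∈ M ∧ x⁻¹ ∈ M := by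
    intro x hx
    induction hx using Subgroup.closure_induction with
    | mem x hx =>
      rcases hx with rfl | rfl | rfl | rfl
      exacts [⟨ha, hai⟩, hb, hc1, hd]
    | one => simp [M.one_mem]
    | mul x y _ _ hx hy => exact ⟨M.mul_mem hx.1 hy.1, by rw [mul_inv_rev]; exact M.mul_mem hy.2 hx.2⟩
    | inv x _ hx => exact ⟨hx.2, by rw [inv_inv]; exact hx.1⟩
  intro x hx
  have := (hle x hx).1 1 ⟨[], by decide, 1, one_mem _, 1, one_mem _, by simp [wv]⟩
  simpa using this

/-! #### counting -/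

theorem cell_small : ∀ w : List Bool, ∃ R : Set G, Small R (5 ^ w.length) ∧
    cell a b c d w ⊆ R * (bor a b c : Set G) := by
  intro w
  induction w using List.reverseRecOn with
  | nil =>
    refine ⟨{1}, ⟨Set.finite_singleton _, by simp⟩, ?_⟩
    rintro x ⟨β, hβ, β', hβ', rfl⟩
    exact ⟨1, rfl, β * β', mul_mem hβ hβ', by simp [wv]⟩
  | append_singleton w p ih =>
    obtain ⟨R, hR, hsub⟩ := ih
    refine ⟨R * (pows (xr a b c p) 5 * {lv a b c d p}), ?_, ?_⟩
    · rw [List.length_append, List.length_singleton, pow_succ]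
      refine hR.mul ((small_pows _ 5).mul (n := 1) ⟨Set.finite_singleton _, by simp⟩ subset_rfl |>.mono
        (by norm_num)) subset_rfl
    · rintro x ⟨β, hβ, β', hβ', rfl⟩
      obtain ⟨r, hr, β1, hβ1, e⟩ := hsub (show β * wv a b c d w ∈ cell a b c d w from
        ⟨β, hβ, 1, one_mem _, by simp⟩)
      obtain ⟨k, hk, v, hv, e'⟩ := h.bor_split_at p hβ1
      refine ⟨r * (xr a b c p ^ k * lv a b c d p), ⟨r, hr, _, ⟨_, ⟨k, hk, rfl⟩, _, rfl, rfl⟩, rfl⟩,
        _, mul_mem hv hβ', ?_⟩
      rw [wv_snoc]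
      calc r * (xr a b c p ^ k * lv a b c d p) * ((lv a b c d p)⁻¹ * v * lv a b c d p * β')
          = r * (xr a b c p ^ k * v) * lv a b c d p * β' := by group
        _ = r * β1 * lv a b c d p * β' := by rw [e']
        _ = β * wv a b c d w * lv a b c d p * β' := by rw [show r * β1 = β * wv a b c d w from e]
        _ = β * (wv a b c d w * lv a b c d p) * β' := by simp only [mul_assoc]

theorem cells_small : Small (cells a b c d) 5859000000 := by
  have key : ∀ L : List (List Bool), ∃ R : Set G, Small R ((L.map fun w => 5 ^ w.length).sum) ∧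
      {x | ∃ w ∈ L, x ∈ cell a b c d w} ⊆ R * (bor a b c : Set G) := by
    intro L
    induction L with
    | nil => exact ⟨∅, ⟨Set.finite_empty, by simp⟩, fun x ⟨w, hw, _⟩ => absurd hw (List.not_mem_nil)⟩
    | cons w L ih =>
      obtain ⟨R, hR, hsub⟩ := ih
      obtain ⟨R', hR', hsub'⟩ := h.cell_small w
      refine ⟨R' ∪ R, by rw [List.map_cons, List.sum_cons]; exact hR'.union hR, ?_⟩
      rintro x ⟨v, hv, hx⟩
      rw [Set.union_mul]
      rcases List.mem_cons.1 hv with rfl | hv
      · exact Or.inl (hsub' hx)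
      · exact Or.inr (hsub ⟨v, hv, hx⟩)
  obtain ⟨R, hR, hsub⟩ := key cellWords.dropLast
  refine (hR.mul h.small_bor fun x hx => ?_).mono (by decide)
  obtain ⟨w, hw, hx⟩ := hx
  by_cases hl : w ∈ cellWords.dropLast
  · exact hsub ⟨w, hl, hx⟩
  · have : w = [true, false, true, false, true, false] := by
      revert hl
      simp only [cellWords, List.mem_cons, List.not_mem_nil, or_false] at hw
      rcases hw with rfl | rfl | rfl | rfl | rfl | rfl | rfl | rfl | rfl | rfl | rfl | rfl | rfl <;>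
        decide
    subst this
    rw [← h.longest] at hx
    exact hsub ⟨[false, true, false, true, false, true], by decide, hx⟩

/-- the group generated by a, b, c, d is finite -/
theorem closure_finite : Finite (Subgroup.closure ({a, b, c, d} : Set G)) :=
  (h.cells_small.1.subset h.closure_subset).to_subtype

/-- and it has at most as many elements as G₂(5) -/
theorem card_le : Nat.card (Subgroup.closure ({a, b, c, d} : Set G)) ≤ 5859000000 := by
  have hc : Nat.card (Subgroup.closure ({a, b, c, d} : Set G)) =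
      ((Subgroup.closure ({a, b, c, d} : Set G)) : Set G).ncard := rfl
  rw [hc]
  exact (Set.ncard_le_ncard h.closure_subset h.cells_small.1).trans h.cells_small.2

end Rels

end H68.Ly
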