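import Mathlib

/-!
Relations among four elements a, b, c, d (the first 44 relations of the presentation of the Lyons
group), and computation in the group generated by b and the conjugates of c.
-/

set_option autoImplicit false

namespace H68.Ly

variable {G : Type*} [Group G]

def q2 (a c : G) : G := a⁻¹ * c * a
def q3 (b c : G) : G := b⁻¹ * c * b
def q4 (b c : G) : G := b * c * b⁻¹
def q5 (a c : G) : G := c⁻¹ * (q2 a c)⁻¹ * c * q2 a c
def ee (a b c d : G) : G :=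
  (b ^ 2)⁻¹ * (a⁻¹ * c⁻¹ * a * c) * a⁻¹ * c * a * d * c * b * a * b⁻¹ * d * c * d

/-- the relations used -/
structure Rels (a b c d : G) : Prop where
  r1 : a ^ 8 = 1
  r2 : b ^ 5 = 1
  r3 : (a * b) ^ 4 = 1
  r4 : (a ^ 2)⁻¹ * b⁻¹ * a ^ 2 * b = 1
  r5 : (a⁻¹ * b⁻¹ * a * b) ^ 3 = 1
  r11 : c ^ 5 = 1
  r12 : q5 a c ^ 5 = 1
  r13 : c⁻¹ * (q5 a c)⁻¹ * c * q5 a c = 1
  r14 : (q2 a c)⁻¹ * (q5 a c)⁻¹ * q2 a c * q5 a c = 1
  r15 : (q3 b c)⁻¹ * (q5 a c)⁻¹ * q3 b c * q5 a c = 1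
  r16 : (q4 b c)⁻¹ * (q5 a c)⁻¹ * q4 b c * q5 a c = 1
  r17 : c⁻¹ * (q3 b c)⁻¹ * c * q3 b c = (q5 a c ^ 2)⁻¹
  r18 : c⁻¹ * (q4 b c)⁻¹ * c * q4 b c = q5 a c ^ 2
  r19 : (q2 a c)⁻¹ * (q3 b c)⁻¹ * q2 a c * q3 b c = (q5 a c)⁻¹
  r20 : (q2 a c)⁻¹ * (q4 b c)⁻¹ * q2 a c * q4 b c = 1
  r21 : (q3 b c)⁻¹ * (q4 b c)⁻¹ * q3 b c * q4 b c = (q5 a c)⁻¹
  r22 : a⁻¹ * q2 a c * a = (c ^ 2)⁻¹
  r23 : a⁻¹ * q3 b c * a = (q3 b c ^ 2)⁻¹ * c * q4 b c
  r24 : a⁻¹ * q4 b c * a = c * (q2 a c)⁻¹ * (q3 b c)⁻¹ * q4 b c * c * q4 b c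
  r25 : a⁻¹ * q5 a c * a = q5 a c ^ 2
  r26 : b⁻¹ * q2 a c * b = q2 a c * q3 b c * (q4 b c)⁻¹ * c⁻¹ * (q4 b c)⁻¹
  r27 : b⁻¹ * q3 b c * b = c ^ 2 * q4 b c * (q3 b c ^ 2)⁻¹
  r28 : b⁻¹ * q5 a c * b = q5 a c
  r30 : ee a b c d ^ 2 = 1
  r31 : (ee a b c d)⁻¹ * c * ee a b c d = b * q3 b c * b * c⁻¹
  r32 : (ee a b c d)⁻¹ * q3 b c * ee a b c d = b ^ 2 * a * q2 a c * c⁻¹ * (q4 b c)⁻¹ * a⁻¹
  r33 : (ee a b c d)⁻¹ * q4 b c * ee a b c d = b ^ 2 * (q3 b c)⁻¹ * q4 b c
  r34 : (ee a b c d)⁻¹ * q5 a c * ee a b c d = c * (q3 b c)⁻¹ * c * (q4 b c)⁻¹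
  r35 : ee a b c d * a ^ 2 * ee a b c d = a * b ^ 2 * a * b⁻¹ * a * c * q5 a c * (q4 b c)⁻¹
  r36 : (ee a b c d)⁻¹ * b * ee a b c d = c * (q3 b c)⁻¹ * (q4 b c ^ 2)⁻¹
  r38 : ee a b c d * q2 a c * ee a b c d * (q2 a c)⁻¹ * ee a b c d * q2 a c * (q4 b c)⁻¹ * a * q3 b c * a ^ 3 = 1
  r39 : d = a * b ^ 2 * a⁻¹ * b⁻¹ * c⁻¹ * (q4 b c)⁻¹ * (q5 a c)⁻¹ * a * ee a b c d * a *
      ee a b c d * a * (q2 a c)⁻¹ * b * ee a b c d
  r41 : b⁻¹ * d⁻¹ * b * d = 1
  r42 : d⁻¹ * a * d = a ^ 3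

/-! ### collection -/

/-- letters: 0 = b, 1, …, 5 = c₁, …, c₅ -/
def rule : ℕ → ℕ → List ℕ
  | 1, 0 => [0, 3]
  | 2, 0 => [0, 2, 3, 4, 4, 4, 4, 1, 1, 1, 1, 4, 4, 4, 4]
  | 3, 0 => [0, 1, 1, 4, 3, 3, 3]
  | 4, 0 => [0, 1]
  | 2, 1 => [1, 2, 5, 5, 5, 5]
  | 3, 1 => [1, 3, 5, 5]
  | 4, 1 => [1, 4, 5, 5, 5]
  | 3, 2 => [2, 3, 5]
  | 4, 3 => [3, 4, 5]
  | x, y => [y, x]

def step : List ℕ → List ℕ
  | [] => []
  | x :: t =>
    bif Nat.blt (t.headD x) x then rule x (t.headD x) ++ t.tail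
    else bif t.take 4 == [x, x, x, x] then t.drop 4 else x :: step t

def norm : ℕ → List ℕ → List ℕ
  | 0, l => l
  | n + 1, l =>
    let l' := step l
    bif l' == l then l else norm n l'

/-- inverse word -/
def winv (w : List ℕ) : List ℕ := w.reverse.flatMap fun i => [i, i, i, i]

def okWord (w : List ℕ) : Bool := w.all fun i => decide (i < 6)

/-- the value of a letter -/
def gen (a b c : G) : ℕ → G
  | 0 => b
  | 1 => c
  | 2 => q2 a c
  | 3 => q3 b c
  | 4 => q4 b c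
  | _ => q5 a c

/-- the value of a word -/
def ev (a b c : G) (w : List ℕ) : G := (w.map (gen a b c)).prod

theorem ev_nil (a b c : G) : ev a b c [] = 1 := rfl

theorem ev_cons (a b c : G) (i : ℕ) (w : List ℕ) : ev a b c (i :: w) = gen a b c i * ev a b c w := rfl

theorem ev_append (a b c : G) (v w : List ℕ) : ev a b c (v ++ w) = ev a b c v * ev a b c w := by
  simp [ev]

namespace Rels

variable {a b c d : G} (h : Rels a b c d)
include h

theorem gen_pow : ∀ i, gen a b c i ^ 5 = 1 := by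
  have hc := h.r11
  intro i
  match i with
  | 0 => exact h.r2
  | 1 => exact hc
  | 2 => show (a⁻¹ * c * a) ^ 5 = 1; have e := conj_pow (i := 5) (a := a⁻¹) (b := c); rw [inv_inv] at e; rw [e, hc]; simp
  | 3 => show (b⁻¹ * c * b) ^ 5 = 1; have e := conj_pow (i := 5) (a := b⁻¹) (b := c); rw [inv_inv] at e; rw [e, hc]; simp
  | 4 => show (b * c * b⁻¹) ^ 5 = 1; rw [conj_pow, hc]; simp
  | n + 5 => exact h.r12

theorem gen_inv (i : ℕ) : (gen a b c i)⁻¹ = gen a b c i ^ 4 := by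
  refine inv_eq_of_mul_eq_one_left ?_
  rw [← pow_succ, h.gen_pow i]

theorem c5comm (i : ℕ) : Commute (gen a b c i) (q5 a c) := by
  have key : ∀ x : G, x⁻¹ * (q5 a c)⁻¹ * x * q5 a c = 1 → Commute x (q5 a c) := by
    intro x hx
    have e : q5 a c * x * (x⁻¹ * (q5 a c)⁻¹ * x * q5 a c) = x * q5 a c := by group
    rw [hx, mul_one] at e
    exact e.symm
  match i with
  | 0 =>
    have e : b * (b⁻¹ * q5 a c * b) = q5 a c * b := by group
    rw [h.r28] at e
    exact e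
  | 1 => exact key _ h.r13
  | 2 => exact key _ h.r14
  | 3 => exact key _ h.r15
  | 4 => exact key _ h.r16
  | n + 5 => exact Commute.refl _

theorem rule_eq : ∀ x y, y < x → x < 6 → ev a b c (rule x y) = gen a b c x * gen a b c y := by
  intro x y hyx hx
  have sw : ∀ p q k : G, p⁻¹ * q⁻¹ * p * q = k → Commute p k → Commute q k → q * p = p * q * k⁻¹ := by
    intro p q k e hp hq
    rw [← e]; group
  have i2 := h.gen_inv 1
  interval_cases x <;> interval_cases y <;> simp only [rule, ev, List.map, List.prod_cons, List.prod_nil, mul_one, gen]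
  · -- c1 b
    simp [q3, mul_assoc]
  · -- c2 b
    have e : q2 a c * b = b * (b⁻¹ * q2 a c * b) := by group
    rw [e, h.r26]
    have e4 : (q4 b c)⁻¹ = q4 b c ^ 4 := h.gen_inv 4
    have e1 : c⁻¹ = c ^ 4 := h.gen_inv 1
    rw [e4, e1]
    simp only [pow_succ, pow_zero, one_mul, mul_assoc]
  · -- c2 c1
    have := sw c (q2 a c) (q5 a c) rfl (h.c5comm 1) (h.c5comm 2)
    rw [this, show (q5 a c)⁻¹ = q5 a c ^ 4 from h.gen_inv 5]
    simp only [pow_succ, pow_zero, one_mul, mul_assoc]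
  · -- c3 b
    have e : q3 b c * b = b * (b⁻¹ * q3 b c * b) := by group
    rw [e, h.r27]
    have e3 : (q3 b c ^ 2)⁻¹ = q3 b c ^ 3 := by
      refine inv_eq_of_mul_eq_one_left ?_
      rw [← pow_add]; exact h.gen_pow 3
    rw [e3]
    simp only [pow_succ, pow_zero, one_mul, mul_assoc]
  · have := sw c (q3 b c) _ h.r17 ((h.c5comm 1).pow_right 2).inv_right ((h.c5comm 3).pow_right 2).inv_right
    rw [this, inv_inv]
    simp only [pow_succ, pow_zero, one_mul, mul_assoc]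
  · have := sw (q2 a c) (q3 b c) _ h.r19 (h.c5comm 2).inv_right (h.c5comm 3).inv_right
    rw [this, inv_inv]
    simp only [mul_assoc]
  · -- c4 b
    simp [q4]
  · have := sw c (q4 b c) _ h.r18 ((h.c5comm 1).pow_right 2) ((h.c5comm 4).pow_right 2)
    rw [this, show (q5 a c ^ 2)⁻¹ = q5 a c ^ 3 from inv_eq_of_mul_eq_one_left (by rw [← pow_add]; exact h.r12)]
    simp only [pow_succ, pow_zero, one_mul, mul_assoc]
  · have := sw (q2 a c) (q4 b c) _ h.r20 (Commute.one_right _) (Commute.one_right _)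
    rw [this]; simp
  · have := sw (q3 b c) (q4 b c) _ h.r21 (h.c5comm 3).inv_right (h.c5comm 4).inv_right
    rw [this, inv_inv]
    simp only [mul_assoc]
  all_goals first
    | exact (h.c5comm 0).eq
    | exact (h.c5comm 1).eq
    | exact (h.c5comm 2).eq
    | exact (h.c5comm 3).eq
    | exact (h.c5comm 4).eq

theorem step_eq : ∀ (l : List ℕ), (∀ x ∈ l, x < 6) →
    ev a b c (step l) = ev a b c l ∧ ∀ x ∈ step l, x < 6 := by
  intro l
  induction l with
  | nil => intro _; exact ⟨rfl, by simp [step]⟩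
  | cons x t ih =>
    intro hl
    have hx : x < 6 := hl x List.mem_cons_self
    have ht : ∀ y ∈ t, y < 6 := fun y hy => hl y (List.mem_cons_of_mem _ hy)
    rw [step]
    by_cases h1 : Nat.blt (t.headD x) x = true
    · rw [h1, cond_true]
      have h1' : t.headD x < x := Eq.mp Nat.blt_eq h1
      match t, ht, h1' with
      | [], _, h1' => exact absurd h1' (lt_irrefl x)
      | y :: t', ht, h1' =>
        simp only [List.headD_cons, List.tail_cons] at h1' ⊢
        refine ⟨?_, fun z hz => ?_⟩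
        · rw [ev_append, h.rule_eq x y h1' hx]; simp [ev, mul_assoc]
        · rcases List.mem_append.1 hz with hz | hz
          · have key : ∀ x < 6, ∀ y < 6, ∀ z ∈ rule x y, z < 6 := by decide
            exact key x hx y (ht y List.mem_cons_self) z hz
          · exact ht z (List.mem_cons_of_mem _ hz)
    · rw [Bool.not_eq_true] at h1
      rw [h1, cond_false]
      by_cases h2 : (t.take 4 == [x, x, x, x]) = true
      · rw [h2, cond_true]
        have h2' : t.take 4 = [x, x, x, x] := eq_of_beq h2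
        refine ⟨?_, fun z hz => ht z (List.mem_of_mem_drop hz)⟩
        conv_rhs => rw [← List.take_append_drop 4 t, h2']
        rw [ev_cons, ev_append, ← mul_assoc]
        have e : gen a b c x * ev a b c [x, x, x, x] = gen a b c x ^ 5 := by
          simp [ev, pow_succ, mul_assoc]
        rw [e, h.gen_pow, one_mul]
      · rw [Bool.not_eq_true] at h2
        rw [h2, cond_false]
        obtain ⟨e, hm⟩ := ih ht
        refine ⟨by rw [ev_cons, ev_cons, e], fun z hz => ?_⟩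
        rcases List.mem_cons.1 hz with rfl | hz
        exacts [hx, hm z hz]

theorem norm_eq : ∀ (n : ℕ) (l : List ℕ), okWord l = true → ev a b c (norm n l) = ev a b c l
  | 0, _, _ => rfl
  | n + 1, l, hl => by
    have hl' : ∀ x ∈ l, x < 6 := by simpa [okWord] using hl
    obtain ⟨e, hm⟩ := h.step_eq l hl'
    rw [norm]
    by_cases hs : (step l == l) = true
    · simp only [hs, cond_true]
    · rw [Bool.not_eq_true] at hs
      simp only [hs, cond_false]
      rw [norm_eq n (step l) (by simpa [okWord] using hm), e]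

/-- two words with the same normal form have the same value -/
theorem ev_eq_of_norm {v w : List ℕ}
    (hvw : (okWord v && okWord w && norm 4000 v == norm 4000 w) = true) :
    ev a b c v = ev a b c w := by
  simp only [Bool.and_eq_true, beq_iff_eq] at hvw
  obtain ⟨⟨h1, h2⟩, h3⟩ := hvw
  rw [← h.norm_eq 4000 v h1, ← h.norm_eq 4000 w h2, h3]

theorem ev_winv (w : List ℕ) : ev a b c (winv w) = (ev a b c w)⁻¹ := by
  induction w with
  | nil => simp [winv, ev]
  | cons i w ih =>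
    have e : winv (i :: w) = winv w ++ [i, i, i, i] := by simp [winv]
    rw [e, ev_append, ih, show ev a b c (i :: w) = gen a b c i * ev a b c w from rfl, mul_inv_rev,
      h.gen_inv i]
    congr 1
    simp [ev, pow_succ, mul_assoc]

end Rels

end H68.Ly
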