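import Cfsg.Agent.H68.Ly.RepWord

/-! Kernel check of some relators. -/

set_option autoImplicit false
set_option maxRecDepth 100000
set_option maxHeartbeats 0
set_option Elab.async false

namespace H68.Ly

theorem check0 : checkRange 0 1 = true := by decide +kernel

theorem check10 : checkRange 10 1 = true := by decide +kernel

theorem check25 : checkRange 25 1 = true := by decide +kernel

theorem check29 : checkRange 29 1 = true := by decide +kernel

theorem check32 : checkRange 32 1 = true := by decide +kernel

theorem check37 : checkRange 37 1 = true := by decide +kernel

theorem check39 : checkRange 39 1 = true := by decide +kernel

theorem check52 : checkRange 52 1 = true := by decide +kernel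

theorem check58 : checkRange 58 1 = true := by decide +kernel

theorem check64 : checkRange 64 1 = true := by decide +kernel

theorem check70 : checkRange 70 1 = true := by decide +kernel

theorem check73 : checkRange 73 1 = true := by decide +kernel

theorem check76 : checkRange 76 1 = true := by decide +kernel

end H68.Ly
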