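import Cfsg.Agent.H68.Ly.RepWord

/-! Kernel check of some relators. -/

set_option autoImplicit false
set_option maxRecDepth 100000
set_option maxHeartbeats 0
set_option Elab.async false

namespace H68.Ly

theorem check15 : checkRange 15 1 = true := by decide +kernel

theorem check21 : checkRange 21 1 = true := by decide +kernel

theorem check22 : checkRange 22 1 = true := by decide +kernel

theorem check23 : checkRange 23 1 = true := by decide +kernel

theorem check26 : checkRange 26 1 = true := by decide +kernel

theorem check38 : checkRange 38 1 = true := by decide +kernel

theorem check40 : checkRange 40 1 = true := by decide +kernel

theorem check43 : checkRange 43 1 = true := by decide +kernel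

theorem check47 : checkRange 47 1 = true := by decide +kernel

theorem check53 : checkRange 53 1 = true := by decide +kernel

theorem check59 : checkRange 59 1 = true := by decide +kernel

theorem check65 : checkRange 65 1 = true := by decide +kernel

theorem check71 : checkRange 71 1 = true := by decide +kernel

theorem check85 : checkRange 85 1 = true := by decide +kernel

end H68.Ly
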