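import Cfsg.Agent.H68.Ly.RepWord

/-! Kernel check of some relators. -/

set_option autoImplicit false
set_option maxRecDepth 100000
set_option maxHeartbeats 0
set_option Elab.async false

namespace H68.Ly

theorem check1 : checkRange 1 1 = true := by decide +kernel

theorem check3 : checkRange 3 1 = true := by decide +kernel

theorem check14 : checkRange 14 1 = true := by decide +kernel

theorem check33 : checkRange 33 1 = true := by decide +kernel

theorem check35 : checkRange 35 1 = true := by decide +kernel

theorem check48 : checkRange 48 1 = true := by decide +kernel

theorem check54 : checkRange 54 1 = true := by decide +kernel

theorem check60 : checkRange 60 1 = true := by decide +kernel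

theorem check66 : checkRange 66 1 = true := by decide +kernel

theorem check72 : checkRange 72 1 = true := by decide +kernel

theorem check74 : checkRange 74 1 = true := by decide +kernel

theorem check81 : checkRange 81 1 = true := by decide +kernel

theorem check82 : checkRange 82 1 = true := by decide +kernel

end H68.Ly
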