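import Cfsg.Agent.H68.Ly.RepWord

/-! Kernel check of some relators. -/

set_option autoImplicit false
set_option maxRecDepth 100000
set_option maxHeartbeats 0
set_option Elab.async false

namespace H68.Ly

theorem check12 : checkRange 12 1 = true := by decide +kernel

theorem check17 : checkRange 17 1 = true := by decide +kernel

theorem check18 : checkRange 18 1 = true := by decide +kernel

theorem check30 : checkRange 30 1 = true := by decide +kernel

theorem check34 : checkRange 34 1 = true := by decide +kernel

theorem check41 : checkRange 41 1 = true := by decide +kernel

theorem check49 : checkRange 49 1 = true := by decide +kernel

theorem check55 : checkRange 55 1 = true := by decide +kernel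

theorem check61 : checkRange 61 1 = true := by decide +kernel

theorem check67 : checkRange 67 1 = true := by decide +kernel

theorem check75 : checkRange 75 1 = true := by decide +kernel

theorem check80 : checkRange 80 1 = true := by decide +kernel

theorem check83 : checkRange 83 1 = true := by decide +kernel

end H68.Ly
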