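import Cfsg.Agent.H68.Ly.RepWord

/-! Kernel check of some relators. -/

set_option autoImplicit false
set_option maxRecDepth 100000
set_option maxHeartbeats 0
set_option Elab.async false

namespace H68.Ly

theorem check2 : checkRange 2 1 = true := by decide +kernel

theorem check5 : checkRange 5 1 = true := by decide +kernel

theorem check6 : checkRange 6 1 = true := by decide +kernel

theorem check8 : checkRange 8 1 = true := by decide +kernel

theorem check11 : checkRange 11 1 = true := by decide +kernel

theorem check19 : checkRange 19 1 = true := by decide +kernel

theorem check20 : checkRange 20 1 = true := by decide +kernel

theorem check24 : checkRange 24 1 = true := by decide +kernel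

theorem check28 : checkRange 28 1 = true := by decide +kernel

theorem check36 : checkRange 36 1 = true := by decide +kernel

theorem check42 : checkRange 42 1 = true := by decide +kernel

theorem check45 : checkRange 45 1 = true := by decide +kernel

theorem check50 : checkRange 50 1 = true := by decide +kernel

theorem check56 : checkRange 56 1 = true := by decide +kernel

theorem check62 : checkRange 62 1 = true := by decide +kernel

theorem check68 : checkRange 68 1 = true := by decide +kernel

theorem check79 : checkRange 79 1 = true := by decide +kernel

end H68.Ly
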