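import Cfsg.Agent.H68.Ly.RepCheck0
import Cfsg.Agent.H68.Ly.RepCheck1
import Cfsg.Agent.H68.Ly.RepCheck2
import Cfsg.Agent.H68.Ly.RepCheck3
import Cfsg.Agent.H68.Ly.RepCheck4
import Cfsg.Agent.H68.Ly.RepCheck5

/-!
The presented Lyons group has a 111-dimensional representation over the field with five elements
in which the generator `a` is not the identity.
-/

set_option autoImplicit false
set_option maxRecDepth 100000

namespace H68.Ly

/-- the inverse letter -/
def invLetter (k : ℕ) : ℕ := if k < 5 then k + 5 else k - 5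

theorem tab_ok : ∀ k, k < 10 → tabOK (tab k) = true := by
  intro k hk
  have h : (List.range 10).all (fun k => tabOK (tab k)) = true := by decide +kernel
  exact List.all_eq_true.1 h k (List.mem_range.2 hk)

theorem tab_inv : ∀ k, k < 10 → isOneR ([tab k, tab (invLetter k)].map packTab) = true := by
  intro k hk
  have h : (List.range 10).all (fun k => isOneR [rows k, rows (invLetter k)]) = true := by decide +kernel
  simpa [rows_eq] using List.all_eq_true.1 h k (List.mem_range.2 hk)

theorem invLetter_lt {k : ℕ} (hk : k < 10) : invLetter k < 10 := by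
  unfold invLetter; split <;> omega

theorem invLetter_invLetter {k : ℕ} (hk : k < 10) : invLetter (invLetter k) = k := by
  unfold invLetter; split_ifs <;> omega

theorem toM_mul_inv {k : ℕ} (hk : k < 10) : toM (tab k) * toM (tab (invLetter k)) = 1 := by
  have := isOneR_spec (w := [tab k, tab (invLetter k)])
    (by
      intro S hS
      rcases List.mem_cons.1 hS with rfl | hS
      · exact tab_ok k hk
      · rw [List.mem_singleton.1 hS]; exact tab_ok _ (invLetter_lt hk))
    (tab_inv k hk)
  simpa using this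

/-- the unit of a letter -/
noncomputable def U (k : ℕ) : GL (Fin 111) (ZMod 5) :=
  if hk : k < 10 then
    { val := toM (tab k)
      inv := toM (tab (invLetter k))
      val_inv := toM_mul_inv hk
      inv_val := by
        have := toM_mul_inv (invLetter_lt hk)
        rwa [invLetter_invLetter hk] at this }
  else 1

theorem coe_U {k : ℕ} (hk : k < 10) : (U k : Mat) = toM (tab k) := by rw [U, dif_pos hk]

theorem U_inv {k : ℕ} (hk : k < 10) : U (invLetter k) = (U k)⁻¹ := by
  refine eq_inv_of_mul_eq_one_right (Units.ext ?_)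
  rw [Units.val_mul, coe_U hk, coe_U (invLetter_lt hk), Units.val_one]
  exact toM_mul_inv hk

/-- the unit of a word -/
noncomputable def W (w : List ℕ) : GL (Fin 111) (ZMod 5) := (w.map U).prod

theorem W_push {k : ℕ} (hk : k < 10) : ∀ {w : List ℕ}, (∀ x ∈ w, x < 10) →
    W (push k w) = U k * W w ∧ ∀ x ∈ push k w, x < 10
  | [], _ => by simp [push, W, hk]
  | j :: t, h => by
    by_cases e : Nat.beq j (if k < 5 then k + 5 else k - 5) = true
    · have hp : push k (j :: t) = t := by simp only [push, e, cond_true]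
      have ej : j = invLetter k := Nat.eq_of_beq_eq_true e
      refine ⟨?_, fun x hx => h x (by rw [hp] at hx; exact List.mem_cons_of_mem _ hx)⟩
      rw [hp, ej]
      simp [W, U_inv hk]
    · have hp : push k (j :: t) = k :: j :: t := by simp only [push, e, cond_false]
      refine ⟨by rw [hp]; simp [W], fun x hx => ?_⟩
      rw [hp] at hx
      rcases List.mem_cons.1 hx with rfl | hx
      exacts [hk, h x hx]

theorem W_redWord : ∀ {w : List ℕ}, (∀ x ∈ w, x < 10) →
    W (redWord w) = W w ∧ ∀ x ∈ redWord w, x < 10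
  | [], _ => by simp [redWord]
  | k :: w, h => by
    obtain ⟨h1, h2⟩ := W_redWord (w := w) fun x hx => h x (List.mem_cons_of_mem _ hx)
    obtain ⟨h3, h4⟩ := W_push (h k List.mem_cons_self) h2
    refine ⟨?_, h4⟩
    show W (push k (redWord w)) = _
    rw [h3, h1]; simp [W]

theorem genWord_lt : ∀ g, ∀ x ∈ genWord g, x < 10 := by
  intro g; cases g <;> decide

theorem invWord_lt {w : List ℕ} (h : ∀ x ∈ w, x < 10) : ∀ x ∈ invWord w, x < 10 := by
  intro x hx
  simp only [invWord, List.mem_map, List.mem_reverse] at hx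
  obtain ⟨k, hk, rfl⟩ := hx
  exact invLetter_lt (h k hk)

theorem W_invWord : ∀ {w : List ℕ}, (∀ x ∈ w, x < 10) → W (invWord w) = (W w)⁻¹
  | [], _ => by simp [invWord, W]
  | k :: w, h => by
    have e : invWord (k :: w) = invWord w ++ [invLetter k] := by
      simp [invWord, invLetter]
    rw [e]
    have h1 := W_invWord (w := w) fun x hx => h x (List.mem_cons_of_mem _ hx)
    simp only [W, List.map_append, List.prod_append, List.map_cons, List.prod_cons, List.map_nil,
      List.prod_nil, mul_one, mul_inv_rev] at h1 ⊢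
    rw [h1, U_inv (h k List.mem_cons_self)]

/-- the images of the generators -/
noncomputable def img (g : Cfsg.Spor.Ly.Gen) : GL (Fin 111) (ZMod 5) := W (genWord g)

theorem lift_img (r : FreeGroup Cfsg.Spor.Ly.Gen) :
    FreeGroup.lift img r = W (redWord (r.toWord.flatMap letWord)) := by
  have hlt : ∀ L : List (Cfsg.Spor.Ly.Gen × Bool), ∀ x ∈ L.flatMap letWord, x < 10 := by
    intro L x hx
    obtain ⟨⟨g, b⟩, -, hx⟩ := List.mem_flatMap.1 hx
    cases b
    · exact invWord_lt (genWord_lt g) x hx
    · exact genWord_lt g x hx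
  rw [(W_redWord (hlt _)).1]
  conv_lhs => rw [← FreeGroup.mk_toWord (x := r), FreeGroup.lift_mk]
  generalize r.toWord = L
  induction L with
  | nil => simp [W]
  | cons x L ih =>
    obtain ⟨g, b⟩ := x
    rw [List.map_cons, List.prod_cons, ih, List.flatMap_cons, W, W, List.map_append, List.prod_append]
    congr 1
    cases b
    · exact (W_invWord (genWord_lt g)).symm
    · rfl

theorem check_all : ∀ r ∈ Cfsg.Spor.Ly.extra,
    isOneR ((redWord (r.toWord.flatMap letWord)).map rows) = true := by
  intro r hr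
  obtain ⟨i, hi, rfl⟩ := List.mem_iff_getElem.1 hr
  have hlen : Cfsg.Spor.Ly.extra.length = 86 := rfl
  have key : ∀ lo n, checkRange lo n = true → lo ≤ i → i < lo + n →
      isOneR ((redWord (Cfsg.Spor.Ly.extra[i].toWord.flatMap letWord)).map rows) = true := by
    intro lo n h h1 h2
    refine List.all_eq_true.1 h _ (List.mem_iff_getElem.2 ⟨i - lo, by simp; omega, ?_⟩)
    simp only [List.getElem_take, List.getElem_drop]
    congr 1
    omega
  rw [hlen] at hi
  interval_cases i
  · exact key 0 1 check0 le_rfl (Nat.lt_succ_self _)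
  · exact key 1 1 check1 le_rfl (Nat.lt_succ_self _)
  · exact key 2 1 check2 le_rfl (Nat.lt_succ_self _)
  · exact key 3 1 check3 le_rfl (Nat.lt_succ_self _)
  · exact key 4 1 check4 le_rfl (Nat.lt_succ_self _)
  · exact key 5 1 check5 le_rfl (Nat.lt_succ_self _)
  · exact key 6 1 check6 le_rfl (Nat.lt_succ_self _)
  · exact key 7 1 check7 le_rfl (Nat.lt_succ_self _)
  · exact key 8 1 check8 le_rfl (Nat.lt_succ_self _)
  · exact key 9 1 check9 le_rfl (Nat.lt_succ_self _)
  · exact key 10 1 check10 le_rfl (Nat.lt_succ_self _)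
  · exact key 11 1 check11 le_rfl (Nat.lt_succ_self _)
  · exact key 12 1 check12 le_rfl (Nat.lt_succ_self _)
  · exact key 13 1 check13 le_rfl (Nat.lt_succ_self _)
  · exact key 14 1 check14 le_rfl (Nat.lt_succ_self _)
  · exact key 15 1 check15 le_rfl (Nat.lt_succ_self _)
  · exact key 16 1 check16 le_rfl (Nat.lt_succ_self _)
  · exact key 17 1 check17 le_rfl (Nat.lt_succ_self _)
  · exact key 18 1 check18 le_rfl (Nat.lt_succ_self _)
  · exact key 19 1 check19 le_rfl (Nat.lt_succ_self _)
  · exact key 20 1 check20 le_rfl (Nat.lt_succ_self _)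
  · exact key 21 1 check21 le_rfl (Nat.lt_succ_self _)
  · exact key 22 1 check22 le_rfl (Nat.lt_succ_self _)
  · exact key 23 1 check23 le_rfl (Nat.lt_succ_self _)
  · exact key 24 1 check24 le_rfl (Nat.lt_succ_self _)
  · exact key 25 1 check25 le_rfl (Nat.lt_succ_self _)
  · exact key 26 1 check26 le_rfl (Nat.lt_succ_self _)
  · exact key 27 1 check27 le_rfl (Nat.lt_succ_self _)
  · exact key 28 1 check28 le_rfl (Nat.lt_succ_self _)
  · exact key 29 1 check29 le_rfl (Nat.lt_succ_self _)
  · exact key 30 1 check30 le_rfl (Nat.lt_succ_self _)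
  · exact key 31 1 check31 le_rfl (Nat.lt_succ_self _)
  · exact key 32 1 check32 le_rfl (Nat.lt_succ_self _)
  · exact key 33 1 check33 le_rfl (Nat.lt_succ_self _)
  · exact key 34 1 check34 le_rfl (Nat.lt_succ_self _)
  · exact key 35 1 check35 le_rfl (Nat.lt_succ_self _)
  · exact key 36 1 check36 le_rfl (Nat.lt_succ_self _)
  · exact key 37 1 check37 le_rfl (Nat.lt_succ_self _)
  · exact key 38 1 check38 le_rfl (Nat.lt_succ_self _)
  · exact key 39 1 check39 le_rfl (Nat.lt_succ_self _)
  · exact key 40 1 check40 le_rfl (Nat.lt_succ_self _)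
  · exact key 41 1 check41 le_rfl (Nat.lt_succ_self _)
  · exact key 42 1 check42 le_rfl (Nat.lt_succ_self _)
  · exact key 43 1 check43 le_rfl (Nat.lt_succ_self _)
  · exact key 44 1 check44 le_rfl (Nat.lt_succ_self _)
  · exact key 45 1 check45 le_rfl (Nat.lt_succ_self _)
  · exact key 46 1 check46 le_rfl (Nat.lt_succ_self _)
  · exact key 47 1 check47 le_rfl (Nat.lt_succ_self _)
  · exact key 48 1 check48 le_rfl (Nat.lt_succ_self _)
  · exact key 49 1 check49 le_rfl (Nat.lt_succ_self _)
  · exact key 50 1 check50 le_rfl (Nat.lt_succ_self _)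
  · exact key 51 1 check51 le_rfl (Nat.lt_succ_self _)
  · exact key 52 1 check52 le_rfl (Nat.lt_succ_self _)
  · exact key 53 1 check53 le_rfl (Nat.lt_succ_self _)
  · exact key 54 1 check54 le_rfl (Nat.lt_succ_self _)
  · exact key 55 1 check55 le_rfl (Nat.lt_succ_self _)
  · exact key 56 1 check56 le_rfl (Nat.lt_succ_self _)
  · exact key 57 1 check57 le_rfl (Nat.lt_succ_self _)
  · exact key 58 1 check58 le_rfl (Nat.lt_succ_self _)
  · exact key 59 1 check59 le_rfl (Nat.lt_succ_self _)
  · exact key 60 1 check60 le_rfl (Nat.lt_succ_self _)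
  · exact key 61 1 check61 le_rfl (Nat.lt_succ_self _)
  · exact key 62 1 check62 le_rfl (Nat.lt_succ_self _)
  · exact key 63 1 check63 le_rfl (Nat.lt_succ_self _)
  · exact key 64 1 check64 le_rfl (Nat.lt_succ_self _)
  · exact key 65 1 check65 le_rfl (Nat.lt_succ_self _)
  · exact key 66 1 check66 le_rfl (Nat.lt_succ_self _)
  · exact key 67 1 check67 le_rfl (Nat.lt_succ_self _)
  · exact key 68 1 check68 le_rfl (Nat.lt_succ_self _)
  · exact key 69 1 check69 le_rfl (Nat.lt_succ_self _)
  · exact key 70 1 check70 le_rfl (Nat.lt_succ_self _)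
  · exact key 71 1 check71 le_rfl (Nat.lt_succ_self _)
  · exact key 72 1 check72 le_rfl (Nat.lt_succ_self _)
  · exact key 73 1 check73 le_rfl (Nat.lt_succ_self _)
  · exact key 74 1 check74 le_rfl (Nat.lt_succ_self _)
  · exact key 75 1 check75 le_rfl (Nat.lt_succ_self _)
  · exact key 76 1 check76 le_rfl (Nat.lt_succ_self _)
  · exact key 77 1 check77 le_rfl (Nat.lt_succ_self _)
  · exact key 78 1 check78 le_rfl (Nat.lt_succ_self _)
  · exact key 79 1 check79 le_rfl (Nat.lt_succ_self _)
  · exact key 80 1 check80 le_rfl (Nat.lt_succ_self _)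
  · exact key 81 1 check81 le_rfl (Nat.lt_succ_self _)
  · exact key 82 1 check82 le_rfl (Nat.lt_succ_self _)
  · exact key 83 1 check83 le_rfl (Nat.lt_succ_self _)
  · exact key 84 1 check84 le_rfl (Nat.lt_succ_self _)
  · exact key 85 1 check85 le_rfl (Nat.lt_succ_self _)

theorem lift_extra : ∀ r ∈ Cfsg.Spor.Ly.extra, FreeGroup.lift img r = 1 := by
  intro r hr
  rw [lift_img]
  have hlt : ∀ x ∈ r.toWord.flatMap letWord, x < 10 := by
    intro x hx
    obtain ⟨⟨g, b⟩, -, hx⟩ := List.mem_flatMap.1 hx
    cases b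
    · exact invWord_lt (genWord_lt g) x hx
    · exact genWord_lt g x hx
  have hlt' := (W_redWord hlt).2
  have h := isOneR_spec (w := (redWord (r.toWord.flatMap letWord)).map tab) (by
      intro S hS
      obtain ⟨k, hk, rfl⟩ := List.mem_map.1 hS
      exact tab_ok k (hlt' k hk)) (by rw [List.map_map, ← check_all r hr]; exact congrArg isOneR (List.map_congr_left fun k _ => (rows_eq k).symm))
  refine Units.ext ?_
  rw [Units.val_one, ← h, W]
  generalize redWord (r.toWord.flatMap letWord) = w at hlt' ⊢
  induction w with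
  | nil => simp
  | cons k w ih =>
    simp only [List.map_cons, List.prod_cons, Units.val_mul]
    rw [ih fun x hx => hlt' x (List.mem_cons_of_mem _ hx), coe_U (hlt' k List.mem_cons_self)]

/-- the representation -/
noncomputable def rep : Cfsg.Spor.Ly →* GL (Fin 111) (ZMod 5) :=
  PresentedGroup.toGroup (f := img) (by
    intro r hr
    rcases hr with hr | hr
    · obtain ⟨x, hx, -⟩ := hr
      simp [Cfsg.Spor.coxNodes, Cfsg.Spor.Ly.edges] at hx
    · exact lift_extra r hr)

theorem rep_a_ne_one :
    rep (PresentedGroup.mk (Cfsg.Spor.coxRelators Cfsg.Spor.Ly.edges ∪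
      {r | r ∈ Cfsg.Spor.Ly.extra}) Cfsg.Spor.Ly.a) ≠ 1 := by
  intro h
  have h1 : img Cfsg.Spor.Ly.Gen.a = 1 := by
    rw [← h]; exact (PresentedGroup.toGroup.of _).symm
  have h2 : toM tabA = 1 := by
    have := congrArg (fun g : GL (Fin 111) (ZMod 5) => (g : Mat)) h1
    simpa [img, genWord, W, coe_U, tab] using this
  have h3 : (List.range 111).all (fun i => (List.range 111).all fun j =>
      (tabA.getD i []).getD j 0 == if i = j then 1 else 0) = false := by decide +kernel
  have h4 : (List.range 111).all (fun i => (List.range 111).all fun j =>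
      (tabA.getD i []).getD j 0 == if i = j then 1 else 0) = true := by
    simp only [List.all_eq_true, List.mem_range, beq_iff_eq]
    intro i hi j hj
    have hb : (tabA.getD i []).getD j 0 < 5 := by
      have := tab_ok 0 (by norm_num)
      simp only [tabOK, tab, Bool.and_eq_true, beq_iff_eq, List.all_eq_true, decide_eq_true_eq] at this
      obtain ⟨hl, hr⟩ := this
      have hi' : i < tabA.length := by omega
      rw [List.getD_eq_getElem _ _ hi']
      obtain ⟨hrl, hre⟩ := hr _ (List.getElem_mem hi')
      rw [List.getD_eq_getElem _ _ (by omega : j < tabA[i].length)]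
      exact hre _ (List.getElem_mem _)
    have h5 := congrFun (congrFun h2 ⟨i, hi⟩) ⟨j, hj⟩
    rw [toM, Matrix.of_apply, Matrix.one_apply] at h5
    have h6 : ((tabA.getD i []).getD j 0 : ZMod 5) = ((if i = j then 1 else 0 : ℕ) : ZMod 5) := by
      rw [h5]; by_cases e : i = j <;> simp [e, Fin.ext_iff]
    rw [ZMod.natCast_eq_natCast_iff'] at h6
    rw [Nat.mod_eq_of_lt hb] at h6
    rw [h6]; split <;> rfl
  rw [h4] at h3; exact Bool.noConfusion h3

end H68.Ly
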