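import Cfsg.Agent.H68.Ly.PackedSound

/-!
Products of 111 × 111 matrices modulo five with the whole matrix packed into one natural number:
a product costs 111 long multiplications.
-/

set_option autoImplicit false

namespace H68.Ly

open H60.PackMat

/-- the number with the given first `m` digits to base `2 ^ W` -/
def qk (W : ℕ) : ℕ → (ℕ → ℕ) → ℕ
  | 0, _ => 0
  | m + 1, f => f 0 + 2 ^ W * qk W m fun i => f (i + 1)

theorem qk_congr (W : ℕ) : ∀ (m : ℕ) {f g : ℕ → ℕ}, (∀ i < m, f i = g i) → qk W m f = qk W m g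
  | 0, _, _, _ => rfl
  | m + 1, _, _, h => by
    rw [qk, qk, h 0 (Nat.succ_pos m), qk_congr W m fun i hi => h (i + 1) (Nat.succ_lt_succ hi)]

theorem qk_add (W : ℕ) : ∀ (m : ℕ) (f g : ℕ → ℕ), qk W m (fun i => f i + g i) = qk W m f + qk W m g
  | 0, _, _ => rfl
  | m + 1, f, g => by rw [qk, qk, qk, qk_add W m]; ring

theorem qk_mul (W : ℕ) : ∀ (m c : ℕ) (f : ℕ → ℕ), qk W m (fun i => f i * c) = qk W m f * c
  | 0, c, _ => by simp [qk]
  | m + 1, c, f => by rw [qk, qk, qk_mul W m]; ring

theorem qk_zero (W : ℕ) : ∀ m : ℕ, qk W m (fun _ => 0) = 0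
  | 0 => rfl
  | m + 1 => by rw [qk, qk_zero W m, mul_zero, zero_add]

theorem qk_sum (W m : ℕ) (F : ℕ → ℕ → ℕ) : ∀ L : ℕ,
    qk W m (fun i => ∑ j ∈ Finset.range L, F j i) = ∑ j ∈ Finset.range L, qk W m (F j)
  | 0 => by simp [qk_zero]
  | L + 1 => by simp only [Finset.sum_range_succ]; rw [qk_add, qk_sum W m F L]

theorem pk_sum (n : ℕ) (F : ℕ → ℕ → ℕ) : ∀ L : ℕ,
    pk n (fun k => ∑ j ∈ Finset.range L, F j k) = ∑ j ∈ Finset.range L, pk n (F j)
  | 0 => by simp [pk_zero]
  | L + 1 => by simp only [Finset.sum_range_succ]; rw [pk_add, pk_sum n F L]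

theorem qk_pk (n : ℕ) (hn : 0 < n) : ∀ (m : ℕ) (g : ℕ → ℕ → ℕ),
    qk (32 * n) m (fun i => pk n (g i)) = pk (n * m) fun k => g (k / n) (k % n)
  | 0, g => by simp [qk, pk]
  | m + 1, g => by
    rw [qk, qk_pk n hn m fun i => g (i + 1), show n * (m + 1) = n + n * m by ring, pk_append,
      pk_congr n (f := g 0) (g := fun k => g (k / n) (k % n)) fun k hk => by
        rw [Nat.div_eq_of_lt hk, Nat.mod_eq_of_lt hk]]
    congr 2
    exact pk_congr _ fun k _ => by rw [Nat.add_div_left _ hn, Nat.add_mod_left]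

theorem qk_shift_and {W s μ : ℕ} (hs : s ≤ W) (hm : μ < 2 ^ (W - s)) :
    ∀ (m : ℕ) {d : ℕ → ℕ}, (∀ i < m, d i < 2 ^ W) →
      (qk W m d >>> s) &&& qk W m (fun _ => μ) = qk W m fun i => (d i / 2 ^ s) &&& μ
  | 0, _, _ => by simp [qk]
  | m + 1, d, hd => by
    have ih := qk_shift_and hs hm m (d := fun i => d (i + 1)) fun i hi => hd (i + 1) (by omega)
    have hd0 := hd 0 (by omega)
    rw [Nat.shiftRight_eq_div_pow] at ih ⊢
    rw [qk, qk, qk]
    set a := d 0
    set b := qk W m fun i => d (i + 1)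
    set M := qk W m fun _ => μ
    rw [← ih]
    have eW : (2 : ℕ) ^ W = 2 ^ s * 2 ^ (W - s) := by rw [← pow_add]; congr 1; omega
    have hlt : a / 2 ^ s < 2 ^ (W - s) := Nat.div_lt_of_lt_mul (by rw [← eW]; exact hd0)
    have hmW : μ < 2 ^ W := lt_of_lt_of_le hm (Nat.pow_le_pow_right (by norm_num) (by omega))
    set u := (a + 2 ^ W * b) / 2 ^ s with hu
    set v := μ + 2 ^ W * M with hv
    have hu' : u = a / 2 ^ s + 2 ^ (W - s) * b := by
      rw [hu, eW, mul_assoc, Nat.add_mul_div_left _ _ (Nat.two_pow_pos s)]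
    have hlow : u % 2 ^ W % 2 ^ (W - s) = a / 2 ^ s := by
      rw [Nat.mod_mod_of_dvd _ (Nat.pow_dvd_pow 2 (by omega)), hu', Nat.add_mul_mod_self_left,
        Nat.mod_eq_of_lt hlt]
    have hhigh : u / 2 ^ W = b / 2 ^ s := by
      rw [hu, Nat.div_div_eq_div_mul, mul_comm (2 ^ s) (2 ^ W), ← Nat.div_div_eq_div_mul,
        Nat.add_mul_div_left _ _ (Nat.two_pow_pos W), Nat.div_eq_of_lt hd0, zero_add]
    have hand : ∀ x, x &&& μ = (x % 2 ^ (W - s)) &&& μ := fun x => by
      rw [← Nat.mod_eq_of_lt (lt_of_le_of_lt (Nat.and_le_right : x &&& μ ≤ μ) hm),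
        Nat.and_mod_two_pow, Nat.mod_eq_of_lt hm]
    conv_lhs => rw [← Nat.mod_add_div (u &&& v) (2 ^ W)]
    rw [Nat.and_mod_two_pow, Nat.and_div_two_pow, hhigh, hv, Nat.add_mul_mod_self_left,
      Nat.add_mul_div_left _ _ (Nat.two_pow_pos W), Nat.mod_eq_of_lt hmW, Nat.div_eq_of_lt hmW,
      zero_add, hand, hlow]

theorem pk_digit {n j : ℕ} (hj : j < n) {f : ℕ → ℕ} (hf : ∀ k, f k < 2 ^ 16) :
    (pk n f / 2 ^ (32 * j)) &&& 65535 = f j := by
  obtain ⟨r, rfl⟩ : ∃ r, n = j + (r + 1) := ⟨n - j - 1, by omega⟩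
  rw [pk_append, Nat.add_mul_div_left _ _ (Nat.two_pow_pos _),
    Nat.div_eq_of_lt (pk_lt _ fun k _ => (hf k).trans (by norm_num)), zero_add, pk,
    show (65535 : ℕ) = 2 ^ 16 - 1 from rfl, Nat.and_two_pow_sub_one_eq_mod, Nat.add_zero,
    show (2 : ℕ) ^ 32 = 2 ^ 16 * 2 ^ 16 from rfl, mul_assoc, Nat.add_mul_mod_self_left,
    Nat.mod_eq_of_lt (hf j)]

theorem red_gen (n : ℕ) {g : ℕ → ℕ} (hg : ∀ k < n, g k ≤ 1776) :
    redWith (rep n 65535) (pk n g) = pk n fun k => g k % 5 := by
  have h5 : ∀ k < n, (13108 * g k / 2 ^ 16) &&& 65535 = g k / 5 := fun k hk => by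
    have := hg k hk
    rw [show (65535 : ℕ) = 2 ^ 16 - 1 from rfl, Nat.and_two_pow_sub_one_eq_mod,
      show (2 : ℕ) ^ 16 = 65536 from rfl]
    have hdiv : 13108 * g k / 65536 = g k / 5 := Nat.div_eq_of_lt_le (by omega) (by omega)
    rw [hdiv]
    exact Nat.mod_eq_of_lt (by omega)
  show pk n g - 5 * (((13108 * pk n g) >>> 16) &&& rep n 65535) = _
  rw [rep_eq, ← pk_mul n 13108,
    pk_shift_and (by norm_num) (by norm_num) _ fun k hk => by have := hg k hk; omega, ← pk_mul,
    pk_sub _ fun k hk => by rw [h5 k hk]; omega]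
  exact pk_congr _ fun k hk => by rw [h5 k hk]; omega

/-! #### the computation -/

/-- the masks of a column, and the identity matrix -/
noncomputable def cmask : ℕ := qk (32 * 111) 111 fun _ => 65535
noncomputable def idN : ℕ := qk (32 * 111) 111 fun i => 2 ^ (32 * i)

/-- `acc + ∑ (column j of X) · (row j)` -/
noncomputable def sumK (cm X : ℕ) (R : List ℕ) : ℕ → ℕ → (ℕ → Bool) → Bool :=
  List.rec (motive := fun _ => ℕ → ℕ → (ℕ → Bool) → Bool) (fun _ acc k => k acc)
    (fun r _ ih off acc k =>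
      fz (Nat.add acc (Nat.mul (Nat.land (Nat.shiftRight X off) cm) r)) fun a => ih (Nat.add off 32) a k) R

/-- multiply by the matrices with packed rows, from the left to the right -/
noncomputable def runR (cm m : ℕ) (w : List (List ℕ)) : ℕ → (ℕ → Bool) → Bool :=
  List.rec (motive := fun _ => ℕ → (ℕ → Bool) → Bool) (fun X k => k X)
    (fun R _ ih X k => sumK cm X R 0 0 fun Z => fz (redWith m Z) fun Z' => ih Z' k) w

/-- the word, given by packed rows, is the identity -/
noncomputable def isOneR (w : List (List ℕ)) : Bool :=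
  fz cmask fun cm => fz (H60.PackMat.rep (111 * 111) 65535) fun m => fz idN fun i =>
    runR cm m w i fun Y => Nat.beq Y i

/-- a row packed -/
def packRow : List ℕ → ℕ
  | [] => 0
  | v :: t => v + 2 ^ 32 * packRow t

/-- the rows of a table packed -/
def packTab (S : List (List ℕ)) : List ℕ := S.map packRow

theorem packRow_eq : ∀ r : List ℕ, packRow r = pk r.length fun k => r.getD k 0
  | [] => rfl
  | v :: t => by rw [packRow, packRow_eq t, List.length_cons, pk]; rfl

/-- the packed matrix -/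
def St (M : Mat) : ℕ := qk (32 * 111) 111 fun i => pk 111 (entry M i)

theorem sumK_eq (cm X : ℕ) : ∀ (R : List ℕ) (off acc : ℕ) (k : ℕ → Bool), sumK cm X R off acc k =
    k (acc + ∑ j ∈ Finset.range R.length, ((X >>> (off + 32 * j)) &&& cm) * R.getD j 0) := by
  intro R
  induction R with
  | nil => intro off acc k; simp [sumK]
  | cons r R ih =>
    intro off acc k
    show fz (acc + ((X >>> off) &&& cm) * r) (fun a => sumK cm X R (off + 32) a k) = _
    rw [fz_eq, ih, List.length_cons, Finset.sum_range_succ']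
    simp only [List.getD_cons_succ, List.getD_cons_zero, Nat.mul_zero, Nat.add_zero, Nat.mul_succ,
      add_assoc, add_comm (32 : ℕ)]
    rw [add_comm (((X >>> off) &&& cm) * r)]

theorem col_eq (M : Mat) {j : ℕ} (hj : j < 111) :
    (St M >>> (32 * j)) &&& cmask = qk (32 * 111) 111 fun i => entry M i j := by
  rw [St, cmask, qk_shift_and (by omega) ?_ 111 fun i _ => pk_lt 111 fun k _ => (entry_lt M i k).trans (by norm_num)]
  · exact qk_congr _ _ fun i _ => pk_digit hj fun k => (entry_lt M i k).trans (by norm_num)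
  · calc (65535 : ℕ) < 2 ^ 32 := by norm_num
      _ ≤ _ := Nat.pow_le_pow_right (by norm_num) (by omega)

theorem step_St {S : List (List ℕ)} (hS : tabOK S = true) (M : Mat) :
    redWith (H60.PackMat.rep (111 * 111) 65535)
      (∑ j ∈ Finset.range (packTab S).length, ((St M >>> (0 + 32 * j)) &&& cmask) * (packTab S).getD j 0) =
      St (M * toM S) := by
  simp only [tabOK, Bool.and_eq_true, beq_iff_eq, List.all_eq_true, decide_eq_true_eq] at hS
  obtain ⟨hlen, hrow⟩ := hS
  let s : ℕ → ℕ → ℕ := fun j k => (S.getD j []).getD k 0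
  have hb : ∀ j k, s j k < 5 := by
    intro j k
    show (S.getD j []).getD k 0 < 5
    by_cases hj : j < S.length
    · rw [List.getD_eq_getElem _ _ hj]
      by_cases hk : k < S[j].length
      · rw [List.getD_eq_getElem _ _ hk]; exact (hrow _ (List.getElem_mem hj)).2 _ (List.getElem_mem hk)
      · rw [List.getD_eq_default _ _ (Nat.le_of_not_lt hk)]; norm_num
    · rw [List.getD_eq_default _ _ (Nat.le_of_not_lt hj)]; norm_num
  have hterm : ∀ j < 111, ((St M >>> (0 + 32 * j)) &&& cmask) * (packTab S).getD j 0 =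
      qk (32 * 111) 111 fun i => pk 111 fun k => entry M i j * s j k := by
    intro j hj
    have hj' : j < S.length := by omega
    rw [zero_add, col_eq M hj, ← qk_mul]
    refine qk_congr _ _ fun i _ => ?_
    rw [pk_mul, List.getD_eq_getElem _ _ (by simpa [packTab] using hj'),
      show (packTab S)[j]'(by simpa [packTab] using hj') = packRow S[j] by simp [packTab],
      packRow_eq, (hrow _ (List.getElem_mem hj')).1]
    refine congrArg _ (pk_congr _ fun k _ => ?_)
    show _ = (S.getD j []).getD k 0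
    rw [List.getD_eq_getElem S [] hj']
  rw [show (packTab S).length = 111 by simp [packTab, hlen],
    Finset.sum_congr rfl fun j hj => hterm j (Finset.mem_range.1 hj), ← qk_sum,
    qk_congr _ _ fun i _ => (pk_sum 111 (fun j k => entry M i j * s j k) 111).symm,
    qk_pk 111 (by norm_num), red_gen, St, qk_pk 111 (by norm_num)]
  · refine pk_congr _ fun k hk => ?_
    have h1 : k / 111 < 111 := Nat.div_lt_of_lt_mul hk
    have h2 : k % 111 < 111 := Nat.mod_lt _ (by norm_num)
    rw [entry_of (M * toM S) h1 h2, ← ZMod.val_natCast]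
    refine congrArg ZMod.val ?_
    rw [Nat.cast_sum, Matrix.mul_apply, Finset.sum_range]
    refine Finset.sum_congr rfl fun l _ => ?_
    rw [entry_of M h1 l.2, Nat.cast_mul, ZMod.natCast_zmod_val, toM, Matrix.of_apply]
  · intro k _
    calc ∑ j ∈ Finset.range 111, entry M (k / 111) j * s j (k % 111)
        ≤ ∑ _j ∈ Finset.range 111, 4 * 4 := Finset.sum_le_sum fun j _ =>
          Nat.mul_le_mul (by have := entry_lt M (k / 111) j; omega) (by have := hb j (k % 111); omega)
      _ = 1776 := by simp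

theorem runR_eq : ∀ (w : List (List (List ℕ))), (∀ S ∈ w, tabOK S = true) → ∀ (M : Mat)
    (k : ℕ → Bool), runR cmask (H60.PackMat.rep (111 * 111) 65535) (w.map packTab) (St M) k =
      k (St (M * (w.map toM).prod)) := by
  intro w
  induction w with
  | nil => intro _ M k; simp [runR]
  | cons S w ih =>
    intro h M k
    show sumK cmask (St M) (packTab S) 0 0 (fun Z => fz (redWith (H60.PackMat.rep (111 * 111) 65535) Z)
      fun Z' => runR cmask (H60.PackMat.rep (111 * 111) 65535) (w.map packTab) Z' k) = _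
    rw [sumK_eq, zero_add, fz_eq, step_St (h S List.mem_cons_self),
      ih (fun x hx => h x (List.mem_cons_of_mem _ hx)), List.map_cons, List.prod_cons, mul_assoc]

theorem idN_eq : idN = St 1 := by
  refine qk_congr _ _ fun i hi => ?_
  rw [← pk_delta 111 i hi]
  refine pk_congr _ fun k hk => ?_
  rw [entry_of 1 hi hk, Matrix.one_apply]
  by_cases h : k = i
  · subst h; rw [if_pos rfl, if_pos rfl]; rfl
  · rw [if_neg h, if_neg fun e => h (congrArg Fin.val e).symm]; rfl

theorem St_inj {M N : Mat} (h : St M = St N) : M = N := by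
  rw [St, St, qk_pk 111 (by norm_num), qk_pk 111 (by norm_num)] at h
  funext i j
  have h2 := pk_inj (111 * 111) (fun k _ => (entry_lt M _ _).trans (by norm_num))
    (fun k _ => (entry_lt N _ _).trans (by norm_num)) h (111 * i.val + j.val) (by omega)
  rw [show (111 * i.val + j.val) / 111 = i.val by omega,
    show (111 * i.val + j.val) % 111 = j.val by omega, entry_fin, entry_fin] at h2
  exact ZMod.val_injective 5 h2

theorem isOneR_spec {w : List (List (List ℕ))} (hw : ∀ S ∈ w, tabOK S = true)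
    (h : isOneR (w.map packTab) = true) : (w.map toM).prod = 1 := by
  have h' : runR cmask (H60.PackMat.rep (111 * 111) 65535) (w.map packTab) idN
      (fun Y => Nat.beq Y idN) = true := by
    simpa [isOneR, fz_eq] using h
  rw [idN_eq, runR_eq w hw, one_mul] at h'
  exact St_inj (Nat.eq_of_beq_eq_true h')

end H68.Ly
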