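import Cfsg.Agent.H68.Ly.G2Eng

/-! Tables of elements of the adjoint group of type G₂ over the field with five elements and words. -/

set_option autoImplicit false
set_option maxRecDepth 100000

namespace H68.Ly.G14

def tabs : List (List (List ℕ)) := [
[[3,4,0,0,0,0,2,0,0,4,0,0,0,0],[0,1,0,0,0,0,0,0,0,0,0,0,0,0],[0,0,2,0,0,0,0,0,0,0,0,0,0,0],[0,0,0,3,3,4,0,4,0,0,0,0,0,0],[0,0,0,3,4,0,0,3,0,0,0,0,0,0],[0,0,0,2,0,1,0,4,0,0,0,0,0,0],[3,1,0,0,0,0,3,0,0,3,0,0,0,0],[0,0,0,3,1,1,0,2,0,0,0,0,0,0],[0,0,0,0,0,0,0,0,4,0,4,3,3,0],[4,3,0,0,0,0,2,0,0,3,0,0,0,0],[0,0,0,0,0,0,0,0,4,0,2,0,1,0],[0,0,0,0,0,0,0,0,4,0,0,3,2,0],[0,0,0,0,0,0,0,0,1,0,2,3,1,0],[0,0,0,0,0,0,0,0,0,0,0,0,0,3]],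
[[1,0,0,0,0,0,1,0,0,0,0,0,0,0],[0,1,0,0,0,0,0,0,0,0,0,0,0,0],[0,0,1,0,0,0,0,0,0,0,0,0,0,0],[0,0,0,1,0,0,0,0,0,0,0,0,0,0],[0,0,0,4,1,0,0,0,0,0,0,0,0,0],[0,0,0,4,2,1,0,0,0,0,0,0,0,0],[0,0,0,0,0,0,1,0,0,0,0,0,0,0],[0,0,0,4,3,3,0,1,0,0,0,0,0,0],[0,0,0,0,0,0,0,0,1,0,0,0,0,0],[3,1,0,0,0,0,4,0,0,1,0,0,0,0],[0,0,0,0,0,0,0,0,4,0,1,0,0,0],[0,0,0,0,0,0,0,0,1,0,3,1,0,0],[0,0,0,0,0,0,0,0,1,0,2,3,1,0],[0,0,0,0,0,0,0,0,0,0,0,0,0,1]],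
[[1,0,4,2,4,1,0,0,0,0,0,0,0,0],[0,1,0,2,1,3,0,0,0,0,0,0,0,0],[0,0,1,0,0,0,0,0,0,0,0,0,0,0],[0,0,0,1,0,0,0,0,0,0,0,0,0,0],[0,0,4,0,1,0,0,0,0,0,0,0,0,0],[0,0,2,0,0,1,0,0,0,0,0,0,0,0],[0,0,1,2,3,0,1,0,0,0,0,0,0,0],[0,0,2,0,0,0,0,1,0,0,0,0,0,0],[0,0,1,3,2,0,3,0,1,0,0,0,0,0],[0,0,4,0,2,1,0,4,0,1,0,0,0,0],[1,4,1,4,0,4,4,0,0,0,1,0,0,0],[3,0,1,1,0,0,3,4,0,2,0,1,0,0],[4,2,4,1,3,2,0,3,0,4,0,0,1,0],[4,3,0,1,2,2,2,4,3,3,4,3,0,1]],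
[[1,4,0,0,0,0,0,0,0,0,0,0,0,0],[0,4,0,0,0,0,0,0,0,0,0,0,0,0],[0,0,0,0,0,0,0,0,0,0,0,0,0,4],[0,0,0,0,0,0,0,0,1,0,0,0,0,0],[0,0,0,0,0,0,0,0,0,0,1,0,0,0],[0,0,0,0,0,0,0,0,0,0,0,4,0,0],[0,0,0,0,0,0,1,0,0,0,0,0,0,0],[0,0,0,0,0,0,0,0,0,0,0,0,4,0],[0,0,0,4,0,0,0,0,0,0,0,0,0,0],[0,0,0,0,0,0,0,0,0,1,0,0,0,0],[0,0,0,0,4,0,0,0,0,0,0,0,0,0],[0,0,0,0,0,1,0,0,0,0,0,0,0,0],[0,0,0,0,0,0,0,1,0,0,0,0,0,0],[0,0,4,0,0,0,0,0,0,0,0,0,0,0]],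
[[1,0,0,0,0,0,0,0,0,0,0,0,0,4],[0,1,0,0,0,0,0,0,0,0,0,0,0,3],[0,1,1,0,0,0,0,0,0,0,0,0,0,4],[0,0,0,1,0,0,0,0,1,0,0,0,0,0],[0,0,0,0,1,0,0,0,0,0,1,0,0,0],[0,0,0,0,0,1,0,0,0,0,0,4,0,0],[0,0,0,0,0,0,1,0,0,0,0,0,0,0],[0,0,0,0,0,0,0,1,0,0,0,0,4,0],[0,0,0,0,0,0,0,0,1,0,0,0,0,0],[0,0,0,0,0,0,0,0,0,1,0,0,0,0],[0,0,0,0,0,0,0,0,0,0,1,0,0,0],[0,0,0,0,0,0,0,0,0,0,0,1,0,0],[0,0,0,0,0,0,0,0,0,0,0,0,1,0],[0,0,0,0,0,0,0,0,0,0,0,0,0,1]],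
[[1,0,0,0,0,0,0,0,0,0,0,0,4,0],[0,1,0,0,0,0,0,0,0,0,0,0,4,0],[0,0,1,0,0,0,0,1,0,0,0,0,0,0],[3,4,0,1,0,0,0,0,0,0,0,0,4,0],[0,0,0,0,1,0,0,0,0,1,0,0,0,0],[0,0,0,0,0,1,0,0,0,0,0,0,0,0],[0,0,0,0,0,0,1,0,0,0,0,4,0,0],[0,0,0,0,0,0,0,1,0,0,0,0,0,0],[0,0,0,0,0,0,0,0,1,0,0,0,0,4],[0,0,0,0,0,0,0,0,0,1,0,0,0,0],[0,0,0,0,0,0,0,0,0,0,1,0,0,0],[0,0,0,0,0,0,0,0,0,0,0,1,0,0],[0,0,0,0,0,0,0,0,0,0,0,0,1,0],[0,0,0,0,0,0,0,0,0,0,0,0,0,1]],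
[[1,0,0,0,0,0,0,0,0,0,0,3,0,0],[0,1,0,0,0,0,0,0,0,0,0,2,0,0],[0,0,1,0,0,3,0,0,0,2,0,0,1,0],[0,0,0,1,0,0,3,0,0,0,3,0,0,4],[1,0,0,0,1,0,0,0,0,0,0,4,0,0],[0,0,0,0,0,1,0,0,0,3,0,0,1,0],[0,0,0,0,0,0,1,0,0,0,2,0,0,4],[0,0,0,0,0,0,0,1,0,0,0,0,0,0],[0,0,0,0,0,0,0,0,1,0,0,0,0,0],[0,0,0,0,0,0,0,0,0,1,0,0,4,0],[0,0,0,0,0,0,0,0,0,0,1,0,0,4],[0,0,0,0,0,0,0,0,0,0,0,1,0,0],[0,0,0,0,0,0,0,0,0,0,0,0,1,0],[0,0,0,0,0,0,0,0,0,0,0,0,0,1]],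
[[1,0,0,0,0,0,0,0,0,0,4,0,0,0],[0,1,0,0,0,0,0,0,0,0,2,0,0,0],[0,0,1,0,2,0,3,0,1,0,0,0,0,0],[0,0,0,1,0,0,0,0,0,0,0,0,0,0],[0,0,0,0,1,0,3,0,4,0,0,0,0,0],[4,1,0,0,0,1,0,0,0,0,4,0,0,0],[0,0,0,0,0,0,1,0,1,0,0,0,0,0],[0,0,0,0,0,0,0,1,0,2,0,2,0,4],[0,0,0,0,0,0,0,0,1,0,0,0,0,0],[0,0,0,0,0,0,0,0,0,1,0,2,0,1],[0,0,0,0,0,0,0,0,0,0,1,0,0,0],[0,0,0,0,0,0,0,0,0,0,0,1,0,1],[0,0,0,0,0,0,0,0,0,0,0,0,1,0],[0,0,0,0,0,0,0,0,0,0,0,0,0,1]],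
[[1,0,0,0,0,0,0,0,0,4,0,0,0,0],[0,1,0,0,0,0,0,0,0,0,0,0,0,0],[0,0,1,0,0,0,0,0,0,0,0,0,0,0],[0,0,0,1,2,2,0,4,0,0,0,0,0,0],[0,0,0,0,1,2,0,1,0,0,0,0,0,0],[0,0,0,0,0,1,0,1,0,0,0,0,0,0],[2,4,0,0,0,0,1,0,0,4,0,0,0,0],[0,0,0,0,0,0,0,1,0,0,0,0,0,0],[0,0,0,0,0,0,0,0,1,0,2,3,1,0],[0,0,0,0,0,0,0,0,0,1,0,0,0,0],[0,0,0,0,0,0,0,0,0,0,1,3,4,0],[0,0,0,0,0,0,0,0,0,0,0,1,1,0],[0,0,0,0,0,0,0,0,0,0,0,0,1,0],[0,0,0,0,0,0,0,0,0,0,0,0,0,1]],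
[[1,0,0,0,0,0,0,0,0,0,0,0,0,0],[0,1,0,0,0,0,0,0,4,0,0,0,0,0],[0,0,1,4,0,0,0,0,0,0,0,0,0,0],[0,0,0,1,0,0,0,0,0,0,0,0,0,0],[0,0,0,0,1,0,0,0,0,0,0,0,0,0],[0,0,0,0,0,1,4,0,0,0,0,0,0,0],[0,0,0,0,0,0,1,0,0,0,0,0,0,0],[2,2,0,0,0,0,0,1,4,0,0,0,0,0],[0,0,0,0,0,0,0,0,1,0,0,0,0,0],[0,0,0,0,0,0,0,0,0,1,1,0,0,0],[0,0,0,0,0,0,0,0,0,0,1,0,0,0],[0,0,0,0,0,0,0,0,0,0,0,1,0,0],[0,0,0,0,0,0,0,0,0,0,0,0,1,1],[0,0,0,0,0,0,0,0,0,0,0,0,0,1]],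
[[1,0,0,0,0,0,0,0,0,0,0,0,0,0],[0,1,0,0,0,0,0,1,0,0,0,0,0,0],[0,0,1,0,0,0,0,0,0,0,0,0,0,0],[0,0,4,1,0,0,0,0,0,0,0,0,0,0],[0,0,0,0,1,0,0,0,0,0,0,0,0,0],[0,0,0,0,0,1,0,0,0,0,0,0,0,0],[0,0,0,0,0,4,1,0,0,0,0,0,0,0],[0,0,0,0,0,0,0,1,0,0,0,0,0,0],[3,3,0,0,0,0,0,4,1,0,0,0,0,0],[0,0,0,0,0,0,0,0,0,1,0,0,0,0],[0,0,0,0,0,0,0,0,0,1,1,0,0,0],[0,0,0,0,0,0,0,0,0,0,0,1,0,0],[0,0,0,0,0,0,0,0,0,0,0,0,1,0],[0,0,0,0,0,0,0,0,0,0,0,0,1,1]],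
[[1,0,0,0,0,0,1,0,0,0,0,0,0,0],[0,1,0,0,0,0,0,0,0,0,0,0,0,0],[0,0,1,0,0,0,0,0,0,0,0,0,0,0],[0,0,0,1,0,0,0,0,0,0,0,0,0,0],[0,0,0,4,1,0,0,0,0,0,0,0,0,0],[0,0,0,4,2,1,0,0,0,0,0,0,0,0],[0,0,0,0,0,0,1,0,0,0,0,0,0,0],[0,0,0,4,3,3,0,1,0,0,0,0,0,0],[0,0,0,0,0,0,0,0,1,0,0,0,0,0],[3,1,0,0,0,0,4,0,0,1,0,0,0,0],[0,0,0,0,0,0,0,0,4,0,1,0,0,0],[0,0,0,0,0,0,0,0,1,0,3,1,0,0],[0,0,0,0,0,0,0,0,1,0,2,3,1,0],[0,0,0,0,0,0,0,0,0,0,0,0,0,1]],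
[[1,0,0,0,0,1,0,0,0,0,0,0,0,0],[0,1,0,0,0,3,0,0,0,0,0,0,0,0],[0,0,1,0,0,0,0,0,0,0,0,0,0,0],[0,0,0,1,0,0,0,0,0,0,0,0,0,0],[0,0,4,0,1,0,0,0,0,0,0,0,0,0],[0,0,0,0,0,1,0,0,0,0,0,0,0,0],[0,0,1,0,3,0,1,0,0,0,0,0,0,0],[0,0,0,0,0,0,0,1,0,0,0,0,0,0],[0,0,1,0,2,0,3,0,1,0,0,0,0,0],[0,0,0,0,0,0,0,4,0,1,0,0,0,0],[1,4,0,0,0,4,0,0,0,0,1,0,0,0],[0,0,0,0,0,0,0,4,0,2,0,1,0,0],[0,0,0,0,0,0,0,0,0,0,0,0,1,0],[0,0,0,0,0,0,0,4,0,3,0,3,0,1]],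
[[1,0,0,0,2,0,0,0,0,0,0,0,0,0],[0,1,0,0,3,0,0,0,0,0,0,0,0,0],[0,0,1,0,0,0,0,0,0,0,0,0,0,0],[0,0,0,1,0,0,0,0,0,0,0,0,0,0],[0,0,0,0,1,0,0,0,0,0,0,0,0,0],[0,0,1,0,0,1,0,0,0,0,0,0,0,0],[0,0,0,1,0,0,1,0,0,0,0,0,0,0],[0,0,0,0,0,0,0,1,0,0,0,0,0,0],[0,0,0,0,0,0,0,0,1,0,0,0,0,0],[0,0,4,0,0,3,0,0,0,1,0,0,0,0],[0,0,0,1,0,0,2,0,0,0,1,0,0,0],[4,0,0,0,4,0,0,0,0,0,0,1,0,0],[0,0,1,0,0,3,0,0,0,2,0,0,1,0],[0,0,0,4,0,0,2,0,0,0,2,0,0,1]],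
[[1,0,0,1,0,0,0,0,0,0,0,0,0,0],[0,1,0,1,0,0,0,0,0,0,0,0,0,0],[0,0,1,0,0,0,0,0,0,0,0,0,0,0],[0,0,0,1,0,0,0,0,0,0,0,0,0,0],[0,0,0,0,1,0,0,0,0,0,0,0,0,0],[0,0,0,0,0,1,0,0,0,0,0,0,0,0],[0,0,0,0,0,0,1,0,0,0,0,0,0,0],[0,0,1,0,0,0,0,1,0,0,0,0,0,0],[0,0,0,0,0,0,0,0,1,0,0,0,0,0],[0,0,0,0,1,0,0,0,0,1,0,0,0,0],[0,0,0,0,0,0,0,0,0,0,1,0,0,0],[0,0,0,0,0,0,4,0,0,0,0,1,0,0],[2,1,0,4,0,0,0,0,0,0,0,0,1,0],[0,0,0,0,0,0,0,0,4,0,0,0,0,1]],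
[[1,0,1,0,0,0,0,0,0,0,0,0,0,0],[0,1,2,0,0,0,0,0,0,0,0,0,0,0],[0,0,1,0,0,0,0,0,0,0,0,0,0,0],[0,0,0,1,0,0,0,0,0,0,0,0,0,0],[0,0,0,0,1,0,0,0,0,0,0,0,0,0],[0,0,0,0,0,1,0,0,0,0,0,0,0,0],[0,0,0,0,0,0,1,0,0,0,0,0,0,0],[0,0,0,0,0,0,0,1,0,0,0,0,0,0],[0,0,0,1,0,0,0,0,1,0,0,0,0,0],[0,0,0,0,0,0,0,0,0,1,0,0,0,0],[0,0,0,0,1,0,0,0,0,0,1,0,0,0],[0,0,0,0,0,4,0,0,0,0,0,1,0,0],[0,0,0,0,0,0,0,4,0,0,0,0,1,0],[0,4,4,0,0,0,0,0,0,0,0,0,0,1]],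
[[3,4,0,0,0,0,2,0,0,4,0,0,0,0],[0,1,0,0,0,0,0,0,0,0,0,0,0,0],[0,0,3,0,0,0,0,0,0,0,0,0,0,0],[0,0,0,1,1,3,0,3,0,0,0,0,0,0],[0,0,0,1,3,0,0,1,0,0,0,0,0,0],[0,0,0,4,0,2,0,3,0,0,0,0,0,0],[3,1,0,0,0,0,3,0,0,3,0,0,0,0],[0,0,0,1,2,2,0,4,0,0,0,0,0,0],[0,0,0,0,0,0,0,0,2,0,2,4,4,0],[4,3,0,0,0,0,2,0,0,3,0,0,0,0],[0,0,0,0,0,0,0,0,2,0,1,0,3,0],[0,0,0,0,0,0,0,0,2,0,0,4,1,0],[0,0,0,0,0,0,0,0,3,0,1,4,3,0],[0,0,0,0,0,0,0,0,0,0,0,0,0,2]],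
[[1,0,0,0,0,0,4,0,0,0,0,0,0,0],[0,1,0,0,0,0,0,0,0,0,0,0,0,0],[0,0,1,0,0,0,0,0,0,0,0,0,0,0],[0,0,0,1,0,0,0,0,0,0,0,0,0,0],[0,0,0,1,1,0,0,0,0,0,0,0,0,0],[0,0,0,4,3,1,0,0,0,0,0,0,0,0],[0,0,0,0,0,0,1,0,0,0,0,0,0,0],[0,0,0,1,3,2,0,1,0,0,0,0,0,0],[0,0,0,0,0,0,0,0,1,0,0,0,0,0],[2,4,0,0,0,0,4,0,0,1,0,0,0,0],[0,0,0,0,0,0,0,0,1,0,1,0,0,0],[0,0,0,0,0,0,0,0,1,0,2,1,0,0],[0,0,0,0,0,0,0,0,4,0,2,2,1,0],[0,0,0,0,0,0,0,0,0,0,0,0,0,1]],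
[[1,0,4,3,1,4,0,0,0,0,0,0,0,0],[0,1,0,3,4,2,0,0,0,0,0,0,0,0],[0,0,1,0,0,0,0,0,0,0,0,0,0,0],[0,0,0,1,0,0,0,0,0,0,0,0,0,0],[0,0,1,0,1,0,0,0,0,0,0,0,0,0],[0,0,3,0,0,1,0,0,0,0,0,0,0,0],[0,0,1,3,2,0,1,0,0,0,0,0,0,0],[0,0,3,0,0,0,0,1,0,0,0,0,0,0],[0,0,4,3,2,0,2,0,1,0,0,0,0,0],[0,0,4,0,3,4,0,1,0,1,0,0,0,0],[4,1,4,4,0,4,1,0,0,0,1,0,0,0],[2,0,4,1,0,0,2,4,0,3,0,1,0,0],[1,3,1,1,3,2,0,3,0,1,0,0,1,0],[4,3,0,4,3,3,2,1,2,3,1,2,0,1]],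
[[1,4,0,0,0,0,0,0,0,0,0,0,0,0],[0,4,0,0,0,0,0,0,0,0,0,0,0,0],[0,0,0,0,0,0,0,0,0,0,0,0,0,4],[0,0,0,0,0,0,0,0,4,0,0,0,0,0],[0,0,0,0,0,0,0,0,0,0,4,0,0,0],[0,0,0,0,0,0,0,0,0,0,0,1,0,0],[0,0,0,0,0,0,1,0,0,0,0,0,0,0],[0,0,0,0,0,0,0,0,0,0,0,0,1,0],[0,0,0,1,0,0,0,0,0,0,0,0,0,0],[0,0,0,0,0,0,0,0,0,1,0,0,0,0],[0,0,0,0,1,0,0,0,0,0,0,0,0,0],[0,0,0,0,0,4,0,0,0,0,0,0,0,0],[0,0,0,0,0,0,0,4,0,0,0,0,0,0],[0,0,4,0,0,0,0,0,0,0,0,0,0,0]],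
[[1,0,0,0,0,0,0,0,0,0,0,0,0,1],[0,1,0,0,0,0,0,0,0,0,0,0,0,2],[0,4,1,0,0,0,0,0,0,0,0,0,0,4],[0,0,0,1,0,0,0,0,4,0,0,0,0,0],[0,0,0,0,1,0,0,0,0,0,4,0,0,0],[0,0,0,0,0,1,0,0,0,0,0,1,0,0],[0,0,0,0,0,0,1,0,0,0,0,0,0,0],[0,0,0,0,0,0,0,1,0,0,0,0,1,0],[0,0,0,0,0,0,0,0,1,0,0,0,0,0],[0,0,0,0,0,0,0,0,0,1,0,0,0,0],[0,0,0,0,0,0,0,0,0,0,1,0,0,0],[0,0,0,0,0,0,0,0,0,0,0,1,0,0],[0,0,0,0,0,0,0,0,0,0,0,0,1,0],[0,0,0,0,0,0,0,0,0,0,0,0,0,1]],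
[[1,0,0,0,0,0,0,0,0,0,0,0,1,0],[0,1,0,0,0,0,0,0,0,0,0,0,1,0],[0,0,1,0,0,0,0,4,0,0,0,0,0,0],[2,1,0,1,0,0,0,0,0,0,0,0,4,0],[0,0,0,0,1,0,0,0,0,4,0,0,0,0],[0,0,0,0,0,1,0,0,0,0,0,0,0,0],[0,0,0,0,0,0,1,0,0,0,0,1,0,0],[0,0,0,0,0,0,0,1,0,0,0,0,0,0],[0,0,0,0,0,0,0,0,1,0,0,0,0,1],[0,0,0,0,0,0,0,0,0,1,0,0,0,0],[0,0,0,0,0,0,0,0,0,0,1,0,0,0],[0,0,0,0,0,0,0,0,0,0,0,1,0,0],[0,0,0,0,0,0,0,0,0,0,0,0,1,0],[0,0,0,0,0,0,0,0,0,0,0,0,0,1]],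
[[1,0,0,0,0,0,0,0,0,0,0,2,0,0],[0,1,0,0,0,0,0,0,0,0,0,3,0,0],[0,0,1,0,0,2,0,0,0,2,0,0,4,0],[0,0,0,1,0,0,2,0,0,0,3,0,0,1],[4,0,0,0,1,0,0,0,0,0,0,4,0,0],[0,0,0,0,0,1,0,0,0,2,0,0,1,0],[0,0,0,0,0,0,1,0,0,0,3,0,0,4],[0,0,0,0,0,0,0,1,0,0,0,0,0,0],[0,0,0,0,0,0,0,0,1,0,0,0,0,0],[0,0,0,0,0,0,0,0,0,1,0,0,1,0],[0,0,0,0,0,0,0,0,0,0,1,0,0,1],[0,0,0,0,0,0,0,0,0,0,0,1,0,0],[0,0,0,0,0,0,0,0,0,0,0,0,1,0],[0,0,0,0,0,0,0,0,0,0,0,0,0,1]],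
[[1,0,0,0,0,0,0,0,0,0,1,0,0,0],[0,1,0,0,0,0,0,0,0,0,3,0,0,0],[0,0,1,0,3,0,3,0,4,0,0,0,0,0],[0,0,0,1,0,0,0,0,0,0,0,0,0,0],[0,0,0,0,1,0,2,0,4,0,0,0,0,0],[1,4,0,0,0,1,0,0,0,0,4,0,0,0],[0,0,0,0,0,0,1,0,4,0,0,0,0,0],[0,0,0,0,0,0,0,1,0,3,0,2,0,1],[0,0,0,0,0,0,0,0,1,0,0,0,0,0],[0,0,0,0,0,0,0,0,0,1,0,3,0,1],[0,0,0,0,0,0,0,0,0,0,1,0,0,0],[0,0,0,0,0,0,0,0,0,0,0,1,0,4],[0,0,0,0,0,0,0,0,0,0,0,0,1,0],[0,0,0,0,0,0,0,0,0,0,0,0,0,1]],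
[[1,0,0,0,0,0,0,0,0,1,0,0,0,0],[0,1,0,0,0,0,0,0,0,0,0,0,0,0],[0,0,1,0,0,0,0,0,0,0,0,0,0,0],[0,0,0,1,3,2,0,1,0,0,0,0,0,0],[0,0,0,0,1,3,0,1,0,0,0,0,0,0],[0,0,0,0,0,1,0,4,0,0,0,0,0,0],[3,1,0,0,0,0,1,0,0,4,0,0,0,0],[0,0,0,0,0,0,0,1,0,0,0,0,0,0],[0,0,0,0,0,0,0,0,1,0,3,3,4,0],[0,0,0,0,0,0,0,0,0,1,0,0,0,0],[0,0,0,0,0,0,0,0,0,0,1,2,4,0],[0,0,0,0,0,0,0,0,0,0,0,1,4,0],[0,0,0,0,0,0,0,0,0,0,0,0,1,0],[0,0,0,0,0,0,0,0,0,0,0,0,0,1]],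
[[1,0,0,0,0,0,0,0,0,0,0,0,0,0],[0,1,0,0,0,0,0,0,1,0,0,0,0,0],[0,0,1,1,0,0,0,0,0,0,0,0,0,0],[0,0,0,1,0,0,0,0,0,0,0,0,0,0],[0,0,0,0,1,0,0,0,0,0,0,0,0,0],[0,0,0,0,0,1,1,0,0,0,0,0,0,0],[0,0,0,0,0,0,1,0,0,0,0,0,0,0],[3,3,0,0,0,0,0,1,4,0,0,0,0,0],[0,0,0,0,0,0,0,0,1,0,0,0,0,0],[0,0,0,0,0,0,0,0,0,1,4,0,0,0],[0,0,0,0,0,0,0,0,0,0,1,0,0,0],[0,0,0,0,0,0,0,0,0,0,0,1,0,0],[0,0,0,0,0,0,0,0,0,0,0,0,1,4],[0,0,0,0,0,0,0,0,0,0,0,0,0,1]],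
[[1,0,0,0,0,0,0,0,0,0,0,0,0,0],[0,1,0,0,0,0,0,4,0,0,0,0,0,0],[0,0,1,0,0,0,0,0,0,0,0,0,0,0],[0,0,1,1,0,0,0,0,0,0,0,0,0,0],[0,0,0,0,1,0,0,0,0,0,0,0,0,0],[0,0,0,0,0,1,0,0,0,0,0,0,0,0],[0,0,0,0,0,1,1,0,0,0,0,0,0,0],[0,0,0,0,0,0,0,1,0,0,0,0,0,0],[2,2,0,0,0,0,0,4,1,0,0,0,0,0],[0,0,0,0,0,0,0,0,0,1,0,0,0,0],[0,0,0,0,0,0,0,0,0,4,1,0,0,0],[0,0,0,0,0,0,0,0,0,0,0,1,0,0],[0,0,0,0,0,0,0,0,0,0,0,0,1,0],[0,0,0,0,0,0,0,0,0,0,0,0,4,1]],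
[[1,0,0,0,0,0,4,0,0,0,0,0,0,0],[0,1,0,0,0,0,0,0,0,0,0,0,0,0],[0,0,1,0,0,0,0,0,0,0,0,0,0,0],[0,0,0,1,0,0,0,0,0,0,0,0,0,0],[0,0,0,1,1,0,0,0,0,0,0,0,0,0],[0,0,0,4,3,1,0,0,0,0,0,0,0,0],[0,0,0,0,0,0,1,0,0,0,0,0,0,0],[0,0,0,1,3,2,0,1,0,0,0,0,0,0],[0,0,0,0,0,0,0,0,1,0,0,0,0,0],[2,4,0,0,0,0,4,0,0,1,0,0,0,0],[0,0,0,0,0,0,0,0,1,0,1,0,0,0],[0,0,0,0,0,0,0,0,1,0,2,1,0,0],[0,0,0,0,0,0,0,0,4,0,2,2,1,0],[0,0,0,0,0,0,0,0,0,0,0,0,0,1]],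
[[1,0,0,0,0,4,0,0,0,0,0,0,0,0],[0,1,0,0,0,2,0,0,0,0,0,0,0,0],[0,0,1,0,0,0,0,0,0,0,0,0,0,0],[0,0,0,1,0,0,0,0,0,0,0,0,0,0],[0,0,1,0,1,0,0,0,0,0,0,0,0,0],[0,0,0,0,0,1,0,0,0,0,0,0,0,0],[0,0,1,0,2,0,1,0,0,0,0,0,0,0],[0,0,0,0,0,0,0,1,0,0,0,0,0,0],[0,0,4,0,2,0,2,0,1,0,0,0,0,0],[0,0,0,0,0,0,0,1,0,1,0,0,0,0],[4,1,0,0,0,4,0,0,0,0,1,0,0,0],[0,0,0,0,0,0,0,4,0,3,0,1,0,0],[0,0,0,0,0,0,0,0,0,0,0,0,1,0],[0,0,0,0,0,0,0,1,0,3,0,2,0,1]],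
[[1,0,0,0,3,0,0,0,0,0,0,0,0,0],[0,1,0,0,2,0,0,0,0,0,0,0,0,0],[0,0,1,0,0,0,0,0,0,0,0,0,0,0],[0,0,0,1,0,0,0,0,0,0,0,0,0,0],[0,0,0,0,1,0,0,0,0,0,0,0,0,0],[0,0,4,0,0,1,0,0,0,0,0,0,0,0],[0,0,0,4,0,0,1,0,0,0,0,0,0,0],[0,0,0,0,0,0,0,1,0,0,0,0,0,0],[0,0,0,0,0,0,0,0,1,0,0,0,0,0],[0,0,4,0,0,2,0,0,0,1,0,0,0,0],[0,0,0,1,0,0,3,0,0,0,1,0,0,0],[1,0,0,0,4,0,0,0,0,0,0,1,0,0],[0,0,4,0,0,3,0,0,0,3,0,0,1,0],[0,0,0,1,0,0,2,0,0,0,3,0,0,1]],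
[[1,0,0,4,0,0,0,0,0,0,0,0,0,0],[0,1,0,4,0,0,0,0,0,0,0,0,0,0],[0,0,1,0,0,0,0,0,0,0,0,0,0,0],[0,0,0,1,0,0,0,0,0,0,0,0,0,0],[0,0,0,0,1,0,0,0,0,0,0,0,0,0],[0,0,0,0,0,1,0,0,0,0,0,0,0,0],[0,0,0,0,0,0,1,0,0,0,0,0,0,0],[0,0,4,0,0,0,0,1,0,0,0,0,0,0],[0,0,0,0,0,0,0,0,1,0,0,0,0,0],[0,0,0,0,4,0,0,0,0,1,0,0,0,0],[0,0,0,0,0,0,0,0,0,0,1,0,0,0],[0,0,0,0,0,0,1,0,0,0,0,1,0,0],[3,4,0,4,0,0,0,0,0,0,0,0,1,0],[0,0,0,0,0,0,0,0,1,0,0,0,0,1]],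
[[1,0,4,0,0,0,0,0,0,0,0,0,0,0],[0,1,3,0,0,0,0,0,0,0,0,0,0,0],[0,0,1,0,0,0,0,0,0,0,0,0,0,0],[0,0,0,1,0,0,0,0,0,0,0,0,0,0],[0,0,0,0,1,0,0,0,0,0,0,0,0,0],[0,0,0,0,0,1,0,0,0,0,0,0,0,0],[0,0,0,0,0,0,1,0,0,0,0,0,0,0],[0,0,0,0,0,0,0,1,0,0,0,0,0,0],[0,0,0,4,0,0,0,0,1,0,0,0,0,0],[0,0,0,0,0,0,0,0,0,1,0,0,0,0],[0,0,0,0,4,0,0,0,0,0,1,0,0,0],[0,0,0,0,0,1,0,0,0,0,0,1,0,0],[0,0,0,0,0,0,0,1,0,0,0,0,1,0],[0,1,4,0,0,0,0,0,0,0,0,0,0,1]]]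

/-- a, b, c, d as products of root elements -/
def abcdWords : List (List (Fin 16 × Bool)) := [
[(10, true),(10, true),(9, true),(9, true),(10, true),(10, true),(10, true),(10, true),(10, true),(10, true),(9, true),(10, true),(10, true),(10, true),(10, true),(10, true),(10, true),(9, true),(9, true),(10, true),(10, true),(10, true),(10, true),(10, true),(10, true),(9, true),(10, true),(10, true),(10, true),(10, true),(11, true),(8, true),(10, true),(10, true),(9, true),(9, true),(10, true),(10, true),(10, true),(10, true),(10, true),(10, true),(9, true),(10, true),(10, true),(10, true),(10, true)],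
[(11, true)],
[(12, true),(13, true),(13, true),(14, true),(14, true),(15, true),(15, true)],
[(4, true),(15, true),(15, true),(15, true),(15, true),(4, true)]]

/-- the root elements as words in a, b, c, d -/
def rootWord : List (List (Fin 16 × Bool)) := [
[(3, true),(1, true),(1, true),(1, true),(2, true),(1, false),(2, true),(1, true),(1, true),(1, true),(1, false),(2, true),(1, true),(2, true),(1, true),(2, true),(1, false),(1, true),(1, true),(1, true),(2, true),(1, false),(2, true),(1, true),(1, true),(1, true),(1, false),(2, true),(1, true),(2, true),(1, true),(2, true),(1, false),(1, true),(1, true),(1, true),(2, true),(1, false),(2, true),(1, true),(1, true),(1, true),(1, false),(2, true),(1,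 true),(2, true),(1, true),(2, true),(1, false),(1, true),(1, true),(1, true),(2, true),(1, false),(2, true),(1, true),(1, true),(1, true),(1, false),(2, true),(1, true),(2, true),(1, true),(2, true),(1, false),(3, false)],
[(3, true),(0, false),(2, true),(0, true),(0, false),(2, true),(0, true),(1, true),(2, true),(1, false),(3, false)],
[(3, true),(1, true),(2, true),(1, false),(3, false)],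
[(3, true),(2, true),(1, true),(2, true),(1, false),(1, true),(2, true),(1, false),(1, false),(2, true),(1, true),(1, true),(2, true),(1, false),(2, true),(1, true),(2, true),(1, false),(1, true),(2, true),(1, false),(1, false),(2, true),(1, true),(1, true),(2, true),(1, false),(2, true),(1, true),(2, true),(1, false),(1, true),(2, true),(1, false),(1, false),(2, true),(1, true),(1, true),(2, true),(1, false),(2, true),(1, true),(2, true),(1, false),(1, true),(2, true),(1, false),(1, false),(2, true),(1, true),(1, true),(2, true),(1, false),(3, false)],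
[(0, true),(1, true),(0, true),(1, true),(1, true),(0, true),(1, true),(0, true),(1, true)],
[(3, true),(2, true),(2, true),(1, false),(2, true),(1, true),(1, false),(2, true),(1, true),(1, false),(2, true),(1, true),(1, true),(2, true),(1, false),(1, true),(2, true),(1, false),(1, true),(2, true),(1, false),(1, false),(2, true),(1, true),(1, true),(2, true),(1, false),(2, true),(2, true),(1, false),(2, true),(1, true),(1, false),(2, true),(1, true),(1, false),(2, true),(1, true),(1, true),(2, true),(1, false),(1, true),(2, true),(1, false),(1, true),(2, true),(1, false),(1, false),(2, true),(1, true),(1, true),(2, true),(1, false),(2, true),(2, true),(1, false),(2, true),(1, true),(1, false),(2, true),(1,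 true),(1, false),(2, true),(1, true),(1, true),(2, true),(1, false),(1, true),(2, true),(1, false),(1, true),(2, true),(1, false),(1, false),(2, true),(1, true),(1, true),(2, true),(1, false),(2, true),(2, true),(1, false),(2, true),(1, true),(1, false),(2, true),(1, true),(1, false),(2, true),(1, true),(1, true),(2, true),(1, false),(1, true),(2, true),(1, false),(1, true),(2, true),(1, false),(1, false),(2, true),(1, true),(1, true),(2, true),(1, false),(3, false)],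
[(0, false),(2, true),(0, true),(0, false),(2, true),(0, true),(1, true),(2, true),(1, false)],
[(1, true)],
[(1, true),(2, true),(1, false)],
[(2, true),(1, true),(2, true),(1, false),(1, true),(2, true),(1, false),(1, false),(2, true),(1, true),(1, true),(2, true),(1, false)],
[(2, true),(2, true),(1, false),(2, true),(1, true),(1, false),(2, true),(1, true),(1, false),(2, true),(1, true),(1, true),(2, true),(1, false),(1, true),(2, true),(1, false),(1, true),(2, true),(1, false),(1, false),(2, true),(1, true),(1, true),(2, true),(1, false)],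
[(1, true),(1, true),(1, true),(2, true),(1, false),(2, true),(1, true),(1, true),(1, true),(1, false),(2, true),(1, true),(2, true),(1, true),(2, true),(1, false)]]

end H68.Ly.G14
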