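import Cfsg.Prelude.Def_ChevG2
import Cfsg.Prelude.Def_ChevWords
import Cfsg.Agent.H68.Ly.Fast

/-! Products of 14 × 14 matrices modulo five for the adjoint group of type G₂. -/

set_option autoImplicit false

namespace H68.Ly.G14

open H60.PackMat (pk pk_congr pk_inj pk_zero)
open Cfsg.Lie

abbrev M14 : Type := Matrix (Fin 14) (Fin 14) (ZMod 5)

abbrev MX : Type := Matrix chevG2.Idx chevG2.Idx (ZMod 5)

/-- the numbering of the basis -/
def enc : chevG2.Idx ≃ Fin 14 := finSumFinEquiv

def tabOK14 (S : List (List ℕ)) : Bool :=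
  S.length == 14 && S.all fun r => r.length == 14 && r.all fun x => decide (x < 5)

def toF (S : List (List ℕ)) : M14 := Matrix.of fun i j => (((S.getD i.val []).getD j.val 0 : ℕ) : ZMod 5)

/-- the matrix of a table -/
def toX (S : List (List ℕ)) : MX := (toF S).submatrix enc enc

def ent (M : M14) (i j : ℕ) : ℕ :=
  if h : i < 14 ∧ j < 14 then (M ⟨i, h.1⟩ ⟨j, h.2⟩).val else 0

theorem ent_lt (M : M14) (i j : ℕ) : ent M i j < 5 := by
  unfold ent; split
  · exact ZMod.val_lt _
  · norm_num

theorem ent_of (M : M14) {i j : ℕ} (h1 : i < 14) (h2 : j < 14) :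
    ent M i j = (M ⟨i, h1⟩ ⟨j, h2⟩).val := by
  rw [ent, dif_pos ⟨h1, h2⟩]

def rows14 (M : M14) : List ℕ := (List.range 14).map fun i => pk 14 (ent M i)

def id14 : List ℕ := (List.range 14).map fun i => 2 ^ (32 * i)

/-- the word is the identity -/
noncomputable def isOne14 (w : List (List (List ℕ))) : Bool :=
  fz (H60.PackMat.rep 14 65535) fun m => runK m w id14 fun Y => eqList Y id14

theorem step14 {S : List (List ℕ)} (hS : tabOK14 S = true) (M : M14) :
    (S.map fun r => redWith (H60.PackMat.rep 14 65535) (dot r (rows14 M))) = rows14 (toF S * M) := by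
  simp only [tabOK14, Bool.and_eq_true, beq_iff_eq, List.all_eq_true, decide_eq_true_eq] at hS
  obtain ⟨hlen, hrow⟩ := hS
  refine List.ext_getElem (by simp [rows14, hlen]) fun i hi hi' => ?_
  have hi2 : i < S.length := by simpa using hi
  have hi3 : i < 14 := by omega
  obtain ⟨hrl, hre⟩ := hrow _ (List.getElem_mem hi2)
  simp only [List.getElem_map, rows14, List.getElem_range]
  have hd := dot_eq 14 S[i] (ent M)
  rw [hrl] at hd
  rw [hd]
  have hb : ∀ l, S[i].getD l 0 < 5 := by
    intro l
    by_cases hl : l < S[i].length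
    · rw [List.getD_eq_getElem _ _ hl]; exact hre _ (List.getElem_mem hl)
    · rw [List.getD_eq_default _ _ (Nat.le_of_not_lt hl)]; norm_num
  rw [red_gen 14]
  · refine pk_congr _ fun k hk => ?_
    rw [ent_of (toF S * M) hi3 hk, ← ZMod.val_natCast]
    refine congrArg ZMod.val ?_
    rw [Nat.cast_sum, Matrix.mul_apply, Finset.sum_range]
    refine Finset.sum_congr rfl fun l _ => ?_
    rw [ent_of M l.2 hk, Nat.cast_mul, ZMod.natCast_zmod_val, toF, Matrix.of_apply,
      List.getD_eq_getElem S [] hi2]
  · intro k _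
    calc ∑ l ∈ Finset.range 14, S[i].getD l 0 * ent M l k
        ≤ ∑ _l ∈ Finset.range 14, 4 * 4 := Finset.sum_le_sum fun l _ =>
          Nat.mul_le_mul (by have := hb l; omega) (by have := ent_lt M l k; omega)
      _ ≤ 1776 := by simp

theorem run14 : ∀ (w : List (List (List ℕ))), (∀ S ∈ w, tabOK14 S = true) → ∀ (M : M14)
    (k : List ℕ → Bool), runK (H60.PackMat.rep 14 65535) w (rows14 M) k =
      k (rows14 ((w.map toF).prod * M)) := by
  intro w
  induction w with
  | nil => intro _ M k; simp [runK]
  | cons S w ih =>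
    intro h M k
    show runK _ w (rows14 M) (fun Y => stepK _ S Y k) = _
    rw [ih (fun x hx => h x (List.mem_cons_of_mem _ hx)), stepK_eq,
      step14 (h S List.mem_cons_self), List.map_cons, List.prod_cons, mul_assoc]

theorem id14_eq : id14 = rows14 1 := by
  refine List.map_congr_left fun i hi => ?_
  have hi' : i < 14 := List.mem_range.1 hi
  rw [← pk_delta 14 i hi']
  refine pk_congr _ fun k hk => ?_
  rw [ent_of 1 hi' hk, Matrix.one_apply]
  by_cases h : k = i
  · subst h; rw [if_pos rfl, if_pos rfl]; rfl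
  · rw [if_neg h, if_neg fun e => h (congrArg Fin.val e).symm]; rfl

theorem rows14_inj {M N : M14} (h : rows14 M = rows14 N) : M = N := by
  funext i j
  have h1 := List.map_inj_left.1 h i.val (List.mem_range.2 i.2)
  have h2 := pk_inj 14 (fun k _ => (ent_lt M _ k).trans (by norm_num))
    (fun k _ => (ent_lt N _ k).trans (by norm_num)) h1 j.val j.2
  rw [ent_of M i.2 j.2, ent_of N i.2 j.2] at h2
  exact ZMod.val_injective 5 h2

theorem toX_prod : ∀ w : List (List (List ℕ)), (w.map toX).prod = ((w.map toF).prod).submatrix enc enc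
  | [] => by simp
  | S :: w => by
    rw [List.map_cons, List.prod_cons, toX_prod w, toX, List.map_cons, List.prod_cons]
    exact Matrix.submatrix_mul_equiv _ _ _ _ _

theorem isOne14_spec {w : List (List (List ℕ))} (hw : ∀ S ∈ w, tabOK14 S = true)
    (h : isOne14 w = true) : (w.map toX).prod = 1 := by
  have h' : runK (H60.PackMat.rep 14 65535) w id14 (fun Y => eqList Y id14) = true := by
    simpa [isOne14, fz_eq] using h
  rw [id14_eq, run14 w hw] at h'
  have := rows14_inj (eqList_eq h')
  rw [mul_one] at this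
  rw [toX_prod, this, Matrix.submatrix_one_equiv]

end H68.Ly.G14
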