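import Cfsg.Agent.H68.Ly.G2Rels

/-! The elements a, b, c, d generate the adjoint group of type G₂ over the field with five elements. -/

set_option autoImplicit false
set_option maxRecDepth 100000

namespace H68.Ly.G14

open Cfsg.Lie

local instance : Fact (Nat.Prime 5) := ⟨by norm_num⟩

/-- an entry of a root element -/
def xEnt (r : Fin 12) (t : ZMod 5) (i j : Fin 14) : ZMod 5 :=
  chevG2.xMat (ZMod 5) r t (enc.symm i) (enc.symm j)

theorem xMat_one_eq (r : Fin 12) : chevG2.xMat (ZMod 5) r 1 = toX (tabG (4 + r.val)) := by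
  have h : ∀ r : Fin 12, ∀ i j : Fin 14,
      xEnt r 1 i j = (((tabG (4 + r.val)).getD i.val []).getD j.val 0 : ℕ) := by decide +kernel
  refine Matrix.ext fun i j => ?_
  have := h r (enc i) (enc j)
  simpa [xEnt, toX, toF] using this

theorem xMat_zero (r : Fin 12) : chevG2.xMat (ZMod 5) r 0 = 1 := by
  have h : ∀ r : Fin 12, ∀ i j : Fin 14, xEnt r 0 i j = if i = j then 1 else 0 := by decide +kernel
  refine Matrix.ext fun i j => ?_
  have := h r (enc i) (enc j)
  simpa [xEnt, Matrix.one_apply, enc.injective.eq_iff] using this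

theorem xMat_nat (r : Fin 12) : ∀ k : ℕ, chevG2.xMat (ZMod 5) r (k : ZMod 5) = toX (tabG (4 + r.val)) ^ k
  | 0 => by rw [Nat.cast_zero, xMat_zero, pow_zero]
  | k + 1 => by
    have hr : r.val < chevG2.nroots := r.2
    have h := Cfsg.Agent.S1023.result (F := ZMod 5) chevG2 (by simp) r.val hr (k : ZMod 5) 1
    rw [ChevalleyDatum.x, ChevalleyDatum.x, ChevalleyDatum.x, dif_pos hr, dif_pos hr, dif_pos hr] at h
    rw [Nat.cast_succ, pow_succ, ← xMat_nat r k, ← xMat_one_eq]
    exact h.symm

theorem mem_root (r : Fin 12) : UG (4 + r.val) ∈ chevG2.group (ZMod 5) := by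
  refine Subgroup.subset_closure ⟨r, 1, ?_⟩
  rw [coe_UG (show 4 + r.val < 32 by omega), xMat_one_eq]

/-- the group as the closure of the twelve elements -/
theorem group_eq : chevG2.group (ZMod 5) = Subgroup.closure (Set.range fun r : Fin 12 => UG (4 + r.val)) := by
  refine le_antisymm ((Subgroup.closure_le _).2 ?_) ((Subgroup.closure_le _).2 ?_)
  · rintro g ⟨r, t, hg⟩
    have e : g = UG (4 + r.val) ^ t.val := by
      refine Units.ext ?_
      have hr : r.val < 12 := r.2
      rw [Units.val_pow_eq_pow_val, coe_UG (show 4 + r.val < 32 by omega)]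
      refine (hg.trans ?_).trans (xMat_nat r t.val)
      rw [ZMod.natCast_zmod_val]
    rw [e]
    exact pow_mem (Subgroup.subset_closure (Set.mem_range_self (f := fun s : Fin 12 => UG (4 + s.val)) r)) _
  · rintro g ⟨r, rfl⟩
    exact mem_root r

theorem word_mem {H : Subgroup (GL chevG2.Idx (ZMod 5))} (lo hi : ℕ)
    (hH : ∀ k, lo ≤ k → k < hi → k < 16 → UG k ∈ H) :
    ∀ w : List (Fin 16 × Bool), (∀ x ∈ w, lo ≤ x.1.val ∧ x.1.val < hi) → evG (FreeGroup.mk w) ∈ H
  | [], _ => by simp [evG, one_mem]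
  | (k, b) :: w, hw => by
    obtain ⟨h1, h2⟩ := hw (k, b) List.mem_cons_self
    have := word_mem lo hi hH w fun x hx => hw x (List.mem_cons_of_mem _ hx)
    rw [evG, FreeGroup.lift_mk, List.map_cons, List.prod_cons]
    rw [evG, FreeGroup.lift_mk] at this
    refine mul_mem ?_ this
    cases b
    · exact inv_mem (hH _ h1 h2 k.2)
    · exact hH _ h1 h2 k.2

theorem closure_abcd : Subgroup.closure ({gA, gB, gC, gD} : Set (GL chevG2.Idx (ZMod 5))) =
    chevG2.group (ZMod 5) := by
  have hg : ∀ k, k < 4 → UG k ∈ ({gA, gB, gC, gD} : Set (GL chevG2.Idx (ZMod 5))) := by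
    intro k hk
    interval_cases k <;> simp [gA, gB, gC, gD, fA, fB, fC, fD, evG]
  refine le_antisymm ((Subgroup.closure_le _).2 ?_) ?_
  · have key : ∀ j : Fin 4, UG j.val ∈ chevG2.group (ZMod 5) := by
      intro j
      have hchk : chkG (FreeGroup.of ⟨j.val, by omega⟩ * (FreeGroup.mk (abcdWords.getD j.val []))⁻¹) = true := by
        revert j; decide +kernel
      have hok : ∀ x ∈ abcdWords.getD j.val [], 4 ≤ x.1.val ∧ x.1.val < 16 := by
        revert j; decide +kernel
      have := word_mem 4 16 (H := chevG2.group (ZMod 5)) (fun k h1 h2 _ => by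
        have := mem_root ⟨k - 4, by omega⟩
        rwa [show 4 + (k - 4) = k by omega] at this) _ hok
      rw [← evG_eq hchk] at this
      simpa [evG] using this
    rintro x (rfl | rfl | rfl | rfl)
    · simpa [gA, fA, evG] using key 0
    · simpa [gB, fB, evG] using key 1
    · simpa [gC, fC, evG] using key 2
    · simpa [gD, fD, evG] using key 3
  · rw [group_eq, Subgroup.closure_le]
    rintro x ⟨r, rfl⟩
    have hchk : chkG (FreeGroup.of ⟨4 + r.val, by omega⟩ * (FreeGroup.mk (rootWord.getD r.val []))⁻¹) = true := by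
      revert r; decide +kernel
    have hok : ∀ x ∈ rootWord.getD r.val [], 0 ≤ x.1.val ∧ x.1.val < 4 := by
      revert r; decide +kernel
    have := word_mem 0 4 (fun k _ h2 _ => Subgroup.subset_closure (hg k h2)) _ hok
    rw [← evG_eq hchk] at this
    simpa [evG] using this

theorem card_group : Nat.card ↥(chevG2.group (ZMod 5)) = 5859000000 := by
  have := H52.g2_card (F := ZMod 5) H52.divisorsG2
  have hp : ∀ n : ℕ, (∏ x : Fin chevG2.rank, Nat.gcd n ((![1, 1] : Fin 2 → ℕ) x)) = 1 := fun n =>
    Finset.prod_eq_one fun x _ => by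
      change Nat.gcd n ((![1, 1] : Fin 2 → ℕ) (x : Fin 2)) = 1
      revert x; intro (x : Fin 2) _; fin_cases x <;> simp
  rw [hp, one_mul] at this
  simpa [show chevG2.nroots = 12 from rfl, ZMod.card] using this

end H68.Ly.G14
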