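import Cfsg.Prelude.Def_Spor_Ly
import Cfsg.Agent.H68.Ly.Rels

/-! The images of a, b, c, d in the presented Lyons group satisfy the relations of the G₂(5) subgroup. -/

set_option autoImplicit false
set_option maxRecDepth 10000
set_option linter.unusedSimpArgs false

namespace H68.Ly

/-- the projection onto the presented Lyons group -/
def prLy : FreeGroup Cfsg.Spor.Ly.Gen →* Cfsg.Spor.Ly :=
  PresentedGroup.mk (Cfsg.Spor.coxRelators Cfsg.Spor.Ly.edges ∪ {r | r ∈ Cfsg.Spor.Ly.extra})

theorem prLy_extra (i : ℕ) (hi : i < Cfsg.Spor.Ly.extra.length) :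
    prLy Cfsg.Spor.Ly.extra[i] = 1 :=
  PresentedGroup.one_of_mem (Or.inr (List.getElem_mem hi))

open Cfsg.Spor in
theorem rels_ly : Rels (prLy Ly.a) (prLy Ly.b) (prLy Ly.c) (prLy Ly.d) := by
  have hl : Ly.extra.length = 86 := rfl
  have E6 := prLy_extra 5 (by rw [hl]; norm_num)
  simp only [Ly.extra, List.getElem_cons_succ, List.getElem_cons_zero, map_mul, map_inv, map_pow,
    mul_inv_eq_one, inv_inv] at E6
  have E7 := prLy_extra 6 (by rw [hl]; norm_num)
  simp only [Ly.extra, List.getElem_cons_succ, List.getElem_cons_zero, map_mul, map_inv, map_pow,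
    mul_inv_eq_one, inv_inv] at E7
  have E8 := prLy_extra 7 (by rw [hl]; norm_num)
  simp only [Ly.extra, List.getElem_cons_succ, List.getElem_cons_zero, map_mul, map_inv, map_pow,
    mul_inv_eq_one, inv_inv] at E8
  have E9 := prLy_extra 8 (by rw [hl]; norm_num)
  simp only [Ly.extra, List.getElem_cons_succ, List.getElem_cons_zero, map_mul, map_inv, map_pow,
    mul_inv_eq_one, inv_inv] at E9
  have E10 := prLy_extra 9 (by rw [hl]; norm_num)
  simp only [Ly.extra, List.getElem_cons_succ, List.getElem_cons_zero, map_mul, map_inv, map_pow,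
    mul_inv_eq_one, inv_inv] at E10
  have E29 := prLy_extra 28 (by rw [hl]; norm_num)
  simp only [Ly.extra, List.getElem_cons_succ, List.getElem_cons_zero, map_mul, map_inv, map_pow,
    mul_inv_eq_one, inv_inv] at E29
  rw [E6] at E10
  rw [E7] at E10
  have Q2 : prLy Ly.c2 = q2 (prLy Ly.a) (prLy Ly.c) := E7
  have Q3 : prLy Ly.c3 = q3 (prLy Ly.b) (prLy Ly.c) := E8
  have Q4 : prLy Ly.c4 = q4 (prLy Ly.b) (prLy Ly.c) := E9
  have Q5 : prLy Ly.c5 = q5 (prLy Ly.a) (prLy Ly.c) := E10
  have QE : prLy Ly.e = ee (prLy Ly.a) (prLy Ly.b) (prLy Ly.c) (prLy Ly.d) := by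
    rw [E29, E6]; rfl
  constructor
  · have R := prLy_extra 0 (by rw [hl]; norm_num)
    simp only [Ly.extra, List.getElem_cons_succ, List.getElem_cons_zero, map_mul, map_inv, map_pow,
      mul_inv_eq_one, inv_inv, E6, Q2, Q3, Q4, Q5, QE] at R
    first | exact R | exact eq_inv_of_mul_eq_one_left R
  · have R := prLy_extra 1 (by rw [hl]; norm_num)
    simp only [Ly.extra, List.getElem_cons_succ, List.getElem_cons_zero, map_mul, map_inv, map_pow,
      mul_inv_eq_one, inv_inv, E6, Q2, Q3, Q4, Q5, QE] at R
    first | exact R | exact eq_inv_of_mul_eq_one_left R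
  · have R := prLy_extra 2 (by rw [hl]; norm_num)
    simp only [Ly.extra, List.getElem_cons_succ, List.getElem_cons_zero, map_mul, map_inv, map_pow,
      mul_inv_eq_one, inv_inv, E6, Q2, Q3, Q4, Q5, QE] at R
    first | exact R | exact eq_inv_of_mul_eq_one_left R
  · have R := prLy_extra 3 (by rw [hl]; norm_num)
    simp only [Ly.extra, List.getElem_cons_succ, List.getElem_cons_zero, map_mul, map_inv, map_pow,
      mul_inv_eq_one, inv_inv, E6, Q2, Q3, Q4, Q5, QE] at R
    first | exact R | exact eq_inv_of_mul_eq_one_left R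
  · have R := prLy_extra 4 (by rw [hl]; norm_num)
    simp only [Ly.extra, List.getElem_cons_succ, List.getElem_cons_zero, map_mul, map_inv, map_pow,
      mul_inv_eq_one, inv_inv, E6, Q2, Q3, Q4, Q5, QE] at R
    first | exact R | exact eq_inv_of_mul_eq_one_left R
  · have R := prLy_extra 10 (by rw [hl]; norm_num)
    simp only [Ly.extra, List.getElem_cons_succ, List.getElem_cons_zero, map_mul, map_inv, map_pow,
      mul_inv_eq_one, inv_inv, E6, Q2, Q3, Q4, Q5, QE] at R
    first | exact R | exact eq_inv_of_mul_eq_one_left R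
  · have R := prLy_extra 11 (by rw [hl]; norm_num)
    simp only [Ly.extra, List.getElem_cons_succ, List.getElem_cons_zero, map_mul, map_inv, map_pow,
      mul_inv_eq_one, inv_inv, E6, Q2, Q3, Q4, Q5, QE] at R
    first | exact R | exact eq_inv_of_mul_eq_one_left R
  · have R := prLy_extra 12 (by rw [hl]; norm_num)
    simp only [Ly.extra, List.getElem_cons_succ, List.getElem_cons_zero, map_mul, map_inv, map_pow,
      mul_inv_eq_one, inv_inv, E6, Q2, Q3, Q4, Q5, QE] at R
    first | exact R | exact eq_inv_of_mul_eq_one_left R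
  · have R := prLy_extra 13 (by rw [hl]; norm_num)
    simp only [Ly.extra, List.getElem_cons_succ, List.getElem_cons_zero, map_mul, map_inv, map_pow,
      mul_inv_eq_one, inv_inv, E6, Q2, Q3, Q4, Q5, QE] at R
    first | exact R | exact eq_inv_of_mul_eq_one_left R
  · have R := prLy_extra 14 (by rw [hl]; norm_num)
    simp only [Ly.extra, List.getElem_cons_succ, List.getElem_cons_zero, map_mul, map_inv, map_pow,
      mul_inv_eq_one, inv_inv, E6, Q2, Q3, Q4, Q5, QE] at R
    first | exact R | exact eq_inv_of_mul_eq_one_left R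
  · have R := prLy_extra 15 (by rw [hl]; norm_num)
    simp only [Ly.extra, List.getElem_cons_succ, List.getElem_cons_zero, map_mul, map_inv, map_pow,
      mul_inv_eq_one, inv_inv, E6, Q2, Q3, Q4, Q5, QE] at R
    first | exact R | exact eq_inv_of_mul_eq_one_left R
  · have R := prLy_extra 16 (by rw [hl]; norm_num)
    simp only [Ly.extra, List.getElem_cons_succ, List.getElem_cons_zero, map_mul, map_inv, map_pow,
      mul_inv_eq_one, inv_inv, E6, Q2, Q3, Q4, Q5, QE] at R
    first | exact R | exact eq_inv_of_mul_eq_one_left R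
  · have R := prLy_extra 17 (by rw [hl]; norm_num)
    simp only [Ly.extra, List.getElem_cons_succ, List.getElem_cons_zero, map_mul, map_inv, map_pow,
      mul_inv_eq_one, inv_inv, E6, Q2, Q3, Q4, Q5, QE] at R
    first | exact R | exact eq_inv_of_mul_eq_one_left R
  · have R := prLy_extra 18 (by rw [hl]; norm_num)
    simp only [Ly.extra, List.getElem_cons_succ, List.getElem_cons_zero, map_mul, map_inv, map_pow,
      mul_inv_eq_one, inv_inv, E6, Q2, Q3, Q4, Q5, QE] at R
    first | exact R | exact eq_inv_of_mul_eq_one_left R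
  · have R := prLy_extra 19 (by rw [hl]; norm_num)
    simp only [Ly.extra, List.getElem_cons_succ, List.getElem_cons_zero, map_mul, map_inv, map_pow,
      mul_inv_eq_one, inv_inv, E6, Q2, Q3, Q4, Q5, QE] at R
    first | exact R | exact eq_inv_of_mul_eq_one_left R
  · have R := prLy_extra 20 (by rw [hl]; norm_num)
    simp only [Ly.extra, List.getElem_cons_succ, List.getElem_cons_zero, map_mul, map_inv, map_pow,
      mul_inv_eq_one, inv_inv, E6, Q2, Q3, Q4, Q5, QE] at R
    first | exact R | exact eq_inv_of_mul_eq_one_left R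
  · have R := prLy_extra 21 (by rw [hl]; norm_num)
    simp only [Ly.extra, List.getElem_cons_succ, List.getElem_cons_zero, map_mul, map_inv, map_pow,
      mul_inv_eq_one, inv_inv, E6, Q2, Q3, Q4, Q5, QE] at R
    first | exact R | exact eq_inv_of_mul_eq_one_left R
  · have R := prLy_extra 22 (by rw [hl]; norm_num)
    simp only [Ly.extra, List.getElem_cons_succ, List.getElem_cons_zero, map_mul, map_inv, map_pow,
      mul_inv_eq_one, inv_inv, E6, Q2, Q3, Q4, Q5, QE] at R
    first | exact R | exact eq_inv_of_mul_eq_one_left R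
  · have R := prLy_extra 23 (by rw [hl]; norm_num)
    simp only [Ly.extra, List.getElem_cons_succ, List.getElem_cons_zero, map_mul, map_inv, map_pow,
      mul_inv_eq_one, inv_inv, E6, Q2, Q3, Q4, Q5, QE] at R
    first | exact R | exact eq_inv_of_mul_eq_one_left R
  · have R := prLy_extra 24 (by rw [hl]; norm_num)
    simp only [Ly.extra, List.getElem_cons_succ, List.getElem_cons_zero, map_mul, map_inv, map_pow,
      mul_inv_eq_one, inv_inv, E6, Q2, Q3, Q4, Q5, QE] at R
    first | exact R | exact eq_inv_of_mul_eq_one_left R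
  · have R := prLy_extra 25 (by rw [hl]; norm_num)
    simp only [Ly.extra, List.getElem_cons_succ, List.getElem_cons_zero, map_mul, map_inv, map_pow,
      mul_inv_eq_one, inv_inv, E6, Q2, Q3, Q4, Q5, QE] at R
    first | exact R | exact eq_inv_of_mul_eq_one_left R
  · have R := prLy_extra 26 (by rw [hl]; norm_num)
    simp only [Ly.extra, List.getElem_cons_succ, List.getElem_cons_zero, map_mul, map_inv, map_pow,
      mul_inv_eq_one, inv_inv, E6, Q2, Q3, Q4, Q5, QE] at R
    first | exact R | exact eq_inv_of_mul_eq_one_left R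
  · have R := prLy_extra 27 (by rw [hl]; norm_num)
    simp only [Ly.extra, List.getElem_cons_succ, List.getElem_cons_zero, map_mul, map_inv, map_pow,
      mul_inv_eq_one, inv_inv, E6, Q2, Q3, Q4, Q5, QE] at R
    first | exact R | exact eq_inv_of_mul_eq_one_left R
  · have R := prLy_extra 29 (by rw [hl]; norm_num)
    simp only [Ly.extra, List.getElem_cons_succ, List.getElem_cons_zero, map_mul, map_inv, map_pow,
      mul_inv_eq_one, inv_inv, E6, Q2, Q3, Q4, Q5, QE] at R
    first | exact R | exact eq_inv_of_mul_eq_one_left R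
  · have R := prLy_extra 30 (by rw [hl]; norm_num)
    simp only [Ly.extra, List.getElem_cons_succ, List.getElem_cons_zero, map_mul, map_inv, map_pow,
      mul_inv_eq_one, inv_inv, E6, Q2, Q3, Q4, Q5, QE] at R
    first | exact R | exact eq_inv_of_mul_eq_one_left R
  · have R := prLy_extra 31 (by rw [hl]; norm_num)
    simp only [Ly.extra, List.getElem_cons_succ, List.getElem_cons_zero, map_mul, map_inv, map_pow,
      mul_inv_eq_one, inv_inv, E6, Q2, Q3, Q4, Q5, QE] at R
    first | exact R | exact eq_inv_of_mul_eq_one_left R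
  · have R := prLy_extra 32 (by rw [hl]; norm_num)
    simp only [Ly.extra, List.getElem_cons_succ, List.getElem_cons_zero, map_mul, map_inv, map_pow,
      mul_inv_eq_one, inv_inv, E6, Q2, Q3, Q4, Q5, QE] at R
    first | exact R | exact eq_inv_of_mul_eq_one_left R
  · have R := prLy_extra 33 (by rw [hl]; norm_num)
    simp only [Ly.extra, List.getElem_cons_succ, List.getElem_cons_zero, map_mul, map_inv, map_pow,
      mul_inv_eq_one, inv_inv, E6, Q2, Q3, Q4, Q5, QE] at R
    first | exact R | exact eq_inv_of_mul_eq_one_left R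
  · have R := prLy_extra 34 (by rw [hl]; norm_num)
    simp only [Ly.extra, List.getElem_cons_succ, List.getElem_cons_zero, map_mul, map_inv, map_pow,
      mul_inv_eq_one, inv_inv, E6, Q2, Q3, Q4, Q5, QE] at R
    first | exact R | exact eq_inv_of_mul_eq_one_left R
  · have R := prLy_extra 35 (by rw [hl]; norm_num)
    simp only [Ly.extra, List.getElem_cons_succ, List.getElem_cons_zero, map_mul, map_inv, map_pow,
      mul_inv_eq_one, inv_inv, E6, Q2, Q3, Q4, Q5, QE] at R
    first | exact R | exact eq_inv_of_mul_eq_one_left R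
  · have R := prLy_extra 37 (by rw [hl]; norm_num)
    simp only [Ly.extra, List.getElem_cons_succ, List.getElem_cons_zero, map_mul, map_inv, map_pow,
      mul_inv_eq_one, inv_inv, E6, Q2, Q3, Q4, Q5, QE] at R
    first | exact R | exact eq_inv_of_mul_eq_one_left R
  · have R := prLy_extra 38 (by rw [hl]; norm_num)
    simp only [Ly.extra, List.getElem_cons_succ, List.getElem_cons_zero, map_mul, map_inv, map_pow,
      mul_inv_eq_one, inv_inv, E6, Q2, Q3, Q4, Q5, QE] at R
    first | exact R | exact eq_inv_of_mul_eq_one_left R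
  · have R := prLy_extra 40 (by rw [hl]; norm_num)
    simp only [Ly.extra, List.getElem_cons_succ, List.getElem_cons_zero, map_mul, map_inv, map_pow,
      mul_inv_eq_one, inv_inv, E6, Q2, Q3, Q4, Q5, QE] at R
    first | exact R | exact eq_inv_of_mul_eq_one_left R
  · have R := prLy_extra 41 (by rw [hl]; norm_num)
    simp only [Ly.extra, List.getElem_cons_succ, List.getElem_cons_zero, map_mul, map_inv, map_pow,
      mul_inv_eq_one, inv_inv, E6, Q2, Q3, Q4, Q5, QE] at R
    first | exact R | exact eq_inv_of_mul_eq_one_left R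

end H68.Ly
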