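import Cfsg.Agent.H68.Ly.QBound
import Cfsg.Agent.H68.Ly.LyRels
import Cfsg.Agent.H68.Ly.G2Gen
import Cfsg.Agent.H68.Ly.RepHom
import Cfsg.Agent.H52.Simple

/-!
The subgroup of the presented Lyons group generated by a, b, c, d is the adjoint group of type G₂
over the field with five elements.
-/

set_option autoImplicit false

namespace H68.Ly

open Cfsg Cfsg.Lie Cfsg.Spor

/-- relations in a product -/
theorem Rels.prod {G H : Type*} [Group G] [Group H] {a b c d : G} {a' b' c' d' : H}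
    (h : Rels a b c d) (k : Rels a' b' c' d') : Rels (a, a') (b, b') (c, c') (d, d') where
  r1 := Prod.ext h.r1 k.r1
  r2 := Prod.ext h.r2 k.r2
  r3 := Prod.ext h.r3 k.r3
  r4 := Prod.ext h.r4 k.r4
  r5 := Prod.ext h.r5 k.r5
  r11 := Prod.ext h.r11 k.r11
  r12 := Prod.ext h.r12 k.r12
  r13 := Prod.ext h.r13 k.r13
  r14 := Prod.ext h.r14 k.r14
  r15 := Prod.ext h.r15 k.r15
  r16 := Prod.ext h.r16 k.r16
  r17 := Prod.ext h.r17 k.r17
  r18 := Prod.ext h.r18 k.r18
  r19 := Prod.ext h.r19 k.r19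
  r20 := Prod.ext h.r20 k.r20
  r21 := Prod.ext h.r21 k.r21
  r22 := Prod.ext h.r22 k.r22
  r23 := Prod.ext h.r23 k.r23
  r24 := Prod.ext h.r24 k.r24
  r25 := Prod.ext h.r25 k.r25
  r26 := Prod.ext h.r26 k.r26
  r27 := Prod.ext h.r27 k.r27
  r28 := Prod.ext h.r28 k.r28
  r30 := Prod.ext h.r30 k.r30
  r31 := Prod.ext h.r31 k.r31
  r32 := Prod.ext h.r32 k.r32
  r33 := Prod.ext h.r33 k.r33
  r34 := Prod.ext h.r34 k.r34
  r35 := Prod.ext h.r35 k.r35
  r36 := Prod.ext h.r36 k.r36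
  r38 := Prod.ext h.r38 k.r38
  r39 := Prod.ext h.r39 k.r39
  r41 := Prod.ext h.r41 k.r41
  r42 := Prod.ext h.r42 k.r42

local instance : Fact (Nat.Prime 5) := ⟨by norm_num⟩

/-- the subgroup of the presented Lyons group generated by the images of a, b, c, d -/
def abcdSub : Subgroup Cfsg.Spor.Ly :=
  Subgroup.closure {prLy Ly.a, prLy Ly.b, prLy Ly.c, prLy Ly.d}

theorem prLy_a_ne_one : prLy Ly.a ≠ 1 := fun h => rep_a_ne_one (by rw [show PresentedGroup.mk _ Ly.a = prLy Ly.a from rfl, h, map_one])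

theorem abcdSub_iso : Nonempty (↥abcdSub ≃* ↥(chevG2.group (ZMod 5))) := by
  let S : Set (Cfsg.Spor.Ly × GL chevG2.Idx (ZMod 5)) :=
    {(prLy Ly.a, G14.gA), (prLy Ly.b, G14.gB), (prLy Ly.c, G14.gC), (prLy Ly.d, G14.gD)}
  let P := Subgroup.closure S
  have hP := rels_ly.prod G14.rels_g
  have hfin : Finite ↥P := hP.closure_finite
  have hle : Nat.card ↥P ≤ 5859000000 := hP.card_le
  have hs : P.map (MonoidHom.snd _ _) = chevG2.group (ZMod 5) := by
    rw [← G14.closure_abcd, MonoidHom.map_closure]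
    simp [S, Set.image_insert_eq]
  have hf : P.map (MonoidHom.fst _ _) = abcdSub := by
    rw [abcdSub, MonoidHom.map_closure]
    simp [S, Set.image_insert_eq]
  let ψ : ↥P →* ↥(chevG2.group (ZMod 5)) :=
    ((MonoidHom.snd _ _).comp P.subtype).codRestrict _ fun x => hs ▸ Subgroup.mem_map_of_mem _ x.2
  have ψsurj : Function.Surjective ψ := fun y => by
    have hy : (y : GL chevG2.Idx (ZMod 5)) ∈ P.map (MonoidHom.snd _ _) := hs.symm ▸ y.2
    obtain ⟨x, hx, e⟩ := hy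
    exact ⟨⟨x, hx⟩, Subtype.ext e⟩
  have hcard : Nat.card ↥P = Nat.card ↥(chevG2.group (ZMod 5)) :=
    le_antisymm (hle.trans G14.card_group.ge) (Nat.card_le_card_of_surjective ψ ψsurj)
  have ψbij : Function.Bijective ψ :=
    (Function.Surjective.bijective_of_nat_card_le ψsurj hcard.le)
  let eψ := MulEquiv.ofBijective ψ ψbij
  have hsimple : IsSimpleGroup ↥P := by
    have h2 : ∃ a : ZMod 5, a ≠ 0 ∧ a ≠ 1 := ⟨2, by decide, by decide⟩
    exact eψ.isSimpleGroup_congr.mpr (H52.group_simple (by simp) (fun _ => h2)).1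
  let φ : ↥P →* ↥abcdSub :=
    ((MonoidHom.fst _ _).comp P.subtype).codRestrict _ fun x => hf ▸ Subgroup.mem_map_of_mem _ x.2
  have φsurj : Function.Surjective φ := fun y => by
    have hy : (y : Cfsg.Spor.Ly) ∈ P.map (MonoidHom.fst _ _) := hf.symm ▸ y.2
    obtain ⟨x, hx, e⟩ := hy
    exact ⟨⟨x, hx⟩, Subtype.ext e⟩
  have φinj : Function.Injective φ := by
    rw [← MonoidHom.ker_eq_bot_iff]
    rcases hsimple.eq_bot_or_eq_top_of_normal φ.ker (MonoidHom.normal_ker φ) with e | e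
    · exact e
    · exfalso
      have hmem : (prLy Ly.a, G14.gA) ∈ P := Subgroup.subset_closure (Set.mem_insert _ _)
      have h1 : φ ⟨_, hmem⟩ = 1 := by rw [← MonoidHom.mem_ker, e]; exact Subgroup.mem_top _
      exact prLy_a_ne_one (congrArg Subtype.val h1)
  exact ⟨(MulEquiv.ofBijective φ ⟨φinj, φsurj⟩).symm.trans eψ⟩

end H68.Ly
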