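import Cfsg.Agent.H68.Ly.G2Data
import Cfsg.Agent.H68.Ly.Rels
import Cfsg.Agent.S1023
import Cfsg.Agent.H52.OrderG2
import Cfsg.Agent.H52.TorusCard

/-!
Elements a, b, c, d of the adjoint group of type G₂ over the field with five elements satisfying
the relations, and generating it.
-/

set_option autoImplicit false
set_option maxRecDepth 100000
set_option maxHeartbeats 0
set_option Elab.async false

namespace H68.Ly.G14

open Cfsg.Lie

local instance : Fact (Nat.Prime 5) := ⟨by norm_num⟩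

noncomputable def tabG (k : ℕ) : List (List ℕ) := tabs.getD k []

theorem tabG_ok : ∀ k, k < 32 → tabOK14 (tabG k) = true := by
  intro k hk
  have h : (List.range 32).all (fun k => tabOK14 (tabG k)) = true := by decide +kernel
  exact List.all_eq_true.1 h k (List.mem_range.2 hk)

theorem tabG_inv : ∀ k, k < 32 → isOne14 [tabG k, tabG ((k + 16) % 32)] = true := by
  intro k hk
  have h : (List.range 32).all (fun k => isOne14 [tabG k, tabG ((k + 16) % 32)]) = true := by
    decide +kernel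
  exact List.all_eq_true.1 h k (List.mem_range.2 hk)

theorem toX_mul_inv {k : ℕ} (hk : k < 32) : toX (tabG k) * toX (tabG ((k + 16) % 32)) = 1 := by
  have := isOne14_spec (w := [tabG k, tabG ((k + 16) % 32)])
    (by
      intro S hS
      rcases List.mem_cons.1 hS with rfl | hS
      · exact tabG_ok k hk
      · rw [List.mem_singleton.1 hS]; exact tabG_ok _ (Nat.mod_lt _ (by norm_num)))
    (tabG_inv k hk)
  simpa using this

/-- the element of a letter -/
noncomputable def UG (k : ℕ) : GL chevG2.Idx (ZMod 5) :=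
  if hk : k < 32 then
    { val := toX (tabG k)
      inv := toX (tabG ((k + 16) % 32))
      val_inv := toX_mul_inv hk
      inv_val := by
        have := toX_mul_inv (k := (k + 16) % 32) (Nat.mod_lt _ (by norm_num))
        rwa [show ((k + 16) % 32 + 16) % 32 = k by omega] at this }
  else 1

theorem coe_UG {k : ℕ} (hk : k < 32) : (UG k : MX) = toX (tabG k) := by rw [UG, dif_pos hk]

/-- words in the sixteen elements -/
noncomputable def evG : FreeGroup (Fin 16) →* GL chevG2.Idx (ZMod 5) := FreeGroup.lift fun k => UG k.val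

def lwG (x : Fin 16 × Bool) : ℕ := cond x.2 x.1.val (x.1.val + 16)

noncomputable def chkG (r : FreeGroup (Fin 16)) : Bool := isOne14 (r.toWord.map fun x => tabG (lwG x))

theorem evG_one {r : FreeGroup (Fin 16)} (h : chkG r = true) : evG r = 1 := by
  have hlt : ∀ x : Fin 16 × Bool, lwG x < 32 := fun ⟨k, b⟩ => by
    cases b <;> simp only [lwG, cond_true, cond_false] <;> omega
  have h1 := isOne14_spec (by
    intro S hS
    obtain ⟨x, -, rfl⟩ := List.mem_map.1 hS
    exact tabG_ok _ (hlt x)) h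
  rw [← FreeGroup.mk_toWord (x := r), evG, FreeGroup.lift_mk]
  refine Units.ext ?_
  rw [Units.val_one, ← h1, ← Units.coeHom_apply, map_list_prod, List.map_map, List.map_map]
  refine congrArg List.prod (List.map_congr_left fun ⟨k, b⟩ _ => ?_)
  cases b
  · show ((UG k.val)⁻¹ : GL chevG2.Idx (ZMod 5)).val = toX (tabG (k.val + 16))
    rw [UG, dif_pos (by omega)]
    show toX (tabG ((k.val + 16) % 32)) = _
    rw [Nat.mod_eq_of_lt (by omega)]
  · exact coe_UG (by omega)

theorem evG_eq {X Y : FreeGroup (Fin 16)} (h : chkG (X * Y⁻¹) = true) : evG X = evG Y := by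
  have := evG_one h
  rwa [map_mul, map_inv, mul_inv_eq_one] at this

def fA : FreeGroup (Fin 16) := FreeGroup.of 0
def fB : FreeGroup (Fin 16) := FreeGroup.of 1
def fC : FreeGroup (Fin 16) := FreeGroup.of 2
def fD : FreeGroup (Fin 16) := FreeGroup.of 3

noncomputable def gA : GL chevG2.Idx (ZMod 5) := evG fA
noncomputable def gB : GL chevG2.Idx (ZMod 5) := evG fB
noncomputable def gC : GL chevG2.Idx (ZMod 5) := evG fC
noncomputable def gD : GL chevG2.Idx (ZMod 5) := evG fD

theorem rels_g : Rels gA gB gC gD where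
  r1 := by
    have := evG_eq (X := fA ^ 8) (Y := 1) (by decide +kernel)
    simpa only [gA, gB, gC, gD, q2, q3, q4, q5, ee, map_mul, map_inv, map_pow, map_one] using this
  r2 := by
    have := evG_eq (X := fB ^ 5) (Y := 1) (by decide +kernel)
    simpa only [gA, gB, gC, gD, q2, q3, q4, q5, ee, map_mul, map_inv, map_pow, map_one] using this
  r3 := by
    have := evG_eq (X := (fA * fB) ^ 4) (Y := 1) (by decide +kernel)
    simpa only [gA, gB, gC, gD, q2, q3, q4, q5, ee, map_mul, map_inv, map_pow, map_one] using this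
  r4 := by
    have := evG_eq (X := (fA ^ 2)⁻¹ * fB⁻¹ * fA ^ 2 * fB) (Y := 1) (by decide +kernel)
    simpa only [gA, gB, gC, gD, q2, q3, q4, q5, ee, map_mul, map_inv, map_pow, map_one] using this
  r5 := by
    have := evG_eq (X := (fA⁻¹ * fB⁻¹ * fA * fB) ^ 3) (Y := 1) (by decide +kernel)
    simpa only [gA, gB, gC, gD, q2, q3, q4, q5, ee, map_mul, map_inv, map_pow, map_one] using this
  r11 := by
    have := evG_eq (X := fC ^ 5) (Y := 1) (by decide +kernel)
    simpa only [gA, gB, gC, gD, q2, q3, q4, q5, ee, map_mul, map_inv, map_pow, map_one] using this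
  r12 := by
    have := evG_eq (X := q5 fA fC ^ 5) (Y := 1) (by decide +kernel)
    simpa only [gA, gB, gC, gD, q2, q3, q4, q5, ee, map_mul, map_inv, map_pow, map_one] using this
  r13 := by
    have := evG_eq (X := fC⁻¹ * (q5 fA fC)⁻¹ * fC * q5 fA fC) (Y := 1) (by decide +kernel)
    simpa only [gA, gB, gC, gD, q2, q3, q4, q5, ee, map_mul, map_inv, map_pow, map_one] using this
  r14 := by
    have := evG_eq (X := (q2 fA fC)⁻¹ * (q5 fA fC)⁻¹ * q2 fA fC * q5 fA fC) (Y := 1) (by decide +kernel)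
    simpa only [gA, gB, gC, gD, q2, q3, q4, q5, ee, map_mul, map_inv, map_pow, map_one] using this
  r15 := by
    have := evG_eq (X := (q3 fB fC)⁻¹ * (q5 fA fC)⁻¹ * q3 fB fC * q5 fA fC) (Y := 1) (by decide +kernel)
    simpa only [gA, gB, gC, gD, q2, q3, q4, q5, ee, map_mul, map_inv, map_pow, map_one] using this
  r16 := by
    have := evG_eq (X := (q4 fB fC)⁻¹ * (q5 fA fC)⁻¹ * q4 fB fC * q5 fA fC) (Y := 1) (by decide +kernel)
    simpa only [gA, gB, gC, gD, q2, q3, q4, q5, ee, map_mul, map_inv, map_pow, map_one] using this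
  r17 := by
    have := evG_eq (X := fC⁻¹ * (q3 fB fC)⁻¹ * fC * q3 fB fC) (Y := (q5 fA fC ^ 2)⁻¹) (by decide +kernel)
    simpa only [gA, gB, gC, gD, q2, q3, q4, q5, ee, map_mul, map_inv, map_pow, map_one] using this
  r18 := by
    have := evG_eq (X := fC⁻¹ * (q4 fB fC)⁻¹ * fC * q4 fB fC) (Y := q5 fA fC ^ 2) (by decide +kernel)
    simpa only [gA, gB, gC, gD, q2, q3, q4, q5, ee, map_mul, map_inv, map_pow, map_one] using this
  r19 := by
    have := evG_eq (X := (q2 fA fC)⁻¹ * (q3 fB fC)⁻¹ * q2 fA fC * q3 fB fC) (Y := (q5 fA fC)⁻¹) (by decide +kernel)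
    simpa only [gA, gB, gC, gD, q2, q3, q4, q5, ee, map_mul, map_inv, map_pow, map_one] using this
  r20 := by
    have := evG_eq (X := (q2 fA fC)⁻¹ * (q4 fB fC)⁻¹ * q2 fA fC * q4 fB fC) (Y := 1) (by decide +kernel)
    simpa only [gA, gB, gC, gD, q2, q3, q4, q5, ee, map_mul, map_inv, map_pow, map_one] using this
  r21 := by
    have := evG_eq (X := (q3 fB fC)⁻¹ * (q4 fB fC)⁻¹ * q3 fB fC * q4 fB fC) (Y := (q5 fA fC)⁻¹) (by decide +kernel)
    simpa only [gA, gB, gC, gD, q2, q3, q4, q5, ee, map_mul, map_inv, map_pow, map_one] using this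
  r22 := by
    have := evG_eq (X := fA⁻¹ * q2 fA fC * fA) (Y := (fC ^ 2)⁻¹) (by decide +kernel)
    simpa only [gA, gB, gC, gD, q2, q3, q4, q5, ee, map_mul, map_inv, map_pow, map_one] using this
  r23 := by
    have := evG_eq (X := fA⁻¹ * q3 fB fC * fA) (Y := (q3 fB fC ^ 2)⁻¹ * fC * q4 fB fC) (by decide +kernel)
    simpa only [gA, gB, gC, gD, q2, q3, q4, q5, ee, map_mul, map_inv, map_pow, map_one] using this
  r24 := by
    have := evG_eq (X := fA⁻¹ * q4 fB fC * fA) (Y := fC * (q2 fA fC)⁻¹ * (q3 fB fC)⁻¹ * q4 fB fC * fC * q4 fB fC) (by decide +kernel)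
    simpa only [gA, gB, gC, gD, q2, q3, q4, q5, ee, map_mul, map_inv, map_pow, map_one] using this
  r25 := by
    have := evG_eq (X := fA⁻¹ * q5 fA fC * fA) (Y := q5 fA fC ^ 2) (by decide +kernel)
    simpa only [gA, gB, gC, gD, q2, q3, q4, q5, ee, map_mul, map_inv, map_pow, map_one] using this
  r26 := by
    have := evG_eq (X := fB⁻¹ * q2 fA fC * fB) (Y := q2 fA fC * q3 fB fC * (q4 fB fC)⁻¹ * fC⁻¹ * (q4 fB fC)⁻¹) (by decide +kernel)
    simpa only [gA, gB, gC, gD, q2, q3, q4, q5, ee, map_mul, map_inv, map_pow, map_one] using this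
  r27 := by
    have := evG_eq (X := fB⁻¹ * q3 fB fC * fB) (Y := fC ^ 2 * q4 fB fC * (q3 fB fC ^ 2)⁻¹) (by decide +kernel)
    simpa only [gA, gB, gC, gD, q2, q3, q4, q5, ee, map_mul, map_inv, map_pow, map_one] using this
  r28 := by
    have := evG_eq (X := fB⁻¹ * q5 fA fC * fB) (Y := q5 fA fC) (by decide +kernel)
    simpa only [gA, gB, gC, gD, q2, q3, q4, q5, ee, map_mul, map_inv, map_pow, map_one] using this
  r30 := by
    have := evG_eq (X := ee fA fB fC fD ^ 2) (Y := 1) (by decide +kernel)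
    simpa only [gA, gB, gC, gD, q2, q3, q4, q5, ee, map_mul, map_inv, map_pow, map_one] using this
  r31 := by
    have := evG_eq (X := (ee fA fB fC fD)⁻¹ * fC * ee fA fB fC fD) (Y := fB * q3 fB fC * fB * fC⁻¹) (by decide +kernel)
    simpa only [gA, gB, gC, gD, q2, q3, q4, q5, ee, map_mul, map_inv, map_pow, map_one] using this
  r32 := by
    have := evG_eq (X := (ee fA fB fC fD)⁻¹ * q3 fB fC * ee fA fB fC fD) (Y := fB ^ 2 * fA * q2 fA fC * fC⁻¹ * (q4 fB fC)⁻¹ * fA⁻¹) (by decide +kernel)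
    simpa only [gA, gB, gC, gD, q2, q3, q4, q5, ee, map_mul, map_inv, map_pow, map_one] using this
  r33 := by
    have := evG_eq (X := (ee fA fB fC fD)⁻¹ * q4 fB fC * ee fA fB fC fD) (Y := fB ^ 2 * (q3 fB fC)⁻¹ * q4 fB fC) (by decide +kernel)
    simpa only [gA, gB, gC, gD, q2, q3, q4, q5, ee, map_mul, map_inv, map_pow, map_one] using this
  r34 := by
    have := evG_eq (X := (ee fA fB fC fD)⁻¹ * q5 fA fC * ee fA fB fC fD) (Y := fC * (q3 fB fC)⁻¹ * fC * (q4 fB fC)⁻¹) (by decide +kernel)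
    simpa only [gA, gB, gC, gD, q2, q3, q4, q5, ee, map_mul, map_inv, map_pow, map_one] using this
  r35 := by
    have := evG_eq (X := ee fA fB fC fD * fA ^ 2 * ee fA fB fC fD) (Y := fA * fB ^ 2 * fA * fB⁻¹ * fA * fC * q5 fA fC * (q4 fB fC)⁻¹) (by decide +kernel)
    simpa only [gA, gB, gC, gD, q2, q3, q4, q5, ee, map_mul, map_inv, map_pow, map_one] using this
  r36 := by
    have := evG_eq (X := (ee fA fB fC fD)⁻¹ * fB * ee fA fB fC fD) (Y := fC * (q3 fB fC)⁻¹ * (q4 fB fC ^ 2)⁻¹) (by decide +kernel)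
    simpa only [gA, gB, gC, gD, q2, q3, q4, q5, ee, map_mul, map_inv, map_pow, map_one] using this
  r38 := by
    have := evG_eq (X := ee fA fB fC fD * q2 fA fC * ee fA fB fC fD * (q2 fA fC)⁻¹ * ee fA fB fC fD * q2 fA fC * (q4 fB fC)⁻¹ * fA * q3 fB fC * fA ^ 3) (Y := 1) (by decide +kernel)
    simpa only [gA, gB, gC, gD, q2, q3, q4, q5, ee, map_mul, map_inv, map_pow, map_one] using this
  r39 := by
    have := evG_eq (X := fD) (Y := fA * fB ^ 2 * fA⁻¹ * fB⁻¹ * fC⁻¹ * (q4 fB fC)⁻¹ * (q5 fA fC)⁻¹ * fA * ee fA fB fC fD * fA * ee fA fB fC fD * fA * (q2 fA fC)⁻¹ * fB * ee fA fB fC fD) (by decide +kernel)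
    simpa only [gA, gB, gC, gD, q2, q3, q4, q5, ee, map_mul, map_inv, map_pow, map_one] using this
  r41 := by
    have := evG_eq (X := fB⁻¹ * fD⁻¹ * fB * fD) (Y := 1) (by decide +kernel)
    simpa only [gA, gB, gC, gD, q2, q3, q4, q5, ee, map_mul, map_inv, map_pow, map_one] using this
  r42 := by
    have := evG_eq (X := fD⁻¹ * fA * fD) (Y := fA ^ 3) (by decide +kernel)
    simpa only [gA, gB, gC, gD, q2, q3, q4, q5, ee, map_mul, map_inv, map_pow, map_one] using this

end H68.Ly.G14
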