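import Mathlib
import Cfsg.Agent.H60.PackMat

/-!
Products of 111 × 111 matrices modulo five, rows packed in fields of 32 bits.
-/

set_option autoImplicit false

namespace H68.Ly

open H60.PackMat (pk)

abbrev Mat : Type := Matrix (Fin 111) (Fin 111) (ZMod 5)

/-- evaluate `k` at the value of `x` -/
noncomputable def fz {α : Type} (x : ℕ) (k : ℕ → α) : α :=
  Nat.rec (motive := fun _ => α) (k 0) (fun m _ => k (m + 1)) x

theorem fz_eq {α : Type} (x : ℕ) (k : ℕ → α) : fz x k = k x := by cases x <;> rfl

/-- `∑ rᵢ Yᵢ` -/
noncomputable def dot (r : List ℕ) : List ℕ → ℕ :=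
  List.rec (motive := fun _ => List ℕ → ℕ) (fun _ => 0)
    (fun v _ ih Y => List.rec (motive := fun _ => ℕ) 0
      (fun y t _ => Nat.add (Nat.mul v y) (ih t)) Y) r

def mask : ℕ := H60.PackMat.rep 111 65535

/-- every field modulo five -/
noncomputable def redWith (m x : ℕ) : ℕ :=
  Nat.sub x (Nat.mul 5 (Nat.land (Nat.shiftRight (Nat.mul 13108 x) 16) m))

/-- the product of a matrix with packed rows, evaluated row by row -/
noncomputable def stepK (m : ℕ) (S : List (List ℕ)) (Y : List ℕ) (k : List ℕ → Bool) : Bool :=
  List.rec (motive := fun _ => (List ℕ → Bool) → Bool) (fun k => k [])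
    (fun r _ ih k => fz (dot r Y) fun x => fz (redWith m x) fun z => ih fun l => k (z :: l)) S k

/-- run a word given as matrices, the last letter acting first -/
noncomputable def runK (m : ℕ) (w : List (List (List ℕ))) (Y : List ℕ) (k : List ℕ → Bool) : Bool :=
  List.rec (motive := fun _ => (List ℕ → Bool) → Bool) (fun k => k Y)
    (fun S _ ih k => ih fun Y' => stepK m S Y' k) w k

noncomputable def eqList (l : List ℕ) : List ℕ → Bool :=
  List.rec (motive := fun _ => List ℕ → Bool)
    (fun l' => List.rec (motive := fun _ => Bool) true (fun _ _ _ => false) l')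
    (fun a _ ih l' => List.rec (motive := fun _ => Bool) false (fun b t _ => Nat.beq a b && ih t) l') l

/-- rows of the identity -/
def idRows : List ℕ := (List.range 111).map fun i => 2 ^ (32 * i)

/-- the word is the identity -/
noncomputable def isOne (w : List (List (List ℕ))) : Bool :=
  fz mask fun m => runK m w idRows fun Y => eqList Y idRows

end H68.Ly
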