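import Cfsg.Agent.H68.Ly.Packed

/-!
Correctness of the packed products.
-/

set_option autoImplicit false

namespace H68.Ly

open H60.PackMat (pk pk_lt pk_add pk_mul pk_zero pk_congr pk_inj pk_shift_and pk_sub rep_eq)

/-- table in range -/
def tabOK (S : List (List ℕ)) : Bool :=
  S.length == 111 && S.all fun r => r.length == 111 && r.all fun e => decide (e < 5)

/-- the matrix of a table -/
def toM (S : List (List ℕ)) : Mat := Matrix.of fun i j => (((S.getD i.val []).getD j.val 0 : ℕ) : ZMod 5)

def entry (M : Mat) (i j : ℕ) : ℕ :=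
  if h : i < 111 ∧ j < 111 then (M ⟨i, h.1⟩ ⟨j, h.2⟩).val else 0

theorem entry_lt (M : Mat) (i j : ℕ) : entry M i j < 5 := by
  unfold entry; split
  · exact ZMod.val_lt _
  · norm_num

theorem entry_fin (M : Mat) (i j : Fin 111) : entry M i.val j.val = (M i j).val := by
  rw [entry, dif_pos ⟨i.2, j.2⟩]

theorem entry_of (M : Mat) {i j : ℕ} (h1 : i < 111) (h2 : j < 111) :
    entry M i j = (M ⟨i, h1⟩ ⟨j, h2⟩).val := dif_pos ⟨h1, h2⟩

/-- packed rows of a matrix -/
def rowsOf (M : Mat) : List ℕ := (List.range 111).map fun i => pk 111 (entry M i)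

theorem dot_cons (v : ℕ) (r : List ℕ) (y : ℕ) (t : List ℕ) :
    dot (v :: r) (y :: t) = v * y + dot r t := rfl

theorem dot_eq (n : ℕ) : ∀ (r : List ℕ) (f : ℕ → ℕ → ℕ),
    dot r ((List.range r.length).map fun i => pk n (f i)) =
      pk n fun k => ∑ i ∈ Finset.range r.length, r.getD i 0 * f i k := by
  intro r
  induction r with
  | nil => intro f; simp [dot, pk_zero]
  | cons v r ih =>
    intro f
    rw [List.length_cons, List.range_succ_eq_map, List.map_cons, List.map_map, dot_cons]
    rw [show ((fun i => pk n (f i)) ∘ Nat.succ) = fun i => pk n (f (i + 1)) from rfl, ih fun i => f (i + 1),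
      ← pk_mul, ← pk_add]
    refine pk_congr _ fun k _ => ?_
    rw [Finset.sum_range_succ']
    simp [add_comm]

theorem red_pk {g : ℕ → ℕ} (hg : ∀ k < 111, g k ≤ 1776) :
    redWith mask (pk 111 g) = pk 111 fun k => g k % 5 := by
  have h5 : ∀ k < 111, (13108 * g k / 2 ^ 16) &&& 65535 = g k / 5 := fun k hk => by
    have := hg k hk
    rw [show (65535 : ℕ) = 2 ^ 16 - 1 from rfl, Nat.and_two_pow_sub_one_eq_mod,
      show (2 : ℕ) ^ 16 = 65536 from rfl]
    have hdiv : 13108 * g k / 65536 = g k / 5 := Nat.div_eq_of_lt_le (by omega) (by omega)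
    rw [hdiv]
    exact Nat.mod_eq_of_lt (by omega)
  show pk 111 g - 5 * (((13108 * pk 111 g) >>> 16) &&& mask) = _
  rw [mask, rep_eq, ← pk_mul 111 13108,
    pk_shift_and (by norm_num) (by norm_num) _ fun k hk => by have := hg k hk; omega, ← pk_mul,
    pk_sub _ fun k hk => by rw [h5 k hk]; omega]
  exact pk_congr _ fun k hk => by rw [h5 k hk]; omega

theorem stepK_eq (m : ℕ) (Y : List ℕ) : ∀ (S : List (List ℕ)) (k : List ℕ → Bool),
    stepK m S Y k = k (S.map fun r => redWith m (dot r Y)) := by
  intro S
  induction S with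
  | nil => intro k; rfl
  | cons r S ih =>
    intro k
    show fz (dot r Y) (fun x => fz (redWith m x) fun z => stepK m S Y fun l => k (z :: l)) = _
    rw [fz_eq, fz_eq, ih]; rfl

theorem step_rows {S : List (List ℕ)} (hS : tabOK S = true) (M : Mat) :
    (S.map fun r => redWith mask (dot r (rowsOf M))) = rowsOf (toM S * M) := by
  simp only [tabOK, Bool.and_eq_true, beq_iff_eq, List.all_eq_true, decide_eq_true_eq] at hS
  obtain ⟨hlen, hrow⟩ := hS
  refine List.ext_getElem (by simp [rowsOf, hlen]) fun i hi hi' => ?_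
  have hi2 : i < S.length := by simpa using hi
  have hi3 : i < 111 := by omega
  obtain ⟨hrl, hre⟩ := hrow _ (List.getElem_mem hi2)
  simp only [List.getElem_map, rowsOf, List.getElem_range]
  have hd := dot_eq 111 S[i] (entry M)
  rw [hrl] at hd
  rw [hd]
  have hb : ∀ l, S[i].getD l 0 < 5 := by
    intro l
    by_cases hl : l < S[i].length
    · rw [List.getD_eq_getElem _ _ hl]; exact hre _ (List.getElem_mem hl)
    · rw [List.getD_eq_default _ _ (Nat.le_of_not_lt hl)]; norm_num
  rw [red_pk]
  · refine pk_congr _ fun k hk => ?_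
    rw [entry_of (toM S * M) hi3 hk, ← ZMod.val_natCast]
    refine congrArg ZMod.val ?_
    rw [Nat.cast_sum, Matrix.mul_apply, Finset.sum_range]
    refine Finset.sum_congr rfl fun l _ => ?_
    rw [entry_of M l.2 hk, Nat.cast_mul, ZMod.natCast_zmod_val, toM, Matrix.of_apply,
      List.getD_eq_getElem S [] hi2]
  · intro k _
    calc ∑ l ∈ Finset.range 111, S[i].getD l 0 * entry M l k
        ≤ ∑ _l ∈ Finset.range 111, 4 * 4 := Finset.sum_le_sum fun l _ =>
          Nat.mul_le_mul (by have := hb l; omega) (by have := entry_lt M l k; omega)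
      _ = 1776 := by simp

theorem runK_eq : ∀ (w : List (List (List ℕ))), (∀ S ∈ w, tabOK S = true) → ∀ (M : Mat)
    (k : List ℕ → Bool), runK mask w (rowsOf M) k = k (rowsOf ((w.map toM).prod * M)) := by
  intro w
  induction w with
  | nil => intro _ M k; simp [runK]
  | cons S w ih =>
    intro h M k
    show runK mask w (rowsOf M) (fun Y => stepK mask S Y k) = _
    rw [ih (fun x hx => h x (List.mem_cons_of_mem _ hx)), stepK_eq,
      step_rows (h S List.mem_cons_self), List.map_cons, List.prod_cons, mul_assoc]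

theorem eqList_eq : ∀ {l l' : List ℕ}, eqList l l' = true → l = l' := by
  intro l
  induction l with
  | nil =>
    intro l' h
    cases l' with
    | nil => rfl
    | cons b t => exact absurd h (by simp [eqList])
  | cons a l ih =>
    intro l' h
    cases l' with
    | nil => exact absurd h (by simp [eqList])
    | cons b t =>
      have h' : (Nat.beq a b && eqList l t) = true := h
      simp only [Bool.and_eq_true, Nat.beq_eq] at h'
      rw [h'.1, ih h'.2]

theorem pk_delta : ∀ (n i : ℕ), i < n → pk n (fun k => if k = i then 1 else 0) = 2 ^ (32 * i)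
  | 0, i, hi => absurd hi (Nat.not_lt_zero i)
  | n + 1, 0, _ => by
    rw [pk, pk_congr n (g := fun _ => 0) fun k _ => if_neg (Nat.succ_ne_zero k), pk_zero]
    simp
  | n + 1, i + 1, hi => by
    rw [pk, if_neg (Nat.succ_ne_zero i).symm,
      pk_congr n (g := fun k => if k = i then 1 else 0) fun k _ => by simp [Nat.add_right_cancel_iff],
      pk_delta n i (Nat.lt_of_succ_lt_succ hi), zero_add, Nat.mul_add, pow_add, mul_comm, mul_one]

theorem idRows_eq : idRows = rowsOf 1 := by
  refine List.map_congr_left fun i hi => ?_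
  have hi' : i < 111 := List.mem_range.1 hi
  rw [← pk_delta 111 i hi']
  refine pk_congr _ fun k hk => ?_
  rw [entry_of 1 hi' hk, Matrix.one_apply]
  by_cases h : k = i
  · subst h; rw [if_pos rfl, if_pos rfl]; rfl
  · rw [if_neg h, if_neg fun e => h (congrArg Fin.val e).symm]; rfl

theorem rowsOf_inj {M N : Mat} (h : rowsOf M = rowsOf N) : M = N := by
  funext i j
  have h1 := List.map_inj_left.1 h i.val (List.mem_range.2 i.2)
  have h2 := pk_inj 111 (fun k _ => (entry_lt M _ k).trans (by norm_num))
    (fun k _ => (entry_lt N _ k).trans (by norm_num)) h1 j.val j.2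
  rw [entry_fin, entry_fin] at h2
  exact ZMod.val_injective 5 h2

theorem isOne_spec {w : List (List (List ℕ))} (hw : ∀ S ∈ w, tabOK S = true) (h : isOne w = true) :
    (w.map toM).prod = 1 := by
  have h' : runK mask w idRows (fun Y => eqList Y idRows) = true := by
    simpa [isOne, fz_eq] using h
  rw [idRows_eq, runK_eq w hw] at h'
  have := rowsOf_inj (eqList_eq h')
  rwa [mul_one] at this

end H68.Ly
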