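import Cfsg.Agent.H68.Ly.QTorus

/-!
A group generated by elements with the 44 relations has order at most 5859000000, the number of
cells of the rank-two double coset decomposition times the bound for the subgroup B.
-/

set_option autoImplicit false
set_option maxRecDepth 100000

namespace H68.Ly

open Pointwise

variable {G : Type*} [Group G] {a b c d : G}

/-- all values of words in given letters -/
def spanW (a b c : G) (p : ℕ → Bool) : Subgroup G :=
  Subgroup.closure {x | ∃ i, i < 6 ∧ p i = true ∧ gen a b c i = x}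

def uB (a b c : G) : Subgroup G := spanW a b c fun _ => true
def nB (a b c : G) : Subgroup G := spanW a b c fun i => i != 0
def qB (a b c : G) : Subgroup G := spanW a b c fun i => i != 2
def tor (a b : G) : Subgroup G := Subgroup.closure {a ^ 2, gg a b}
def bor (a b c : G) : Subgroup G := uB a b c ⊔ tor a b

theorem ev_mem_span {p : ℕ → Bool} {w : List ℕ} (hw : w.all (fun i => decide (i < 6) && p i) = true) :
    ev a b c w ∈ spanW a b c p := by
  induction w with
  | nil => exact one_mem _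
  | cons i w ih =>
    simp only [List.all_cons, Bool.and_eq_true, decide_eq_true_eq] at hw
    rw [ev_cons]
    exact mul_mem (Subgroup.subset_closure ⟨i, hw.1.1, hw.1.2, rfl⟩) (ih (by simpa using hw.2))

theorem exists_word {p : ℕ → Bool} (h : Rels a b c d) {x : G} (hx : x ∈ spanW a b c p) :
    ∃ w : List ℕ, w.all (fun i => decide (i < 6) && p i) = true ∧ ev a b c w = x := by
  induction hx using Subgroup.closure_induction with
  | mem x hx =>
    obtain ⟨i, hi, hp, rfl⟩ := hx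
    exact ⟨[i], by simp [hi, hp], by simp [ev]⟩
  | one => exact ⟨[], rfl, rfl⟩
  | mul x y _ _ hx hy =>
    obtain ⟨v, hv, rfl⟩ := hx
    obtain ⟨w, hw, rfl⟩ := hy
    exact ⟨v ++ w, by rw [List.all_append, hv, hw]; rfl, ev_append a b c v w⟩
  | inv x _ hx =>
    obtain ⟨v, hv, rfl⟩ := hx
    refine ⟨winv v, ?_, h.ev_winv v⟩
    simp only [List.all_eq_true, winv, List.mem_flatMap, List.mem_reverse] at hv ⊢
    rintro j ⟨i, hi, hj⟩
    simp only [List.mem_cons, List.not_mem_nil, or_false, or_self] at hj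
    subst hj
    exact hv j hi

namespace Rels

variable (h : Rels a b c d)
include h

theorem z_comm_b : Commute (a ^ 2) b := by
  have e : a ^ 2 * b * ((b⁻¹ * (a ^ 2)⁻¹) * b * a ^ 2) = b * a ^ 2 := by group
  have e' : b⁻¹ * a ^ 2 * b = a ^ 2 := by
    have := h.r4
    calc b⁻¹ * a ^ 2 * b = a ^ 2 * ((a ^ 2)⁻¹ * b⁻¹ * a ^ 2 * b) := by group
      _ = a ^ 2 := by rw [this, mul_one]
  calc a ^ 2 * b = b * (b⁻¹ * a ^ 2 * b) := by group
    _ = b * a ^ 2 := by rw [e']

theorem z_comm_g : Commute (a ^ 2) (gg a b) := by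
  have ha : Commute (a ^ 2) a := (Commute.refl a).pow_left 2
  have hb := h.z_comm_b
  exact ((((ha.mul_right (hb.pow_right 2)).mul_right ha).mul_right hb.inv_right).mul_right ha)

theorem z_comm_s : Commute (a ^ 2) (ss a b) :=
  (h.z_comm_b.inv_right.mul_right ((Commute.refl a).pow_left 2)).mul_right h.z_comm_b

theorem ss_sq : ss a b * ss a b = a ^ 2 := by
  calc ss a b * ss a b = b⁻¹ * (a ^ 2 * b) := by rw [ss, pow_two]; group
    _ = a ^ 2 := by rw [h.z_comm_b.eq]; group

theorem ev_eq (v w : List ℕ)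
    (hvw : (okWord v && okWord w && norm 4000 v == norm 4000 w) = true) :
    ev a b c v = ev a b c w := h.ev_eq_of_norm hvw

theorem a_conj_N : ∀ w, okN w = true → a⁻¹ * ev a b c w * a ∈ nB a b c ∧
    a * ev a b c w * a⁻¹ ∈ nB a b c ∧ b⁻¹ * ev a b c w * b ∈ nB a b c ∧
    b * ev a b c w * b⁻¹ ∈ nB a b c := by
  intro w hw
  have hm : ∀ (T : ℕ → List ℕ), (∀ i, i = 1 ∨ i = 2 ∨ i = 3 ∨ i = 4 ∨ i = 5 → okN (T i) = true) →
      ev a b c (sub T w) ∈ nB a b c := by
    intro T hT
    have h1 := h.okN_sub hT hw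
    refine ev_mem_span ?_
    simp only [okN, List.all_eq_true, decide_eq_true_eq] at h1
    simp only [List.all_eq_true, Bool.and_eq_true, decide_eq_true_eq, bne_iff_ne]
    exact fun i hi => ⟨(h1 i hi).2, by have := (h1 i hi).1; omega⟩
  refine ⟨?_, ?_, ?_, ?_⟩
  · have := hm tA (by rintro i (rfl | rfl | rfl | rfl | rfl) <;> decide)
    rwa [h.ev_map h.A_gen hw, inv_inv] at this
  · have := hm tAI (by rintro i (rfl | rfl | rfl | rfl | rfl) <;> decide)
    rwa [h.ev_map h.AI_gen hw] at this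
  · have := hm tBD (by rintro i (rfl | rfl | rfl | rfl | rfl) <;> decide)
    rwa [h.ev_map h.BD_gen hw, inv_inv] at this
  · have := hm tBI (by rintro i (rfl | rfl | rfl | rfl | rfl) <;> decide)
    rwa [h.ev_map h.BI_gen hw] at this

theorem okN_of_all {w : List ℕ} (hw : w.all (fun i => decide (i < 6) && (i != 0)) = true) :
    okN w = true := by
  simp only [List.all_eq_true, Bool.and_eq_true, decide_eq_true_eq, bne_iff_ne] at hw
  simp only [okN, List.all_eq_true, decide_eq_true_eq]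
  exact fun i hi => ⟨Nat.one_le_iff_ne_zero.2 (hw i hi).2, (hw i hi).1⟩

theorem okQ_of_all {w : List ℕ} (hw : w.all (fun i => decide (i < 6) && (i != 2)) = true) :
    okQ w = true := by
  simp only [List.all_eq_true, Bool.and_eq_true, decide_eq_true_eq, bne_iff_ne] at hw
  simp only [okQ, List.all_eq_true, decide_eq_true_eq]
  exact hw

theorem a_norm_N : a ∈ Subgroup.normalizer (nB a b c : Set G) ∧
    b ∈ Subgroup.normalizer (nB a b c : Set G) := by
  constructor <;> rw [Subgroup.mem_normalizer_iff] <;> intro x <;> constructor <;> intro hx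
  · obtain ⟨w, hw, rfl⟩ := exists_word h hx
    exact (h.a_conj_N w (h.okN_of_all hw)).2.1
  · obtain ⟨w, hw, e⟩ := exists_word h hx
    have := (h.a_conj_N w (h.okN_of_all hw)).1
    rw [e, show a⁻¹ * (a * x * a⁻¹) * a = x by group] at this
    exact this
  · obtain ⟨w, hw, rfl⟩ := exists_word h hx
    exact (h.a_conj_N w (h.okN_of_all hw)).2.2.2
  · obtain ⟨w, hw, e⟩ := exists_word h hx
    have := (h.a_conj_N w (h.okN_of_all hw)).2.2.1
    rw [e, show b⁻¹ * (b * x * b⁻¹) * b = x by group] at this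
    exact this

end Rels

theorem mem_uB_gen (a b c : G) {i : ℕ} (hi : i < 6) : gen a b c i ∈ uB a b c :=
  Subgroup.subset_closure ⟨i, hi, rfl, rfl⟩

theorem uB_le_bor : uB a b c ≤ bor a b c := le_sup_left
theorem tor_le_bor : tor a b ≤ bor a b c := le_sup_right
theorem nB_le_uB : nB a b c ≤ uB a b c :=
  Subgroup.closure_mono fun _ ⟨i, hi, _, e⟩ => ⟨i, hi, rfl, e⟩
theorem qB_le_uB : qB a b c ≤ uB a b c :=
  Subgroup.closure_mono fun _ ⟨i, hi, _, e⟩ => ⟨i, hi, rfl, e⟩


theorem le_normalizer_closure {S : Set G} {x : G}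
    (h1 : ∀ s ∈ S, x * s * x⁻¹ ∈ Subgroup.closure S) (h2 : ∀ s ∈ S, x⁻¹ * s * x ∈ Subgroup.closure S) :
    x ∈ Subgroup.normalizer (Subgroup.closure S : Set G) := by
  have key : ∀ y : G, (∀ s ∈ S, y * s * y⁻¹ ∈ Subgroup.closure S) →
      ∀ g ∈ Subgroup.closure S, y * g * y⁻¹ ∈ Subgroup.closure S := by
    intro y hy g hg
    have : g ∈ (Subgroup.closure S).comap (MulAut.conj y).toMonoidHom :=
      (Subgroup.closure_le _).2 (fun s hs => hy s hs) hg
    exact this
  rw [Subgroup.mem_normalizer_iff]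
  intro g
  refine ⟨key x h1 g, fun hg => ?_⟩
  have := key x⁻¹ (by simpa using h2) _ hg
  rwa [show x⁻¹ * (x * g * x⁻¹) * x⁻¹⁻¹ = g by group] at this

namespace Rels

variable (h : Rels a b c d)
include h

theorem b_pow_mem (k : ℕ) : b ^ k ∈ uB a b c := pow_mem (mem_uB_gen a b c (i := 0) (by norm_num)) k

theorem g_inv : (gg a b)⁻¹ = gg a b ^ 3 :=
  inv_eq_of_mul_eq_one_left (by rw [← pow_succ]; exact h.g4)

theorem g_norm_U : gg a b ∈ Subgroup.normalizer (uB a b c : Set G) := by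
  have hn : gg a b ∈ Subgroup.normalizer (nB a b c : Set G) := by
    obtain ⟨ha, hb⟩ := h.a_norm_N
    exact mul_mem (mul_mem (mul_mem (mul_mem ha (pow_mem hb 2)) ha) (inv_mem hb)) ha
  have h1 : ∀ x ∈ uB a b c, (gg a b)⁻¹ * x * gg a b ∈ uB a b c := by
    intro x hx
    have : x ∈ (uB a b c).comap (MulAut.conj (gg a b)⁻¹).toMonoidHom := by
      refine (Subgroup.closure_le _).2 ?_ hx
      rintro s ⟨i, hi, -, rfl⟩
      show (gg a b)⁻¹ * gen a b c i * (gg a b)⁻¹⁻¹ ∈ uB a b c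
      rw [inv_inv]
      rcases Nat.eq_zero_or_pos i with rfl | hp
      · show (gg a b)⁻¹ * b * gg a b ∈ uB a b c
        rw [h.g_conj]; exact h.b_pow_mem 3
      · refine nB_le_uB ?_
        have hm : gen a b c i ∈ nB a b c :=
          Subgroup.subset_closure ⟨i, hi, by simp; omega, rfl⟩
        have := (Subgroup.mem_normalizer_iff.1 (inv_mem hn) (gen a b c i)).1 hm
        simpa using this
    simpa using this
  have h3 : ∀ x ∈ uB a b c, gg a b * x * (gg a b)⁻¹ ∈ uB a b c := by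
    intro x hx
    have := h1 _ (h1 _ (h1 _ hx))
    have e : gg a b * x * (gg a b)⁻¹ = (gg a b)⁻¹ * ((gg a b)⁻¹ * ((gg a b)⁻¹ * x * gg a b) * gg a b) * gg a b := by
      have h4 : gg a b * gg a b * gg a b = (gg a b)⁻¹ := by
        rw [h.g_inv]; simp [pow_succ, mul_assoc]
      calc gg a b * x * (gg a b)⁻¹ = (gg a b)⁻¹⁻¹ * x * (gg a b)⁻¹ := by rw [inv_inv]
        _ = (gg a b * gg a b * gg a b)⁻¹ * x * (gg a b * gg a b * gg a b) := by rw [h4]
        _ = _ := by group
    rwa [e]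
  rw [Subgroup.mem_normalizer_iff]
  exact fun x => ⟨h3 x, fun hx => by simpa [mul_assoc] using h1 _ hx⟩

theorem z_norm_U : a ^ 2 ∈ Subgroup.normalizer (uB a b c : Set G) := by
  obtain ⟨ha, -⟩ := h.a_norm_N
  have hn : a ^ 2 ∈ Subgroup.normalizer (nB a b c : Set G) := pow_mem ha 2
  have key : ∀ y : G, y ∈ Subgroup.normalizer (nB a b c : Set G) → Commute y b →
      ∀ s ∈ {x | ∃ i, i < 6 ∧ (true = true) ∧ gen a b c i = x}, y * s * y⁻¹ ∈ uB a b c := by
    rintro y hy hyb s ⟨i, hi, -, rfl⟩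
    rcases Nat.eq_zero_or_pos i with rfl | hp
    · show y * b * y⁻¹ ∈ uB a b c
      rw [hyb.eq, mul_inv_cancel_right]; exact mem_uB_gen a b c (i := 0) hi
    · exact nB_le_uB ((Subgroup.mem_normalizer_iff.1 hy _).1
        (Subgroup.subset_closure ⟨i, hi, by simp; omega, rfl⟩))
  refine le_normalizer_closure (fun s hs => key _ hn h.z_comm_b s hs) fun s hs => ?_
  have := key _ (inv_mem hn) h.z_comm_b.inv_left s hs
  rwa [inv_inv] at this

theorem tor_norm_U : tor a b ≤ Subgroup.normalizer (uB a b c : Set G) := by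
  refine (Subgroup.closure_le _).2 ?_
  rintro x (rfl | rfl)
  exacts [h.z_norm_U, h.g_norm_U]

theorem bor_split {x : G} (hx : x ∈ bor a b c) : ∃ u ∈ uB a b c, ∃ t ∈ tor a b, x = u * t := by
  have e : ((bor a b c : Subgroup G) : Set G) = (uB a b c : Set G) * (tor a b : Set G) :=
    Subgroup.coe_mul_of_right_le_normalizer_left _ _ h.tor_norm_U
  rw [← SetLike.mem_coe, e] at hx
  obtain ⟨u, hu, t, ht, rfl⟩ := hx
  exact ⟨u, hu, t, ht, rfl⟩

/-! #### the element s -/

theorem s_norm_N : ss a b ∈ Subgroup.normalizer (nB a b c : Set G) := by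
  obtain ⟨ha, hb⟩ := h.a_norm_N
  exact mul_mem (mul_mem (inv_mem hb) ha) hb

theorem s_g_conj : ss a b * gg a b * (ss a b)⁻¹ ∈ tor a b ∧ (ss a b)⁻¹ * gg a b * ss a b ∈ tor a b := by
  have hz : a ^ 2 ∈ tor a b := Subgroup.subset_closure (Or.inl rfl)
  have hg : gg a b ∈ tor a b := Subgroup.subset_closure (Or.inr rfl)
  have h1 : ss a b * gg a b * (ss a b)⁻¹ ∈ tor a b := by
    rw [h.s_g]; exact mul_mem hz (pow_mem hg 3)
  refine ⟨h1, ?_⟩
  have e : (ss a b)⁻¹ = (a ^ 2)⁻¹ * ss a b := by rw [← h.ss_sq]; group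
  have e' : ss a b = (ss a b)⁻¹ * a ^ 2 := by rw [← h.ss_sq]; group
  have e2 : (ss a b)⁻¹ * gg a b * ss a b =
      (a ^ 2)⁻¹ * (ss a b * gg a b * (ss a b)⁻¹) * a ^ 2 := by
    calc (ss a b)⁻¹ * gg a b * ss a b = (a ^ 2)⁻¹ * ss a b * gg a b * ((ss a b)⁻¹ * a ^ 2) := by
          rw [← e, ← e']
      _ = _ := by group
  rw [e2]
  exact mul_mem (mul_mem (inv_mem hz) h1) hz

theorem s_conj_tor {t : G} (ht : t ∈ tor a b) : (ss a b)⁻¹ * t * ss a b ∈ tor a b := by
  have : t ∈ (tor a b).comap (MulAut.conj (ss a b)⁻¹).toMonoidHom := by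
    refine (Subgroup.closure_le _).2 ?_ ht
    rintro x (rfl | rfl)
    · show (ss a b)⁻¹ * a ^ 2 * (ss a b)⁻¹⁻¹ ∈ tor a b
      rw [inv_inv, mul_assoc, h.z_comm_s.eq, inv_mul_cancel_left]
      exact Subgroup.subset_closure (Or.inl rfl)
    · show (ss a b)⁻¹ * gg a b * (ss a b)⁻¹⁻¹ ∈ tor a b
      rw [inv_inv]; exact h.s_g_conj.2
  simpa using this

theorem u_split_b {u : G} (hu : u ∈ uB a b c) : ∃ k < 5, ∃ n ∈ nB a b c, u = b ^ k * n := by
  have hb : Subgroup.zpowers b ≤ Subgroup.normalizer (nB a b c : Set G) :=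
    Subgroup.zpowers_le.2 h.a_norm_N.2
  have e : ((Subgroup.zpowers b ⊔ nB a b c : Subgroup G) : Set G) =
      (Subgroup.zpowers b : Set G) * (nB a b c : Set G) :=
    Subgroup.coe_mul_of_left_le_normalizer_right _ _ hb
  have hle : uB a b c ≤ Subgroup.zpowers b ⊔ nB a b c := by
    refine (Subgroup.closure_le _).2 ?_
    rintro x ⟨i, hi, -, rfl⟩
    rcases Nat.eq_zero_or_pos i with rfl | hp
    · exact Subgroup.mem_sup_left (Subgroup.mem_zpowers b)
    · exact Subgroup.mem_sup_right (Subgroup.subset_closure ⟨i, hi, by simp; omega, rfl⟩)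
  have hu' := hle hu
  rw [← SetLike.mem_coe, e] at hu'
  obtain ⟨y, hy, n, hn, rfl⟩ := hu'
  have hfin : IsOfFinOrder b := isOfFinOrder_iff_pow_eq_one.2 ⟨5, by norm_num, h.r2⟩
  obtain ⟨k, rfl⟩ := Submonoid.mem_powers_iff _ _ |>.1 (hfin.mem_powers_iff_mem_zpowers.2 hy)
  refine ⟨k % 5, Nat.mod_lt _ (by norm_num), n, hn, ?_⟩
  conv_lhs => rw [← Nat.mod_add_div k 5, pow_add, pow_mul, h.r2, one_pow, mul_one]

/-! #### the element f -/

theorem f_sq : ff a b c d * ff a b c d = 1 := by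
  have e : ev a b c (mapF uWord) = ev a b c uWord * ev a b c (sub tE uWord) * (ev a b c uWord)⁻¹ := by
    rw [mapF, h.norm_eq _ _ (h.okWord_E (by decide)), ev_append, ev_append, h.ev_winv]
  have e2 : ev a b c (mapF uWord) = ev a b c (winv uWord) := h.ev_eq _ _ (by decide +kernel)
  rw [h.ev_winv] at e2
  have e3 : ev a b c (sub tE uWord) = ee a b c d * ev a b c uWord * (ee a b c d)⁻¹ :=
    ev_sub (ee a b c d) tE uWord fun i hi => h.E_gen i (h.mem_okQ (by decide) i hi)
  rw [e2, e3] at e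
  calc ff a b c d * ff a b c d
      = ev a b c uWord * (ee a b c d * ev a b c uWord * (ee a b c d)⁻¹) * (ev a b c uWord)⁻¹ *
          (ev a b c uWord * (ee a b c d * ee a b c d)) := by rw [ff]; group
    _ = 1 := by rw [← e, h.e_sq, mul_one, inv_mul_cancel]

theorem f_inv : (ff a b c d)⁻¹ = ff a b c d := inv_eq_of_mul_eq_one_right h.f_sq

theorem f_z : ff a b c d * a ^ 2 * (ff a b c d)⁻¹ = gg a b := by
  have e1 : ev a b c (mapG uWord ++ [1, 5, 4, 4, 4, 4] ++ winv uWord) = ev a b c [] :=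
    h.ev_eq _ _ (by decide +kernel)
  rw [ev_append, ev_append, h.ev_winv, h.ev_G (by decide), ev_nil] at e1
  have e2 : ev a b c [1, 5, 4, 4, 4, 4] = c * q5 a c * (q4 b c)⁻¹ := by
    rw [show (q4 b c)⁻¹ = q4 b c ^ 4 from h.gen_inv 4]
    simp [ev, gen, pow_succ, mul_assoc]
  calc ff a b c d * a ^ 2 * (ff a b c d)⁻¹
      = ev a b c uWord * (ee a b c d * a ^ 2 * (ee a b c d)⁻¹) * (ev a b c uWord)⁻¹ := by rw [ff]; group
    _ = gg a b * ((gg a b)⁻¹ * ev a b c uWord * gg a b * (c * q5 a c * (q4 b c)⁻¹) *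
          (ev a b c uWord)⁻¹) := by rw [h.e_inv, h.r35, gg]; group
    _ = gg a b := by rw [← e2, e1, mul_one]

theorem f_g : ff a b c d * gg a b * (ff a b c d)⁻¹ = a ^ 2 := by
  rw [h.f_inv, ← h.f_z, h.f_inv]
  calc ff a b c d * (ff a b c d * a ^ 2 * ff a b c d) * ff a b c d
      = (ff a b c d * ff a b c d) * a ^ 2 * (ff a b c d * ff a b c d) := by group
    _ = a ^ 2 := by rw [h.f_sq, one_mul, mul_one]

theorem f_conj_tor {t : G} (ht : t ∈ tor a b) : ff a b c d * t * ff a b c d ∈ tor a b := by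
  have : t ∈ (tor a b).comap (MulAut.conj (ff a b c d)).toMonoidHom := by
    refine (Subgroup.closure_le _).2 ?_ ht
    rintro x (rfl | rfl)
    · show ff a b c d * a ^ 2 * (ff a b c d)⁻¹ ∈ tor a b
      rw [h.f_z]; exact Subgroup.subset_closure (Or.inr rfl)
    · show ff a b c d * gg a b * (ff a b c d)⁻¹ ∈ tor a b
      rw [h.f_g]; exact Subgroup.subset_closure (Or.inl rfl)
  have : ff a b c d * t * (ff a b c d)⁻¹ ∈ tor a b := this
  rwa [h.f_inv] at this

theorem f_conj_Q {q : G} (hq : q ∈ qB a b c) : ff a b c d * q * ff a b c d ∈ uB a b c := by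
  obtain ⟨w, hw, rfl⟩ := exists_word h hq
  have hq' := h.okQ_of_all hw
  have e : ff a b c d * ev a b c w * ff a b c d = ff a b c d * ev a b c w * (ff a b c d)⁻¹ := by
    rw [h.f_inv]
  rw [e, ← h.ev_F hq', mapF, h.norm_eq _ _ (h.okWord_E hq')]
  refine ev_mem_span ?_
  have := h.okWord_E hq'
  simpa [okWord] using this

def yy (a b c : G) : G := ev a b c [2, 2, 3, 4, 4, 4]

theorem u_split_y {u : G} (hu : u ∈ uB a b c) : ∃ k < 5, ∃ q ∈ qB a b c, u = yy a b c ^ k * q := by
  have hy5 : yy a b c ^ 5 = 1 := by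
    have : ev a b c ([2, 2, 3, 4, 4, 4] ++ [2, 2, 3, 4, 4, 4] ++ [2, 2, 3, 4, 4, 4] ++ [2, 2, 3, 4, 4, 4] ++
        [2, 2, 3, 4, 4, 4]) = ev a b c [] := h.ev_eq _ _ (by decide +kernel)
    rw [ev_append, ev_append, ev_append, ev_append, ev_nil] at this
    rw [← this, yy]
    simp only [pow_succ, pow_zero, one_mul]
  have hyn : yy a b c ∈ Subgroup.normalizer (qB a b c : Set G) := by
    refine le_normalizer_closure ?_ ?_ <;> rintro s ⟨i, hi, hp, rfl⟩
    · have e : yy a b c * gen a b c i * (yy a b c)⁻¹ =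
          ev a b c (norm 4000 ([2, 2, 3, 4, 4, 4] ++ [i] ++ winv [2, 2, 3, 4, 4, 4])) := by
        rw [h.norm_eq _ _ (by interval_cases i <;> decide), ev_append, ev_append, h.ev_winv, yy]
        simp [ev]
      rw [e]
      refine ev_mem_span ?_
      interval_cases i <;> first | (exact absurd hp (by decide)) | decide +kernel
    · have e : (yy a b c)⁻¹ * gen a b c i * yy a b c =
          ev a b c (norm 4000 (winv [2, 2, 3, 4, 4, 4] ++ [i] ++ [2, 2, 3, 4, 4, 4])) := by
        rw [h.norm_eq _ _ (by interval_cases i <;> decide), ev_append, ev_append, h.ev_winv, yy]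
        simp [ev]
      rw [e]
      refine ev_mem_span ?_
      interval_cases i <;> first | (exact absurd hp (by decide)) | decide +kernel
  have e : ((Subgroup.zpowers (yy a b c) ⊔ qB a b c : Subgroup G) : Set G) =
      (Subgroup.zpowers (yy a b c) : Set G) * (qB a b c : Set G) :=
    Subgroup.coe_mul_of_left_le_normalizer_right _ _ (Subgroup.zpowers_le.2 hyn)
  have hle : uB a b c ≤ Subgroup.zpowers (yy a b c) ⊔ qB a b c := by
    refine (Subgroup.closure_le _).2 ?_
    rintro x ⟨i, hi, -, rfl⟩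
    by_cases h2 : i = 2
    · subst h2
      have e3 : q2 a c = yy a b c ^ 3 *
          ev a b c (norm 4000 (winv ([2, 2, 3, 4, 4, 4] ++ [2, 2, 3, 4, 4, 4] ++ [2, 2, 3, 4, 4, 4]) ++ [2])) := by
        rw [h.norm_eq _ _ (by decide), ev_append, h.ev_winv, ev_append, ev_append, yy]
        simp [ev, gen, pow_succ, mul_assoc]
      show q2 a c ∈ _
      rw [e3]
      exact Subgroup.mul_mem _ (Subgroup.mem_sup_left (pow_mem (Subgroup.mem_zpowers _) 3))
        (Subgroup.mem_sup_right (ev_mem_span (by decide +kernel)))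
    · exact Subgroup.mem_sup_right (Subgroup.subset_closure ⟨i, hi, by simpa using h2, rfl⟩)
  have hu' := hle hu
  rw [← SetLike.mem_coe, e] at hu'
  obtain ⟨y, hy, n, hn, rfl⟩ := hu'
  have hfin : IsOfFinOrder (yy a b c) := isOfFinOrder_iff_pow_eq_one.2 ⟨5, by norm_num, hy5⟩
  obtain ⟨k, rfl⟩ := Submonoid.mem_powers_iff _ _ |>.1 (hfin.mem_powers_iff_mem_zpowers.2 hy)
  refine ⟨k % 5, Nat.mod_lt _ (by norm_num), n, hn, ?_⟩
  conv_lhs => rw [← Nat.mod_add_div k 5, pow_add, pow_mul, hy5, one_pow, mul_one]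

end Rels

end H68.Ly
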