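import Cfsg.Agent.H68.Ly.QBorel

/-!
The double cosets of B in the group generated by s and f over B: products of cells, the rank one
statements and the coincidence of the two longest cells.
-/

set_option autoImplicit false
set_option maxRecDepth 100000

namespace H68.Ly

variable {G : Type*} [Group G] {a b c d : G}

/-- `false` is s, `true` is f -/
def lv (a b c d : G) : Bool → G
  | false => ss a b
  | true => ff a b c d

def wv (a b c d : G) (w : List Bool) : G := (w.map (lv a b c d)).prod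

/-- the double coset of a word -/
def cell (a b c d : G) (w : List Bool) : Set G :=
  {x | ∃ β ∈ bor a b c, ∃ β' ∈ bor a b c, x = β * wv a b c d w * β'}

/-- the root element of a letter -/
def xr (a b c : G) : Bool → G
  | false => b
  | true => Rels.yy a b c

/-- the word carries the root element into B -/
def Pos (a b c d : G) (w : List Bool) (p : Bool) : Prop :=
  wv a b c d w * xr a b c p * (wv a b c d w)⁻¹ ∈ bor a b c

theorem wv_snoc (w : List Bool) (p : Bool) : wv a b c d (w ++ [p]) = wv a b c d w * lv a b c d p := by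
  simp [wv]

theorem cell_mul_right {w : List Bool} {x β : G} (hx : x ∈ cell a b c d w) (hβ : β ∈ bor a b c) :
    x * β ∈ cell a b c d w := by
  obtain ⟨p, hp, q, hq, rfl⟩ := hx
  exact ⟨p, hp, q * β, mul_mem hq hβ, by rw [mul_assoc]⟩

theorem cell_mul_left {w : List Bool} {x β : G} (hx : x ∈ cell a b c d w) (hβ : β ∈ bor a b c) :
    β * x ∈ cell a b c d w := by
  obtain ⟨p, hp, q, hq, rfl⟩ := hx
  exact ⟨β * p, mul_mem hβ hp, q, hq, by simp only [mul_assoc]⟩

theorem cell_congr {v w : List Bool} {x : G} (hv : x ∈ cell a b c d v) (hw : x ∈ cell a b c d w) :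
    cell a b c d v ⊆ cell a b c d w := by
  rintro y ⟨p, hp, q, hq, rfl⟩
  obtain ⟨p1, hp1, q1, hq1, e1⟩ := hv
  obtain ⟨p2, hp2, q2, hq2, e2⟩ := hw
  refine ⟨p * (p1⁻¹ * p2), mul_mem hp (mul_mem (inv_mem hp1) hp2), q2 * q1⁻¹ * q,
    mul_mem (mul_mem hq2 (inv_mem hq1)) hq, ?_⟩
  have e : wv a b c d v = p1⁻¹ * x * q1⁻¹ := by rw [e1]; group
  rw [e, e2]; group

namespace Rels

variable (h : Rels a b c d)
include h

theorem ev_bor {w : List ℕ} (hw : w.all (fun i => decide (i < 6) && true) = true) :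
    ev a b c w ∈ bor a b c := uB_le_bor (ev_mem_span hw)

theorem g_mem : gg a b ∈ tor a b := Subgroup.subset_closure (Or.inr rfl)

theorem z_mem : a ^ 2 ∈ tor a b := Subgroup.subset_closure (Or.inl rfl)

theorem b_mem : b ∈ bor a b c := uB_le_bor (mem_uB_gen a b c (i := 0) (by norm_num))

/-- every element of B is a power of the root element of the letter times something the letter
conjugates into B -/
theorem bor_split_at (p : Bool) {β : G} (hβ : β ∈ bor a b c) :
    ∃ k < 5, ∃ v, (lv a b c d p)⁻¹ * v * lv a b c d p ∈ bor a b c ∧ β = xr a b c p ^ k * v := by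
  obtain ⟨u, hu, t, ht, rfl⟩ := h.bor_split hβ
  cases p
  · obtain ⟨k, hk, n, hn, rfl⟩ := h.u_split_b hu
    refine ⟨k, hk, n * t, ?_, mul_assoc _ _ _⟩
    show (ss a b)⁻¹ * (n * t) * ss a b ∈ bor a b c
    rw [show (ss a b)⁻¹ * (n * t) * ss a b =
      ((ss a b)⁻¹ * n * ss a b) * ((ss a b)⁻¹ * t * ss a b) by group]
    exact mul_mem (uB_le_bor (nB_le_uB ((Subgroup.mem_normalizer_iff.1 (inv_mem h.s_norm_N) n).1 hn |>
      fun e => by simpa using e))) (tor_le_bor (h.s_conj_tor ht))
  · obtain ⟨k, hk, q, hq, rfl⟩ := h.u_split_y hu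
    refine ⟨k, hk, q * t, ?_, mul_assoc _ _ _⟩
    show (ff a b c d)⁻¹ * (q * t) * ff a b c d ∈ bor a b c
    rw [show (ff a b c d)⁻¹ * (q * t) * ff a b c d =
      ((ff a b c d)⁻¹ * q * ff a b c d) * ((ff a b c d)⁻¹ * t * ff a b c d) by group, h.f_inv]
    exact mul_mem (uB_le_bor (h.f_conj_Q hq)) (tor_le_bor (h.f_conj_tor ht))

theorem pos_mul {w : List Bool} {p : Bool} (hP : Pos a b c d w p) {x : G}
    (hx : x ∈ cell a b c d w) {β : G} (hβ : β ∈ bor a b c) :
    x * β * lv a b c d p ∈ cell a b c d (w ++ [p]) := by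
  obtain ⟨β1, h1, β2, h2, rfl⟩ := hx
  obtain ⟨k, -, v, hv, e⟩ := h.bor_split_at p (mul_mem h2 hβ)
  refine ⟨β1 * (wv a b c d w * xr a b c p * (wv a b c d w)⁻¹) ^ k, mul_mem h1 (pow_mem hP k), _, hv, ?_⟩
  rw [wv_snoc, conj_pow]
  calc β1 * wv a b c d w * β2 * β * lv a b c d p
      = β1 * wv a b c d w * (β2 * β) * lv a b c d p := by simp only [mul_assoc]
    _ = _ := by rw [e]; group

theorem pos_mul' {w : List Bool} {p : Bool} (hP : Pos a b c d w p) {x : G}
    (hx : x ∈ cell a b c d w) : x * lv a b c d p ∈ cell a b c d (w ++ [p]) := by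
  simpa using h.pos_mul hP hx (one_mem _)

/-! #### positive words -/

theorem f_chain (v v' : List ℕ) (h1 : okQ v = true)
    (h2 : (okWord (mapF v) && okWord v' && norm 4000 (mapF v) == norm 4000 v') = true) :
    ff a b c d * ev a b c v * (ff a b c d)⁻¹ = ev a b c v' := by
  rw [← h.ev_F h1]; exact h.ev_eq _ _ h2

theorem s_chain (v v' : List ℕ) (h1 : okN v = true)
    (h2 : (okWord (mapS v) && okWord v' && norm 4000 (mapS v) == norm 4000 v') = true) :
    ss a b * ev a b c v * (ss a b)⁻¹ = ev a b c v' := by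
  rw [← h.ev_S h1]; exact h.ev_eq _ _ h2

theorem pos_nil (p : Bool) : Pos a b c d [] p := by
  cases p
  · simpa [Pos, wv, xr] using h.b_mem
  · simpa [Pos, wv, xr, yy] using h.ev_bor (w := [2, 2, 3, 4, 4, 4]) (by decide)

theorem pos_cons_f {w : List Bool} {p : Bool} {v v' : List ℕ}
    (hw : wv a b c d w * xr a b c p * (wv a b c d w)⁻¹ = ev a b c v) (h1 : okQ v = true)
    (h2 : (okWord (mapF v) && okWord v' && norm 4000 (mapF v) == norm 4000 v') = true) :
    wv a b c d (true :: w) * xr a b c p * (wv a b c d (true :: w))⁻¹ = ev a b c v' := by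
  rw [← h.f_chain v v' h1 h2, ← hw,
    show wv a b c d (true :: w) = ff a b c d * wv a b c d w by simp [wv, lv]]
  group

theorem pos_cons_s {w : List Bool} {p : Bool} {v v' : List ℕ}
    (hw : wv a b c d w * xr a b c p * (wv a b c d w)⁻¹ = ev a b c v) (h1 : okN v = true)
    (h2 : (okWord (mapS v) && okWord v' && norm 4000 (mapS v) == norm 4000 v') = true) :
    wv a b c d (false :: w) * xr a b c p * (wv a b c d (false :: w))⁻¹ = ev a b c v' := by
  rw [← h.s_chain v v' h1 h2, ← hw,
    show wv a b c d (false :: w) = ss a b * wv a b c d w by simp [wv, lv]]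
  group

theorem pos_s : Pos a b c d [true] false ∧ Pos a b c d [false, true] false ∧
    Pos a b c d [true, false, true] false ∧ Pos a b c d [false, true, false, true] false ∧
    Pos a b c d [true, false, true, false, true] false := by
  have h0 : wv a b c d [] * xr a b c false * (wv a b c d [])⁻¹ = ev a b c [0] := by simp [wv, xr, ev, gen]
  have e1 := h.pos_cons_f (v' := [1, 3, 3, 3, 3, 4, 4, 4, 5, 5]) h0 (by decide) (by decide +kernel)
  have e2 := h.pos_cons_s (v' := [1, 1, 4, 4, 4, 5, 5, 5, 5]) e1 (by decide) (by decide +kernel)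
  have e3 := h.pos_cons_f (v' := [1, 1, 1, 4, 4, 5, 5, 5, 5]) e2 (by decide) (by decide +kernel)
  have e4 := h.pos_cons_s (v' := [1, 1, 1, 3, 3, 4, 4, 4, 4, 5, 5, 5]) e3 (by decide) (by decide +kernel)
  have e5 := h.pos_cons_f (v' := [0, 0, 0]) e4 (by decide) (by decide +kernel)
  refine ⟨?_, ?_, ?_, ?_, ?_⟩ <;> rw [Pos]
  · rw [e1]; exact h.ev_bor (by decide)
  · rw [e2]; exact h.ev_bor (by decide)
  · rw [e3]; exact h.ev_bor (by decide)
  · rw [e4]; exact h.ev_bor (by decide)
  · rw [e5]; exact h.ev_bor (by decide)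

theorem pos_f : Pos a b c d [false] true ∧ Pos a b c d [true, false] true ∧
    Pos a b c d [false, true, false] true ∧ Pos a b c d [true, false, true, false] true ∧
    Pos a b c d [false, true, false, true, false] true := by
  have h0 : wv a b c d [] * xr a b c true * (wv a b c d [])⁻¹ = ev a b c [2, 2, 3, 4, 4, 4] := by
    simp [wv, xr, yy]
  have e1 := h.pos_cons_s (v' := [1, 1, 1, 3, 4, 5, 5, 5]) h0 (by decide) (by decide +kernel)
  have e2 := h.pos_cons_f (v' := [5, 5, 5, 5]) e1 (by decide) (by decide +kernel)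
  have e3 := h.pos_cons_s (v' := [5, 5]) e2 (by decide) (by decide +kernel)
  have e4 := h.pos_cons_f (v' := [1, 1, 1, 1, 3, 3, 3, 4, 4, 4, 5, 5]) e3 (by decide) (by decide +kernel)
  have e5 := h.pos_cons_s (v' := [2, 2, 3, 4, 4, 4]) e4 (by decide) (by decide +kernel)
  refine ⟨?_, ?_, ?_, ?_, ?_⟩ <;> rw [Pos]
  · rw [e1]; exact h.ev_bor (by decide)
  · rw [e2]; exact h.ev_bor (by decide)
  · rw [e3]; exact h.ev_bor (by decide)
  · rw [e4]; exact h.ev_bor (by decide)
  · rw [e5]; exact h.ev_bor (by decide)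

/-! #### rank one -/

theorem s_tor {t : G} (ht : t ∈ tor a b) : ss a b * t * (ss a b)⁻¹ ∈ tor a b := by
  have h2 : (ss a b)⁻¹ = (a ^ 2)⁻¹ * ss a b := by rw [← h.ss_sq]; group
  have e : ss a b * t * (ss a b)⁻¹ = a ^ 2 * ((ss a b)⁻¹ * t * ss a b) * (a ^ 2)⁻¹ := by
    rw [← h.ss_sq]; group
  rw [e]
  exact mul_mem (mul_mem h.z_mem (h.s_conj_tor ht)) (inv_mem h.z_mem)

theorem s_rank (k : ℕ) : ss a b * b ^ k * ss a b ∈ bor a b c ∨
    ss a b * b ^ k * ss a b ∈ cell a b c d [false] := by
  have step : ∀ j, ss a b * b ^ j * ss a b ∈ cell a b c d [false] →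
      ss a b * b ^ (3 * j) * ss a b ∈ cell a b c d [false] := by
    intro j hj
    have hc : (gg a b)⁻¹ * b ^ j * gg a b = b ^ (3 * j) := by
      have := conj_pow (i := j) (a := (gg a b)⁻¹) (b := b)
      rw [inv_inv] at this
      rw [← this, h.g_conj, ← pow_mul]
    have e : ss a b * b ^ (3 * j) * ss a b =
        (ss a b * (gg a b)⁻¹ * (ss a b)⁻¹) * (ss a b * b ^ j * ss a b) *
          ((ss a b)⁻¹ * gg a b * ss a b) := by
      rw [← hc]; group
    rw [e]
    exact cell_mul_right (cell_mul_left hj (tor_le_bor (h.s_tor (inv_mem h.g_mem))))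
      (tor_le_bor (h.s_conj_tor h.g_mem))
  have h2 : ss a b * b ^ 2 * ss a b ∈ cell a b c d [false] := by
    refine ⟨b⁻¹ * gg a b * b * (a ^ 2)⁻¹, ?_, b, h.b_mem, ?_⟩
    · exact mul_mem (mul_mem (mul_mem (inv_mem h.b_mem) (tor_le_bor h.g_mem)) h.b_mem)
        (inv_mem (tor_le_bor h.z_mem))
    · simp only [wv, lv, List.map_cons, List.map_nil, List.prod_cons, List.prod_nil, mul_one]
      rw [← h.ss_sq, gg, ss]; group
  have red : b ^ k = b ^ (k % 5) := by
    conv_lhs => rw [← Nat.mod_add_div k 5, pow_add, pow_mul, h.r2, one_pow, mul_one]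
  rw [red]
  have : k % 5 < 5 := Nat.mod_lt _ (by norm_num)
  interval_cases k % 5
  · left
    rw [pow_zero, mul_one, h.ss_sq]
    exact tor_le_bor h.z_mem
  · right
    have := step 2 h2
    rwa [show 3 * 2 = 5 + 1 from rfl, pow_add, h.r2, one_mul] at this
  · exact Or.inr h2
  · right
    have := step 1 (by
      have := step 2 h2
      rwa [show 3 * 2 = 5 + 1 from rfl, pow_add, h.r2, one_mul] at this)
    simpa using this
  · right
    have := step 3 (by
      have := step 1 (by
        have := step 2 h2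
        rwa [show 3 * 2 = 5 + 1 from rfl, pow_add, h.r2, one_mul] at this)
      simpa using this)
    rwa [show 3 * 3 = 5 + 4 from rfl, pow_add, h.r2, one_mul] at this

theorem u_mem : ev a b c uWord ∈ bor a b c := h.ev_bor (by decide)

theorem e_eq : ee a b c d = (ev a b c uWord)⁻¹ * ff a b c d := by rw [ff]; group

theorem e_conj_Q {q : G} (hq : q ∈ qB a b c) : ee a b c d * q * ee a b c d ∈ uB a b c := by
  obtain ⟨w, hw, rfl⟩ := exists_word h hq
  have hw' := h.okQ_of_all hw
  have e : ev a b c (sub tE w) = ee a b c d * ev a b c w * (ee a b c d)⁻¹ :=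
    ev_sub _ tE w fun i hi => h.E_gen i (h.mem_okQ hw' i hi)
  rw [h.e_inv] at e
  rw [← e]
  refine ev_mem_span ?_
  have := h.okWord_E hw'
  simp only [okWord, List.all_append, Bool.and_eq_true] at this
  simpa using this.1.2

theorem e_z : ee a b c d * a ^ 2 * ee a b c d ∈ bor a b c := by
  rw [h.r35, show a * b ^ 2 * a * b⁻¹ * a * c * q5 a c * (q4 b c)⁻¹ =
    gg a b * (c * q5 a c * (q4 b c)⁻¹) by rw [gg]; simp only [mul_assoc]]
  refine mul_mem (tor_le_bor h.g_mem) (mul_mem (mul_mem ?_ ?_) (inv_mem ?_))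
  exacts [uB_le_bor (mem_uB_gen a b c (i := 1) (by norm_num)),
    uB_le_bor (mem_uB_gen a b c (i := 5) (by norm_num)),
    uB_le_bor (mem_uB_gen a b c (i := 4) (by norm_num))]

theorem e_rank (k : ℕ) : ee a b c d * q2 a c ^ k * ee a b c d ∈ bor a b c ∨
    ee a b c d * q2 a c ^ k * ee a b c d ∈ cell a b c d [true] := by
  have hc2 : q2 a c ∈ bor a b c := uB_le_bor (mem_uB_gen a b c (i := 2) (by norm_num))
  have step : ∀ j, ee a b c d * q2 a c ^ j * ee a b c d ∈ cell a b c d [true] →
      ee a b c d * q2 a c ^ (3 * j) * ee a b c d ∈ cell a b c d [true] := by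
    intro j hj
    have hA : (a ^ 2)⁻¹ * q2 a c * a ^ 2 = q2 a c ^ 3 := by
      have e1 := h.A_gen 2 (by norm_num)
      have e2 := h.A_gen 1 (by norm_num)
      simp only [tA, inv_inv, ev, gen, List.map_cons, List.map_nil, List.prod_cons, List.prod_nil,
        mul_one] at e1 e2
      calc (a ^ 2)⁻¹ * q2 a c * a ^ 2 = a⁻¹ * (a⁻¹ * q2 a c * a) * a := by rw [pow_two]; group
        _ = (a⁻¹ * c * a) * (a⁻¹ * c * a) * (a⁻¹ * c * a) := by rw [← e1]; group
        _ = q2 a c ^ 3 := by rw [← e2]; simp only [pow_succ, pow_zero, one_mul]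
    have hc : (a ^ 2)⁻¹ * q2 a c ^ j * a ^ 2 = q2 a c ^ (3 * j) := by
      have := conj_pow (i := j) (a := (a ^ 2)⁻¹) (b := q2 a c)
      rw [inv_inv] at this
      rw [← this, hA, ← pow_mul]
    have e : ee a b c d * q2 a c ^ (3 * j) * ee a b c d =
        (ee a b c d * a ^ 2 * ee a b c d)⁻¹ * (ee a b c d * q2 a c ^ j * ee a b c d) *
          (ee a b c d * a ^ 2 * ee a b c d) := by
      rw [← hc]
      have := h.e_sq
      calc ee a b c d * ((a ^ 2)⁻¹ * q2 a c ^ j * a ^ 2) * ee a b c d
          = ee a b c d * (a ^ 2)⁻¹ * (ee a b c d * ee a b c d) * q2 a c ^ j *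
              (ee a b c d * ee a b c d) * a ^ 2 * ee a b c d := by
            rw [this]; group
        _ = _ := by simp only [mul_inv_rev, h.e_inv, mul_assoc]
    rw [e]
    exact cell_mul_right (cell_mul_left hj (inv_mem h.e_z)) h.e_z
  have h1 : ee a b c d * q2 a c ^ 1 * ee a b c d ∈ cell a b c d [true] := by
    have hX : (q4 b c)⁻¹ * (a * q3 b c * a ^ 3) ∈ bor a b c := by
      refine mul_mem (inv_mem (uB_le_bor (mem_uB_gen a b c (i := 4) (by norm_num)))) ?_
      have e3 := h.AI_gen 3 (by norm_num)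
      have : a * q3 b c * a ^ 3 = ev a b c (tAI 3) * (a ^ 2) ^ 2 := by
        rw [e3, show gen a b c 3 = q3 b c from rfl]; group
      rw [this]
      exact mul_mem (h.ev_bor (by decide)) (pow_mem (tor_le_bor h.z_mem) 2)
    refine ⟨((q4 b c)⁻¹ * (a * q3 b c * a ^ 3))⁻¹ * (q2 a c)⁻¹ * (ev a b c uWord)⁻¹,
      mul_mem (mul_mem (inv_mem hX) (inv_mem hc2)) (inv_mem h.u_mem), q2 a c, hc2, ?_⟩
    simp only [wv, lv, List.map_cons, List.map_nil, List.prod_cons, List.prod_nil, mul_one, pow_one]
    have e := h.r38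
    have e' : ee a b c d * q2 a c * ee a b c d =
        (ee a b c d * q2 a c * (q4 b c)⁻¹ * a * q3 b c * a ^ 3)⁻¹ * q2 a c := by
      refine eq_mul_of_mul_inv_eq (eq_inv_of_mul_eq_one_left ?_)
      rw [← e]; simp only [mul_assoc]
    rw [e', ff]
    have := h.e_inv
    simp only [mul_inv_rev, this, mul_assoc, inv_mul_cancel_left]
  have red : q2 a c ^ k = q2 a c ^ (k % 5) := by
    have h5 : q2 a c ^ 5 = 1 := h.gen_pow 2
    conv_lhs => rw [← Nat.mod_add_div k 5, pow_add, pow_mul, h5, one_pow, mul_one]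
  have h5 : q2 a c ^ 5 = 1 := h.gen_pow 2
  rw [red]
  have : k % 5 < 5 := Nat.mod_lt _ (by norm_num)
  interval_cases k % 5
  · left
    rw [pow_zero, mul_one, h.e_sq]; exact one_mem _
  · exact Or.inr h1
  · right
    have := step 4 (by
      have := step 3 (step 1 h1)
      rwa [show 3 * 3 = 5 + 4 from rfl, pow_add, h5, one_mul] at this)
    rwa [show 3 * 4 = 5 + 5 + 2 from rfl, pow_add, pow_add, h5, one_mul, one_mul] at this
  · exact Or.inr (step 1 h1)
  · right
    have := step 3 (step 1 h1)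
    rwa [show 3 * 3 = 5 + 4 from rfl, pow_add, h5, one_mul] at this

theorem rank_one (p : Bool) {β : G} (hβ : β ∈ bor a b c) :
    lv a b c d p * β * lv a b c d p ∈ bor a b c ∨
      lv a b c d p * β * lv a b c d p ∈ cell a b c d [p] := by
  obtain ⟨u, hu, t, ht, rfl⟩ := h.bor_split hβ
  cases p
  · obtain ⟨k, -, n, hn, rfl⟩ := h.u_split_b hu
    show ss a b * (b ^ k * n * t) * ss a b ∈ bor a b c ∨ ss a b * (b ^ k * n * t) * ss a b ∈ _
    rw [show ss a b * (b ^ k * n * t) * ss a b = ss a b * b ^ k * ss a b *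
      (((ss a b)⁻¹ * n * ss a b) * ((ss a b)⁻¹ * t * ss a b)) by group]
    have hr : (ss a b)⁻¹ * n * ss a b * ((ss a b)⁻¹ * t * ss a b) ∈ bor a b c :=
      mul_mem (uB_le_bor (nB_le_uB (by
        simpa using (Subgroup.mem_normalizer_iff.1 (inv_mem h.s_norm_N) n).1 hn)))
        (tor_le_bor (h.s_conj_tor ht))
    exact (h.s_rank k).imp (fun e => mul_mem e hr) (fun e => cell_mul_right e hr)
  · show ff a b c d * (u * t) * ff a b c d ∈ bor a b c ∨ ff a b c d * (u * t) * ff a b c d ∈ _
    obtain ⟨k, hk, q, hq, hv⟩ := h.u_split_y (mul_mem hu (ev_mem_span (w := uWord) (by decide)))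
    obtain ⟨q', hq', hy⟩ : ∃ q' ∈ qB a b c, yy a b c ^ k = q2 a c ^ (2 * k) * q' := by
      have e2 : ∀ j : ℕ, q2 a c ^ j = ev a b c (List.replicate j 2) := by
        intro j; induction j with
        | zero => simp [ev]
        | succ j ih => rw [List.replicate_succ, ev_cons, pow_succ', ih]; rfl
      have ey : ∀ j : ℕ, yy a b c ^ j = ev a b c (List.replicate j [2, 2, 3, 4, 4, 4]).flatten := by
        intro j; induction j with
        | zero => simp [ev]
        | succ j ih => rw [List.replicate_succ, List.flatten_cons, ev_append, pow_succ', ih]; rfl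
      refine ⟨ev a b c (norm 4000 (winv (List.replicate (2 * k) 2) ++
        (List.replicate k [2, 2, 3, 4, 4, 4]).flatten)), ?_, ?_⟩
      · exact ev_mem_span (by interval_cases k <;> decide +kernel)
      · rw [h.norm_eq _ _ (by interval_cases k <;> decide), ev_append, h.ev_winv, ← e2, ← ey]
        group
    have hq2 : q' * q ∈ qB a b c := mul_mem hq' hq
    have e : ff a b c d * (u * t) * ff a b c d =
        ev a b c uWord * (ee a b c d * q2 a c ^ (2 * k) * ee a b c d) *
          ((ee a b c d * (q' * q) * ee a b c d) * (ff a b c d * t * ff a b c d)) := by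
      calc ff a b c d * (u * t) * ff a b c d
          = ff a b c d * u * (ff a b c d * ff a b c d) * t * ff a b c d := by
            rw [h.f_sq]; group
        _ = ev a b c uWord * ee a b c d * (u * ev a b c uWord) * ee a b c d *
              (ff a b c d * t * ff a b c d) := by rw [ff]; simp only [mul_assoc]
        _ = ev a b c uWord * ee a b c d * q2 a c ^ (2 * k) * (ee a b c d * ee a b c d) * (q' * q) *
              ee a b c d * (ff a b c d * t * ff a b c d) := by
            rw [hv, hy, h.e_sq]; simp only [mul_assoc, one_mul]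
        _ = _ := by simp only [mul_assoc]
    rw [e]
    have hr : (ee a b c d * (q' * q) * ee a b c d) * (ff a b c d * t * ff a b c d) ∈ bor a b c :=
      mul_mem (uB_le_bor (h.e_conj_Q hq2)) (tor_le_bor (h.f_conj_tor ht))
    exact (h.e_rank (2 * k)).imp (fun e => mul_mem (mul_mem h.u_mem e) hr)
      (fun e => cell_mul_right (cell_mul_left e h.u_mem) hr)

end Rels

end H68.Ly
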