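import Cfsg.Agent.H68.Ly.Rels

/-!
Conjugation in the group generated by b and the conjugates of c, and the identities needed for
the count of double cosets.
-/

set_option autoImplicit false

namespace H68.Ly

/-- substitute words for letters -/
def sub (T : ℕ → List ℕ) (w : List ℕ) : List ℕ := w.flatMap T

/-- letters 1, …, 5 only -/
def okN (w : List ℕ) : Bool := w.all fun i => decide (1 ≤ i ∧ i < 6)

/-- letters other than 2 -/
def okQ (w : List ℕ) : Bool := w.all fun i => decide (i < 6 ∧ i ≠ 2)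

def tA : ℕ → List ℕ
  | 1 => [2]
  | 2 => [1, 1, 1]
  | 3 => [3, 3, 3, 1, 4]
  | 4 => [1, 2, 2, 2, 2, 3, 3, 3, 3, 4, 1, 4]
  | _ => [5, 5]

def tAI : ℕ → List ℕ
  | 1 => [2, 2]
  | 2 => [1]
  | 3 => [1, 1, 3, 4, 4, 5, 5, 5, 5]
  | 4 => [1, 1, 1, 1, 2, 2, 2, 3, 3, 3, 4, 4, 4, 4, 5, 5, 5]
  | _ => [5, 5, 5]

def tBD : ℕ → List ℕ
  | 1 => [3]
  | 2 => [2, 3, 4, 4, 4, 4, 1, 1, 1, 1, 4, 4, 4, 4]
  | 3 => [1, 1, 4, 3, 3, 3]
  | 4 => [1]
  | _ => [5]

def tBI : ℕ → List ℕ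
  | 1 => [4]
  | 2 => [1, 1, 1, 2, 3, 3, 4, 4, 5, 5, 5, 5]
  | 3 => [1]
  | 4 => [1, 1, 3, 4, 4, 4]
  | _ => [5]

def tE : ℕ → List ℕ
  | 0 => [1, 3, 3, 3, 3, 4, 4, 4]
  | 1 => [0, 3, 0, 1, 1, 1, 1]
  | 3 => [0, 0] ++ sub tAI [2, 1, 1, 1, 1, 4, 4, 4, 4]
  | 4 => [0, 0, 3, 3, 3, 3, 4]
  | _ => [1, 3, 3, 3, 3, 1, 4, 4, 4, 4]

def mapS (w : List ℕ) : List ℕ :=
  norm 4000 (sub tBD (norm 4000 (sub tAI (norm 4000 (sub tBI w)))))

def mapG (w : List ℕ) : List ℕ :=
  norm 4000 (sub tA (sub tBI (norm 4000 (sub tA (norm 4000 (sub tBD (norm 4000 (sub tBD (sub tA w)))))))))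

def uWord : List ℕ := [1, 1, 4, 4, 4, 5, 5, 5, 5]

def mapF (w : List ℕ) : List ℕ := norm 4000 (uWord ++ sub tE w ++ winv uWord)

variable {G : Type*} [Group G] {a b c d : G}

/-- the second torus generator -/
def gg (a b : G) : G := a * b ^ 2 * a * b⁻¹ * a

def ss (a b : G) : G := b⁻¹ * a * b

def ff (a b c d : G) : G := ev a b c uWord * ee a b c d

theorem ev_sub (x : G) (T : ℕ → List ℕ) :
    ∀ w : List ℕ, (∀ i ∈ w, ev a b c (T i) = x * gen a b c i * x⁻¹) →
      ev a b c (sub T w) = x * ev a b c w * x⁻¹ := by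
  intro w
  induction w with
  | nil => intro _; simp [sub, ev]
  | cons i w ih =>
    intro hw
    rw [show sub T (i :: w) = T i ++ sub T w from rfl, ev_append, hw i List.mem_cons_self,
      ih fun j hj => hw j (List.mem_cons_of_mem _ hj), ev_cons]
    group

theorem okWord_of_okN {w : List ℕ} (h : okN w = true) : okWord w = true := by
  simp only [okN, okWord, List.all_eq_true, decide_eq_true_eq] at h ⊢
  exact fun i hi => (h i hi).2

theorem mem_okN {w : List ℕ} (h : okN w = true) : ∀ i ∈ w, i = 1 ∨ i = 2 ∨ i = 3 ∨ i = 4 ∨ i = 5 := by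
  simp only [okN, List.all_eq_true, decide_eq_true_eq] at h
  intro i hi
  have := h i hi
  omega

namespace Rels

variable (h : Rels a b c d)
include h

theorem A_gen : ∀ i, i = 1 ∨ i = 2 ∨ i = 3 ∨ i = 4 ∨ i = 5 →
    ev a b c (tA i) = a⁻¹ * gen a b c i * (a⁻¹)⁻¹ := by
  intro i hi
  rw [inv_inv]
  rcases hi with rfl | rfl | rfl | rfl | rfl
  · simp [tA, ev, gen, q2]
  · show ev a b c [1, 1, 1] = a⁻¹ * q2 a c * a
    have e : (c ^ 2)⁻¹ = c ^ 3 := inv_eq_of_mul_eq_one_left (by rw [← pow_add]; exact h.r11)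
    rw [h.r22, e]; simp [ev, gen, pow_succ, mul_assoc]
  · show ev a b c [3, 3, 3, 1, 4] = a⁻¹ * q3 b c * a
    have e : (q3 b c ^ 2)⁻¹ = q3 b c ^ 3 :=
      inv_eq_of_mul_eq_one_left (by rw [← pow_add]; exact h.gen_pow 3)
    rw [h.r23, e]; simp [ev, gen, pow_succ, mul_assoc]
  · show ev a b c [1, 2, 2, 2, 2, 3, 3, 3, 3, 4, 1, 4] = a⁻¹ * q4 b c * a
    rw [h.r24, show (q2 a c)⁻¹ = q2 a c ^ 4 from h.gen_inv 2,
      show (q3 b c)⁻¹ = q3 b c ^ 4 from h.gen_inv 3]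
    simp [ev, gen, pow_succ, mul_assoc]
  · show ev a b c [5, 5] = a⁻¹ * q5 a c * a
    rw [h.r25]; simp [ev, gen, pow_succ]

theorem BD_gen : ∀ i, i = 1 ∨ i = 2 ∨ i = 3 ∨ i = 4 ∨ i = 5 →
    ev a b c (tBD i) = b⁻¹ * gen a b c i * (b⁻¹)⁻¹ := by
  intro i hi
  rw [inv_inv]
  rcases hi with rfl | rfl | rfl | rfl | rfl
  · simp [tBD, ev, gen, q3]
  · show ev a b c [2, 3, 4, 4, 4, 4, 1, 1, 1, 1, 4, 4, 4, 4] = b⁻¹ * q2 a c * b
    rw [h.r26, show (q4 b c)⁻¹ = q4 b c ^ 4 from h.gen_inv 4, show c⁻¹ = c ^ 4 from h.gen_inv 1]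
    simp [ev, gen, pow_succ, mul_assoc]
  · show ev a b c [1, 1, 4, 3, 3, 3] = b⁻¹ * q3 b c * b
    have e : (q3 b c ^ 2)⁻¹ = q3 b c ^ 3 :=
      inv_eq_of_mul_eq_one_left (by rw [← pow_add]; exact h.gen_pow 3)
    rw [h.r27, e]; simp [ev, gen, pow_succ, mul_assoc]
  · simp [tBD, ev, gen, q4, mul_assoc]
  · show ev a b c [5] = b⁻¹ * q5 a c * b
    rw [h.r28]; simp [ev, gen]

theorem inv_map {x : G} {T TI : ℕ → List ℕ}
    (hT : ∀ i, i = 1 ∨ i = 2 ∨ i = 3 ∨ i = 4 ∨ i = 5 → ev a b c (T i) = x⁻¹ * gen a b c i * (x⁻¹)⁻¹)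
    {i : ℕ} (hTI : okN (TI i) = true)
    (hd : (okWord (sub T (TI i)) && okWord [i] && norm 4000 (sub T (TI i)) == norm 4000 [i]) = true) :
    ev a b c (TI i) = x * gen a b c i * x⁻¹ := by
  have e1 := ev_sub (a := a) (b := b) (c := c) x⁻¹ T (TI i) fun j hj => hT j (mem_okN hTI j hj)
  rw [h.ev_eq_of_norm hd] at e1
  have e2 : gen a b c i = x⁻¹ * ev a b c (TI i) * (x⁻¹)⁻¹ := by
    rw [← e1]; simp [ev]
  rw [e2]; group

theorem AI_gen : ∀ i, i = 1 ∨ i = 2 ∨ i = 3 ∨ i = 4 ∨ i = 5 →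
    ev a b c (tAI i) = a * gen a b c i * a⁻¹ := by
  intro i hi
  rcases hi with rfl | rfl | rfl | rfl | rfl <;>
    exact h.inv_map (T := tA) (TI := tAI) h.A_gen (by decide) (by decide +kernel)

theorem BI_gen : ∀ i, i = 1 ∨ i = 2 ∨ i = 3 ∨ i = 4 ∨ i = 5 →
    ev a b c (tBI i) = b * gen a b c i * b⁻¹ := by
  intro i hi
  rcases hi with rfl | rfl | rfl | rfl | rfl <;>
    exact h.inv_map (T := tBD) (TI := tBI) h.BD_gen (by decide) (by decide +kernel)

theorem ev_map {x : G} {T : ℕ → List ℕ}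
    (hT : ∀ i, i = 1 ∨ i = 2 ∨ i = 3 ∨ i = 4 ∨ i = 5 → ev a b c (T i) = x * gen a b c i * x⁻¹)
    {w : List ℕ} (hw : okN w = true) : ev a b c (sub T w) = x * ev a b c w * x⁻¹ :=
  ev_sub x T w fun i hi => hT i (mem_okN hw i hi)

theorem okN_sub {T : ℕ → List ℕ}
    (hT : ∀ i, i = 1 ∨ i = 2 ∨ i = 3 ∨ i = 4 ∨ i = 5 → okN (T i) = true)
    {w : List ℕ} (hw : okN w = true) : okN (sub T w) = true := by
  simp only [okN, List.all_eq_true, sub, List.mem_flatMap] at hT ⊢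
  rintro j ⟨i, hi, hj⟩
  exact hT i (mem_okN hw i hi) j hj

theorem e_sq : ee a b c d * ee a b c d = 1 := by rw [← pow_two]; exact h.r30

theorem e_inv : (ee a b c d)⁻¹ = ee a b c d := inv_eq_of_mul_eq_one_right h.e_sq

theorem E_gen : ∀ i, i = 0 ∨ i = 1 ∨ i = 3 ∨ i = 4 ∨ i = 5 →
    ev a b c (tE i) = ee a b c d * gen a b c i * (ee a b c d)⁻¹ := by
  intro i hi
  have key : ∀ x y : G, (ee a b c d)⁻¹ * x * ee a b c d = y →
      y = ee a b c d * x * (ee a b c d)⁻¹ := by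
    intro x y e; rw [← e, h.e_inv]
  rcases hi with rfl | rfl | rfl | rfl | rfl <;> apply key
  · show (ee a b c d)⁻¹ * b * ee a b c d = _
    have e4 : (q4 b c ^ 2)⁻¹ = q4 b c ^ 3 :=
      inv_eq_of_mul_eq_one_left (by rw [← pow_add]; exact h.gen_pow 4)
    rw [h.r36, e4, show (q3 b c)⁻¹ = q3 b c ^ 4 from h.gen_inv 3]
    simp [tE, ev, gen, pow_succ, mul_assoc]
  · show (ee a b c d)⁻¹ * c * ee a b c d = _
    rw [h.r31, show c⁻¹ = c ^ 4 from h.gen_inv 1]
    simp [tE, ev, gen, pow_succ, mul_assoc]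
  · show (ee a b c d)⁻¹ * q3 b c * ee a b c d = ev a b c ([0, 0] ++ sub tAI [2, 1, 1, 1, 1, 4, 4, 4, 4])
    rw [ev_append, h.ev_map h.AI_gen (by decide), h.r32]
    have e4 : ev a b c [2, 1, 1, 1, 1, 4, 4, 4, 4] = q2 a c * c⁻¹ * (q4 b c)⁻¹ := by
      rw [show (q4 b c)⁻¹ = q4 b c ^ 4 from h.gen_inv 4, show c⁻¹ = c ^ 4 from h.gen_inv 1]
      simp [ev, gen, pow_succ, mul_assoc]
    rw [e4, show ev a b c [0, 0] = b ^ 2 from by simp [ev, gen, pow_succ]]
    group
  · show (ee a b c d)⁻¹ * q4 b c * ee a b c d = _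
    rw [h.r33, show (q3 b c)⁻¹ = q3 b c ^ 4 from h.gen_inv 3]
    simp [tE, ev, gen, pow_succ, mul_assoc]
  · show (ee a b c d)⁻¹ * q5 a c * ee a b c d = _
    rw [h.r34, show (q3 b c)⁻¹ = q3 b c ^ 4 from h.gen_inv 3,
      show (q4 b c)⁻¹ = q4 b c ^ 4 from h.gen_inv 4]
    simp [tE, ev, gen, pow_succ, mul_assoc]

theorem mem_okQ {w : List ℕ} (hw : okQ w = true) :
    ∀ i ∈ w, i = 0 ∨ i = 1 ∨ i = 3 ∨ i = 4 ∨ i = 5 := by
  simp only [okQ, List.all_eq_true, decide_eq_true_eq] at hw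
  intro i hi
  have := hw i hi
  omega

theorem okWord_E {w : List ℕ} (hw : okQ w = true) : okWord (uWord ++ sub tE w ++ winv uWord) = true := by
  simp only [okWord, List.all_eq_true, decide_eq_true_eq, List.mem_append, sub, List.mem_flatMap]
  rintro j ((hj | ⟨i, hi, hj⟩) | hj)
  · revert j; decide
  · rcases h.mem_okQ hw i hi with rfl | rfl | rfl | rfl | rfl <;> revert j <;> decide
  · revert j; decide

theorem ev_F {w : List ℕ} (hw : okQ w = true) :
    ev a b c (mapF w) = ff a b c d * ev a b c w * (ff a b c d)⁻¹ := by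
  rw [mapF, h.norm_eq _ _ (h.okWord_E hw), ev_append, ev_append, h.ev_winv,
    ev_sub (ee a b c d) tE w fun i hi => h.E_gen i (h.mem_okQ hw i hi), ff]
  group

theorem step_okN : ∀ (n : ℕ) (w : List ℕ), okN w = true → okN (norm n w) = true := by
  intro n
  induction n with
  | zero => intro w hw; exact hw
  | succ n ih =>
    intro w hw
    have hs : ∀ l : List ℕ, okN l = true → okN (step l) = true := by
      intro l
      induction l with
      | nil => intro _; rfl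
      | cons x t iht =>
        intro hl
        have hm := mem_okN hl
        have hx := hm x List.mem_cons_self
        have ht : okN t = true := by
          simp only [okN, List.all_eq_true] at hl ⊢
          exact fun i hi => hl i (List.mem_cons_of_mem _ hi)
        rw [step]
        by_cases h1 : Nat.blt (t.headD x) x = true
        · rw [h1, cond_true]
          simp only [okN, List.all_eq_true, List.mem_append] at ht ⊢
          rintro z (hz | hz)
          · have hy : t.headD x = 1 ∨ t.headD x = 2 ∨ t.headD x = 3 ∨ t.headD x = 4 ∨ t.headD x = 5 := by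
              cases t with
              | nil => exact hx
              | cons y t' => exact hm y (List.mem_cons_of_mem _ List.mem_cons_self)
            clear h1
            generalize t.headD x = y at hz hy
            rcases hx with rfl | rfl | rfl | rfl | rfl <;> rcases hy with rfl | rfl | rfl | rfl | rfl <;>
              revert z <;> decide
          · exact ht z (List.mem_of_mem_tail hz)
        · rw [Bool.not_eq_true] at h1
          rw [h1, cond_false]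
          by_cases h2 : (t.take 4 == [x, x, x, x]) = true
          · rw [h2, cond_true]
            simp only [okN, List.all_eq_true] at ht ⊢
            exact fun z hz => ht z (List.mem_of_mem_drop hz)
          · rw [Bool.not_eq_true] at h2
            rw [h2, cond_false]
            have := iht ht
            simp only [okN, List.all_eq_true] at this hl ⊢
            intro z hz
            rcases List.mem_cons.1 hz with rfl | hz
            exacts [hl z List.mem_cons_self, this z hz]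
    rw [norm]
    by_cases h3 : (step w == w) = true
    · simp only [h3, cond_true]; exact hw
    · rw [Bool.not_eq_true] at h3
      simp only [h3, cond_false]
      exact ih _ (hs w hw)

theorem ev_S {w : List ℕ} (hw : okN w = true) :
    ev a b c (mapS w) = ss a b * ev a b c w * (ss a b)⁻¹ := by
  have k1 : ∀ i, i = 1 ∨ i = 2 ∨ i = 3 ∨ i = 4 ∨ i = 5 → okN (tBI i) = true := by
    rintro i (rfl | rfl | rfl | rfl | rfl) <;> decide
  have k2 : ∀ i, i = 1 ∨ i = 2 ∨ i = 3 ∨ i = 4 ∨ i = 5 → okN (tAI i) = true := by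
    rintro i (rfl | rfl | rfl | rfl | rfl) <;> decide
  have k3 : ∀ i, i = 1 ∨ i = 2 ∨ i = 3 ∨ i = 4 ∨ i = 5 → okN (tBD i) = true := by
    rintro i (rfl | rfl | rfl | rfl | rfl) <;> decide
  have w1 := h.step_okN 4000 _ (h.okN_sub k1 hw)
  have w2 := h.step_okN 4000 _ (h.okN_sub k2 w1)
  rw [mapS, h.norm_eq _ _ (okWord_of_okN (h.okN_sub k3 w2)), h.ev_map h.BD_gen w2,
    h.norm_eq _ _ (okWord_of_okN (h.okN_sub k2 w1)), h.ev_map h.AI_gen w1,
    h.norm_eq _ _ (okWord_of_okN (h.okN_sub k1 hw)), h.ev_map h.BI_gen hw, ss]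
  group

theorem ev_G {w : List ℕ} (hw : okN w = true) :
    ev a b c (mapG w) = (gg a b)⁻¹ * ev a b c w * gg a b := by
  have k1 : ∀ i, i = 1 ∨ i = 2 ∨ i = 3 ∨ i = 4 ∨ i = 5 → okN (tA i) = true := by
    rintro i (rfl | rfl | rfl | rfl | rfl) <;> decide
  have k2 : ∀ i, i = 1 ∨ i = 2 ∨ i = 3 ∨ i = 4 ∨ i = 5 → okN (tBD i) = true := by
    rintro i (rfl | rfl | rfl | rfl | rfl) <;> decide
  have k3 : ∀ i, i = 1 ∨ i = 2 ∨ i = 3 ∨ i = 4 ∨ i = 5 → okN (tBI i) = true := by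
    rintro i (rfl | rfl | rfl | rfl | rfl) <;> decide
  have v1 := h.okN_sub k2 (h.okN_sub k1 hw)
  have w1 := h.step_okN 4000 _ v1
  have v2 := h.okN_sub k2 w1
  have w2 := h.step_okN 4000 _ v2
  have v3 := h.okN_sub k1 w2
  have w3 := h.step_okN 4000 _ v3
  have v4 := h.okN_sub k1 (h.okN_sub k3 w3)
  rw [mapG, h.norm_eq _ _ (okWord_of_okN v4), h.ev_map h.A_gen (h.okN_sub k3 w3),
    h.ev_map h.BI_gen w3, h.norm_eq _ _ (okWord_of_okN v3), h.ev_map h.A_gen w2,
    h.norm_eq _ _ (okWord_of_okN v2), h.ev_map h.BD_gen w1, h.norm_eq _ _ (okWord_of_okN v1),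
    h.ev_map h.BD_gen (h.okN_sub k1 hw), h.ev_map h.A_gen hw, gg, pow_two]
  group

end Rels

end H68.Ly
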