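import Cfsg.Agent.H68.Ly.QIdent

/-! Three identities in the subgroup generated by a and b, each a product of conjugates of relators. -/

set_option autoImplicit false
set_option maxRecDepth 100000

namespace H68.Ly

/-- relators on two letters (false = a, true = b) -/
def rel2 : ℕ → List (Bool × Bool)
  | 0 => [(false, true), (false, true), (false, true), (false, true), (false, true), (false, true), (false, true), (false, true)]
  | 1 => [(true, true), (true, true), (true, true), (true, true), (true, true)]
  | 2 => [(false, true), (true, true), (false, true), (true, true), (false, true), (true, true), (false, true), (true, true)]
  | 3 => [(false, false), (false, false), (true, false), (false, true), (false, true), (true, true)]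
  | _ => [(false, false), (true, false), (false, true), (true, true), (false, false), (true, false), (false, true), (true, true), (false, false), (true, false), (false, true), (true, true)]

/-- product of conjugates of relators -/
def conjProd (l : List (List (Bool × Bool) × ℕ × Bool)) : FreeGroup Bool :=
  (l.map fun e => FreeGroup.mk e.1 * cond e.2.2 (FreeGroup.mk (rel2 e.2.1)) (FreeGroup.mk (rel2 e.2.1))⁻¹ *
    (FreeGroup.mk e.1)⁻¹).prod

variable {G : Type*} [Group G] {a b c d : G}

theorem Rels.lift_rel (h : Rels a b c d) (i : ℕ) :
    FreeGroup.lift (fun x => cond x b a) (FreeGroup.mk (rel2 i)) = 1 := by
  have e4 : a⁻¹ * a⁻¹ * b⁻¹ * a * a * b = 1 := by
    have := h.r4; simpa [pow_two, mul_inv_rev, mul_assoc] using this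
  have e5 := h.r5
  have e1 := h.r1
  have e2 := h.r2
  have e3 := h.r3
  simp only [pow_succ, pow_zero, one_mul, mul_assoc] at e1 e2 e3 e5
  simp only [mul_assoc] at e4
  unfold rel2
  split <;> simp [FreeGroup.lift_mk, e1, e2, e3, e4, e5]

theorem Rels.word_one (h : Rels a b c d) {t : List (Bool × Bool)}
    {l : List (List (Bool × Bool) × ℕ × Bool)} (e : conjProd l * FreeGroup.mk t = 1) :
    FreeGroup.lift (fun x => cond x b a) (FreeGroup.mk t) = 1 := by
  have h1 := congrArg (FreeGroup.lift (fun x : Bool => cond x b a)) e
  rw [map_one, map_mul] at h1
  suffices h2 : FreeGroup.lift (fun x : Bool => cond x b a) (conjProd l) = 1 by
    rwa [h2, one_mul] at h1
  clear e h1
  induction l with
  | nil => simp [conjProd]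
  | cons x l ih =>
    rw [conjProd, List.map_cons, List.prod_cons, map_mul]
    rw [conjProd] at ih
    rw [ih, mul_one, map_mul, map_mul]
    obtain ⟨u, i, s⟩ := x
    cases s <;> simp only [cond_true, cond_false, map_inv, h.lift_rel i, inv_one, mul_one, mul_inv_cancel]

theorem Rels.g_conj (h : Rels a b c d) : (gg a b)⁻¹ * b * gg a b = b ^ 3 := by
  have hh := h.word_one (t := [(false, false), (true, true), (false, false), (true, false), (true, false), (false, false), (true, true), (false, true), (true, true), (true, true), (false, true), (true, false), (false, true), (true, false), (true, false), (true, false)])
    (l := [([], 3, false),
      ([(false, false), (false, false), (true, false)], 0, true),
      ([(false, false), (false, false)], 3, false),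
      ([(false, false), (false, false), (false, false), (false, false), (true, false), (false, false)], 3, true),
      ([(false, false), (false, false), (false, false), (true, true)], 2, false),
      ([(false, false), (true, true)], 3, false),
      ([(false, false), (true, true), (false, false), (true, true), (true, true)], 3, false),
      ([(false, false), (true, true), (false, false), (true, true), (true, true), (false, false)], 4, true),
      ([(false, false), (true, true), (false, false), (true, true), (true, true), (false, false), (true, false), (false, false), (true, true), (false, false), (true, false), (false, true), (false, true), (true, true)], 3, false),
      ([(false, false), (true, true), (false, false), (true, true), (true, true), (false, false), (true, false), (false, false), (false, false), (false, false), (true, true), (false, true), (false, true)], 3, true),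
      ([(false, false), (true, true), (false, false), (true, true), (true, true), (false, false)], 3, false),
      ([(false, false), (true, true), (false, false)], 1, true),
      ([(false, false), (true, true), (false, false), (true, false), (true, false)], 3, false),
      ([(false, false), (true, true), (false, false), (true, false), (true, false), (false, false), (true, true)], 2, false),
      ([(false, false), (true, true), (false, false), (true, false), (true, false), (false, false), (true, true), (false, true), (true, true), (true, true), (false, true), (true, false), (false, true)], 1, true)]) (by decide +kernel)
  have e : (gg a b)⁻¹ * b * gg a b * (b ^ 3)⁻¹ = 1 := by
    refine Eq.trans ?_ hh
    simp [FreeGroup.lift_mk, gg, pow_succ, mul_assoc]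
  exact mul_inv_eq_one.1 e

theorem Rels.s_g (h : Rels a b c d) : ss a b * gg a b * (ss a b)⁻¹ = a ^ 2 * gg a b ^ 3 := by
  have hh := h.word_one (t := [(true, false), (false, true), (true, true), (false, true), (true, true), (true, true), (false, true), (true, false), (false, true), (true, false), (false, false), (true, true), (false, false), (true, true), (false, false), (true, false), (true, false), (false, false), (false, false), (true, true), (false, false), (true, false), (true, false), (false, false), (false, false), (true, true), (false, false), (true, false), (true, false), (false, false), (false, false), (false, false)])
    (l := [([(true, true), (false, true), (false, true)], 3, true),
      ([(true, true)], 0, true),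
      ([(true, true), (false, false), (false, false), (true, true)], 3, false),
      ([(true, true), (true, true)], 3, false),
      ([(true, true), (true, true), (false, false), (false, false), (false, false), (true, true)], 2, false),
      ([(true, true), (true, true), (false, false), (true, true)], 3, false),
      ([(true, true), (true, true), (false, false), (true, true), (false, false), (true, true), (false, false), (true, true), (false, true), (false, true)], 3, true),
      ([(true, true), (true, true), (false, false), (true, true), (false, false), (true, true), (true, true)], 4, false),
      ([(true, true), (true, true), (false, false), (true, true), (false, false), (true, true), (true, true), (false, false), (true, false), (false, false), (true, true), (false, true), (false, true)], 3, true),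
      ([(true, true), (true, true), (false, false), (true, true), (false, false)], 1, true),
      ([(true, true), (true, true), (false, false), (true, true), (false, false), (true, false), (true, false)], 2, false),
      ([(true, true), (true, true), (false, false), (true, true), (false, false), (true, false), (false, true), (false, true)], 3, true),
      ([(true, true), (true, true), (false, false), (true, true), (false, true)], 3, true),
      ([], 1, true),
      ([(true, false), (true, false)], 4, false),
      ([(true, false), (true, false), (false, false), (true, false), (false, false), (true, true), (false, true), (false, true)], 3, true),
      ([(true, false)], 2, false),
      ([(true, false), (false, true), (true, true), (false, true), (true, true), (true, true), (false, true), (true, false), (false, true), (true, false), (false, false), (true, true), (false, false), (true, true), (false, true), (false, true)], 3, true),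
      ([(true, false), (false, true), (true, true), (false, true), (true, true), (true, true), (false, true), (true, false), (false, true), (true, false), (false, false), (true, true), (false, false), (true, true), (false, true)], 2, true),
      ([(true, false), (false, true), (true, true), (false, true), (true, true), (true, true), (false, true), (true, false), (false, true), (true, false), (false, false), (true, true), (false, false), (true, true), (false, false), (true, false), (false, true), (false, true), (true, true)], 3, false),
      ([(true, false), (false, true), (true, true), (false, true), (true, true), (true, true), (false, true), (true, false), (false, true), (true, false), (false, false), (true, true), (false, false), (true, true), (false, false), (true, false), (false, true), (true, false), (false, true)], 3, true),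
      ([(true, false), (false, true), (true, true), (false, true), (true, true), (true, true), (false, true), (true, false), (false, true), (true, false), (false, false), (true, true), (false, false), (true, true), (false, false), (true, false), (false, true), (true, false), (false, true), (true, false)], 3, true),
      ([(true, false), (false, true), (true, true), (false, true), (true, true), (true, true), (false, true), (true, false), (false, true), (true, false), (false, false), (true, true), (false, false), (true, true), (false, false), (true, false), (false, false), (true, false), (false, true), (false, true), (true, true)], 3, false),
      ([(true, false), (false, true), (true, true), (false, true), (true, true), (true, true), (false, true), (true, false), (false, true), (true, false), (false, false), (true, true), (false, false), (true, true), (false, false), (true, false), (false, false), (true, false)], 0, true),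
      ([(true, false), (false, true), (true, true), (false, true), (true, true), (true, true), (false, true), (true, false), (false, true), (true, false), (false, false), (true, true), (false, false), (true, true), (false, false), (true, false), (false, false)], 3, false),
      ([(true, false), (false, true), (true, true), (false, true), (true, true), (true, true), (false, true), (true, false), (false, true), (true, false), (false, false), (true, true), (false, false), (true, true), (false, false), (true, false)], 3, true),
      ([(true, false), (false, true), (true, true), (false, true), (true, true), (true, true), (false, true), (true, false), (false, true), (true, false), (false, false), (true, true), (false, false), (true, true), (false, false), (true, false), (true, false), (false, false), (false, false), (true, true), (false, false), (true, false)], 3, true)]) (by decide +kernel)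
  have e : ss a b * gg a b * (ss a b)⁻¹ * (a ^ 2 * gg a b ^ 3)⁻¹ = 1 := by
    refine Eq.trans ?_ hh
    simp [FreeGroup.lift_mk, gg, ss, pow_succ, mul_assoc]
  exact mul_inv_eq_one.1 e

theorem Rels.g4 (h : Rels a b c d) : gg a b ^ 4 = 1 := by
  have hh := h.word_one (t := [(false, true), (true, true), (true, true), (false, true), (true, false), (false, true), (false, true), (true, true), (true, true), (false, true), (true, false), (false, true), (false, true), (true, true), (true, true), (false, true), (true, false), (false, true), (false, true), (true, true), (true, true), (false, true), (true, false), (false, true)])
    (l := [([(false, true), (true, true)], 3, false),
      ([(false, true), (true, true), (false, false)], 3, true),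
      ([(false, true), (true, true), (false, true)], 3, true),
      ([(false, true), (true, true), (false, true), (true, false)], 0, false),
      ([(false, true), (true, true), (false, true), (true, false), (false, false), (true, false), (false, true), (false, true), (true, true)], 3, false),
      ([(false, true), (true, true), (false, true)], 2, false),
      ([(false, true), (true, true), (true, true), (false, true), (false, true)], 3, true),
      ([(false, true), (true, true), (true, true), (false, true), (true, false), (false, true), (false, true), (true, true)], 3, false),
      ([(false, true), (true, true), (true, true), (false, true), (true, false), (false, true), (false, true), (true, true), (true, true), (false, true), (true, false), (false, true), (false, true), (true, true)], 3, false),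
      ([(false, true), (true, true), (true, true), (false, true), (true, false), (false, true), (false, true), (true, true), (true, true), (false, true), (true, false), (false, true), (false, true), (true, true), (true, true), (false, true), (true, false), (false, true), (false, true), (true, true)], 3, false)]) (by decide +kernel)
  refine Eq.trans ?_ hh
  simp [FreeGroup.lift_mk, gg, pow_succ, mul_assoc]

end H68.Ly
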