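import Cfsg.Agent.H68.Ly.RepWord

/-! Kernel check of some relators. -/

set_option autoImplicit false
set_option maxRecDepth 100000
set_option maxHeartbeats 0
set_option Elab.async false

namespace H68.Ly

theorem check4 : checkRange 4 1 = true := by decide +kernel

theorem check7 : checkRange 7 1 = true := by decide +kernel

theorem check9 : checkRange 9 1 = true := by decide +kernel

theorem check13 : checkRange 13 1 = true := by decide +kernel

theorem check16 : checkRange 16 1 = true := by decide +kernel

theorem check27 : checkRange 27 1 = true := by decide +kernel

theorem check31 : checkRange 31 1 = true := by decide +kernel

theorem check44 : checkRange 44 1 = true := by decide +kernel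

theorem check46 : checkRange 46 1 = true := by decide +kernel

theorem check51 : checkRange 51 1 = true := by decide +kernel

theorem check57 : checkRange 57 1 = true := by decide +kernel

theorem check63 : checkRange 63 1 = true := by decide +kernel

theorem check69 : checkRange 69 1 = true := by decide +kernel

theorem check77 : checkRange 77 1 = true := by decide +kernel

theorem check78 : checkRange 78 1 = true := by decide +kernel

theorem check84 : checkRange 84 1 = true := by decide +kernel

end H68.Ly
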