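import Mathlib

/-! Generated matrices of a 111-dimensional representation over the field with five elements. -/

set_option autoImplicit false
set_option maxRecDepth 100000

namespace H68.Ly

noncomputable def tabAi : List (List ℕ) := [[1,1,0,0,0,0,0,0,0,0,0,0,0,0,0,0,0,0,0,0,0,0,0,0,0,0,0,0,0,0,0,0,0,0,0,0,0,0,0,0,0,0,0,0,0,0,0,0,0,0,0,0,0,0,0,0,0,0,0,0,0,0,0,0,0,0,0,0,0,0,0,0,0,0,0,0,0,0,0,0,0,0,0,0,0,0,0,0,0,0,0,0,0,0,0,0,0,0,0,0,0,0,0,0,0,0,0,0,0,0,0],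
[2,4,0,0,0,0,0,0,0,0,0,0,0,0,0,0,0,0,0,0,0,0,0,0,0,0,0,0,0,0,0,0,0,0,0,0,0,0,0,0,0,0,0,0,0,0,0,0,0,0,0,0,0,0,0,0,0,0,0,0,0,0,0,0,0,0,0,0,0,0,0,0,0,0,0,0,0,0,0,0,0,0,0,0,0,0,0,0,0,0,0,0,0,0,0,0,0,0,0,0,0,0,0,0,0,0,0,0,0,0,0],
[0,0,3,3,4,0,0,0,0,0,0,0,0,0,0,0,0,0,0,0,0,0,0,0,0,0,0,0,0,0,0,0,0,0,0,0,0,0,0,0,0,0,0,0,0,0,0,0,0,0,0,0,0,0,0,0,0,0,0,0,0,0,0,0,0,0,0,0,0,0,0,0,0,0,0,0,0,0,0,0,0,0,0,0,0,0,0,0,0,0,0,0,0,0,0,0,0,0,0,0,0,0,0,0,0,0,0,0,0,0,0],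
[0,0,2,3,2,0,0,0,0,0,0,0,0,0,0,0,0,0,0,0,0,0,0,0,0,0,0,0,0,0,0,0,0,0,0,0,0,0,0,0,0,0,0,0,0,0,0,0,0,0,0,0,0,0,0,0,0,0,0,0,0,0,0,0,0,0,0,0,0,0,0,0,0,0,0,0,0,0,0,0,0,0,0,0,0,0,0,0,0,0,0,0,0,0,0,0,0,0,0,0,0,0,0,0,0,0,0,0,0,0,0],
[0,0,4,3,3,0,0,0,0,0,0,0,0,0,0,0,0,0,0,0,0,0,0,0,0,0,0,0,0,0,0,0,0,0,0,0,0,0,0,0,0,0,0,0,0,0,0,0,0,0,0,0,0,0,0,0,0,0,0,0,0,0,0,0,0,0,0,0,0,0,0,0,0,0,0,0,0,0,0,0,0,0,0,0,0,0,0,0,0,0,0,0,0,0,0,0,0,0,0,0,0,0,0,0,0,0,0,0,0,0,0],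
[0,0,0,0,0,3,3,0,0,0,0,0,0,0,0,0,0,0,0,0,0,0,0,0,0,0,0,0,0,0,0,0,0,0,0,0,0,0,0,0,0,0,0,0,0,0,0,0,0,0,0,0,0,0,0,0,0,0,0,0,0,0,0,0,0,0,0,0,0,0,0,0,0,0,0,0,0,0,0,0,0,0,0,0,0,0,0,0,0,0,0,0,0,0,0,0,0,0,0,0,0,0,0,0,0,0,0,0,0,0,0],
[0,0,0,0,0,1,2,0,0,0,0,0,0,0,0,0,0,0,0,0,0,0,0,0,0,0,0,0,0,0,0,0,0,0,0,0,0,0,0,0,0,0,0,0,0,0,0,0,0,0,0,0,0,0,0,0,0,0,0,0,0,0,0,0,0,0,0,0,0,0,0,0,0,0,0,0,0,0,0,0,0,0,0,0,0,0,0,0,0,0,0,0,0,0,0,0,0,0,0,0,0,0,0,0,0,0,0,0,0,0,0],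
[0,0,0,0,0,0,0,0,1,0,0,0,1,0,3,0,0,0,1,0,2,0,3,0,0,4,0,3,0,0,0,3,0,0,0,0,4,1,0,2,3,1,0,0,0,1,0,0,0,0,4,1,0,0,4,2,3,0,0,0,1,1,1,0,3,3,4,0,3,0,2,2,0,0,2,0,0,2,0,0,0,0,0,1,1,0,0,4,4,0,3,0,0,0,3,2,2,0,1,0,0,2,2,0,0,0,0,0,0,0,0],
[0,0,0,0,0,0,0,3,0,0,0,0,1,0,2,0,0,0,4,0,2,0,3,0,0,2,0,0,0,0,0,0,0,0,0,0,2,1,0,3,2,2,0,0,0,4,0,0,0,0,1,0,2,0,3,0,2,0,3,0,3,3,2,0,3,1,4,0,2,0,2,0,0,0,0,0,0,1,3,0,0,0,1,1,1,0,0,2,3,0,0,0,2,0,3,3,1,0,1,0,3,3,4,0,0,0,0,0,0,0,0],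
[0,0,0,0,0,0,0,0,0,0,3,0,0,0,1,0,0,0,2,0,0,0,2,0,0,2,3,2,0,0,0,3,0,0,0,0,1,2,0,1,2,4,0,0,0,1,0,0,0,0,0,4,3,0,1,0,1,0,3,0,2,1,4,0,3,4,4,0,2,4,0,3,0,0,1,0,0,0,3,0,0,0,2,0,4,0,1,1,0,0,0,2,2,0,2,2,4,0,3,0,1,0,3,0,0,0,0,0,0,0,0],
[0,0,0,0,0,0,0,0,0,4,0,0,4,0,2,0,0,0,4,0,2,0,3,0,0,3,1,2,0,0,0,3,0,0,0,0,4,4,0,3,2,0,0,0,0,0,0,0,0,0,4,0,0,0,0,4,4,0,4,0,4,1,1,0,4,2,4,0,3,3,3,4,0,0,0,0,0,3,3,0,0,0,1,0,2,0,0,1,2,0,3,3,2,0,2,3,2,0,2,0,4,1,2,0,0,0,0,0,0,0,0],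
[0,0,0,0,0,0,0,0,0,0,0,0,0,1,3,0,0,0,1,0,1,0,1,0,0,1,0,2,0,0,0,4,0,0,0,0,0,4,0,0,4,2,0,0,0,3,0,0,0,0,2,4,3,0,0,2,4,0,3,0,0,0,0,0,3,0,0,0,3,3,4,4,0,0,1,0,0,0,3,0,0,0,0,2,1,0,4,4,3,0,1,0,4,0,4,0,3,0,3,0,1,1,0,0,0,0,0,0,0,0,0],
[0,0,0,0,0,0,0,0,0,0,0,0,2,0,1,0,0,1,2,0,1,0,1,0,0,0,0,0,0,0,0,3,0,0,0,0,4,3,0,1,0,4,0,0,0,0,0,0,0,0,0,4,2,0,3,2,3,0,3,0,0,4,0,0,1,2,2,0,3,2,1,2,0,0,0,0,0,0,0,0,0,0,2,1,4,0,4,2,3,0,0,2,3,0,0,3,3,0,4,0,0,2,0,0,0,0,0,0,0,0,0],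
[0,0,0,0,0,0,0,0,0,0,0,0,4,0,2,2,0,0,4,0,3,0,4,0,0,3,4,3,0,0,0,4,0,0,0,0,4,0,0,2,1,3,0,0,0,0,0,0,0,0,1,2,1,0,3,0,2,0,3,0,1,3,3,0,0,1,4,0,3,3,4,0,0,0,3,0,0,3,2,0,0,0,1,0,2,0,0,1,1,0,0,2,0,0,4,1,4,0,2,0,4,3,1,0,0,0,0,0,0,0,0],
[0,0,0,0,0,0,0,0,0,0,0,0,2,0,4,0,0,0,3,0,0,0,4,0,1,4,0,1,0,0,0,3,0,0,0,0,4,0,0,0,4,1,0,0,0,0,0,0,0,0,1,4,2,0,0,0,1,0,0,0,2,3,0,0,2,2,1,0,2,0,4,4,0,0,2,0,0,3,4,0,0,0,2,0,1,0,0,1,1,0,3,4,1,0,1,3,1,0,4,0,3,0,0,0,0,0,0,0,0,0,0],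
[0,0,0,0,0,0,0,0,0,0,0,0,0,0,2,0,0,0,4,0,1,0,2,0,0,3,2,4,1,0,0,0,0,0,0,0,3,0,0,3,1,1,0,0,0,2,0,0,0,0,0,3,4,0,4,2,4,0,4,0,2,1,0,0,0,0,0,0,2,2,4,0,0,0,1,0,0,0,1,0,0,0,0,3,2,0,4,4,3,0,0,0,1,0,1,0,3,0,3,0,3,0,0,0,0,0,0,0,0,0,0],
[0,0,0,0,0,0,0,0,0,0,0,0,3,0,4,0,0,0,3,0,4,0,3,0,0,3,3,2,0,0,0,1,1,0,0,0,3,1,0,4,0,3,0,0,0,0,0,0,0,0,0,3,4,0,3,2,1,0,0,0,3,3,2,0,4,3,2,0,2,3,1,1,0,0,2,0,0,3,0,0,0,0,4,4,1,0,1,4,1,0,4,3,4,0,4,0,4,0,2,0,4,4,4,0,0,0,0,0,0,0,0],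
[0,0,0,0,0,0,0,0,0,0,0,0,0,0,2,0,0,0,4,2,2,0,4,0,0,4,2,3,0,0,0,0,0,0,0,0,4,0,0,0,3,3,0,0,0,1,0,0,0,0,1,2,1,0,0,0,1,0,2,0,1,2,2,0,2,2,1,0,4,0,2,3,0,0,0,0,0,1,2,0,0,0,3,1,2,0,0,3,1,0,0,0,0,0,4,0,1,0,2,0,4,0,4,0,0,0,0,0,0,0,0],
[0,0,0,0,0,0,0,0,0,0,0,0,1,0,1,0,0,0,2,0,0,0,1,0,0,3,1,4,0,0,0,3,0,0,0,0,3,0,1,3,4,4,0,0,0,2,0,0,0,0,3,3,2,0,3,4,2,0,0,0,3,2,2,0,0,4,1,0,0,0,1,3,0,0,0,0,0,0,1,0,0,0,1,2,0,0,0,2,2,0,1,3,0,0,2,0,3,0,1,0,2,2,4,0,0,0,0,0,0,0,0],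
[0,0,0,0,0,0,0,0,0,0,0,0,2,0,3,0,0,0,1,0,0,0,0,0,0,3,3,4,0,0,0,2,0,0,0,0,2,2,0,0,1,2,1,0,0,0,0,0,0,0,1,4,1,0,0,3,0,0,2,0,1,4,3,0,2,0,1,0,0,2,1,2,0,0,4,0,0,2,1,0,0,0,1,4,0,0,3,2,1,0,1,0,0,0,1,2,1,0,2,0,4,3,1,0,0,0,0,0,0,0,0],
[0,0,0,0,0,0,0,0,0,0,0,0,1,0,2,0,0,0,4,0,2,0,3,0,0,0,0,2,0,0,0,1,0,0,0,0,3,3,0,0,4,4,0,0,0,0,1,0,0,0,2,1,4,0,4,1,4,0,0,0,3,1,2,0,2,4,3,0,2,2,4,0,0,0,3,0,0,2,3,0,0,0,2,1,1,0,0,3,0,0,1,1,4,0,1,2,4,0,2,0,3,4,4,0,0,0,0,0,0,0,0],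
[0,0,0,0,0,0,0,0,0,0,0,0,3,0,1,0,0,0,2,0,4,0,4,0,0,2,1,4,0,0,0,0,0,0,0,0,0,0,0,1,2,4,0,0,0,3,0,0,0,1,1,0,3,0,2,1,2,0,1,0,3,1,3,0,4,3,0,0,4,3,0,0,0,0,0,0,0,0,1,0,0,0,2,2,1,0,0,2,3,0,1,3,0,0,1,3,2,0,2,0,2,0,1,0,0,0,0,0,0,0,0],
[0,0,0,0,0,0,0,0,0,0,0,0,4,0,0,0,0,0,0,0,3,0,3,0,0,4,3,0,0,0,0,3,0,0,0,0,4,0,0,3,2,0,0,0,0,3,0,0,0,0,0,0,2,1,0,2,0,0,0,0,0,2,4,0,2,0,4,0,3,0,2,4,0,0,4,0,0,0,0,0,0,0,1,2,1,0,0,0,2,0,2,4,1,0,1,2,0,0,3,0,0,2,3,0,0,0,0,0,0,0,0],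
[0,0,0,0,0,0,0,0,0,0,0,0,3,0,3,0,0,0,1,0,4,0,3,0,0,0,2,2,0,0,0,3,0,0,0,0,0,0,0,4,0,2,0,0,0,4,0,0,0,0,1,4,3,0,0,3,1,1,1,0,4,2,2,0,3,4,1,0,1,3,2,2,0,0,3,0,0,3,3,0,0,0,0,0,3,0,0,0,0,0,0,2,2,0,2,1,1,0,1,0,1,3,4,0,0,0,0,0,0,0,0],
[0,0,0,0,0,0,0,0,0,0,0,0,1,0,3,0,0,0,1,0,2,0,2,0,0,3,1,3,0,2,0,0,0,0,0,0,2,1,0,3,4,1,0,0,0,0,0,0,0,0,4,3,1,0,0,4,4,0,0,0,0,3,4,0,2,0,0,0,1,4,0,3,0,0,2,0,0,4,2,0,0,0,3,3,3,0,2,4,4,0,1,0,4,0,0,3,3,0,2,0,0,0,3,0,0,0,0,0,0,0,0],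
[0,0,0,0,0,0,0,0,0,0,0,0,1,0,2,0,0,0,4,0,2,0,3,0,0,1,1,3,0,0,0,0,0,0,0,0,4,0,0,2,0,3,0,0,0,2,0,0,0,0,4,4,4,0,1,4,4,0,1,0,1,2,0,1,4,1,2,0,3,0,1,1,0,0,3,0,0,3,2,0,0,0,1,0,2,0,0,2,1,0,2,2,4,0,2,0,2,0,3,0,4,0,0,0,0,0,0,0,0,0,0],
[0,0,0,0,0,0,0,0,0,0,0,0,2,0,3,0,0,0,1,0,1,0,0,0,0,1,2,2,0,0,0,1,0,0,0,0,3,0,0,3,0,2,0,0,0,4,0,0,0,0,4,0,0,0,1,1,1,0,3,0,4,1,1,0,0,0,0,1,1,4,1,0,0,0,1,0,0,1,3,0,0,0,0,1,4,0,0,0,0,0,2,4,4,0,4,0,1,0,0,0,1,4,2,0,0,0,0,0,0,0,0],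
[0,0,0,0,0,0,0,0,0,0,0,0,3,0,4,0,0,0,3,0,4,0,2,0,0,3,4,1,0,0,0,1,0,1,0,0,4,0,0,1,0,1,0,0,0,1,0,2,0,0,0,0,2,0,3,3,3,0,0,0,2,3,3,0,4,0,1,0,0,0,2,2,0,0,2,0,0,4,4,0,0,0,2,2,0,0,0,3,1,0,4,1,4,0,0,2,3,0,4,0,3,4,1,0,0,0,0,0,0,0,0],
[0,0,0,0,0,0,0,0,0,0,0,0,3,0,1,0,0,0,2,0,2,0,4,0,0,2,2,4,0,0,0,4,0,0,3,0,0,0,0,3,3,4,0,0,0,0,0,0,0,0,0,3,3,0,3,2,1,0,0,0,3,1,1,0,2,4,4,0,0,2,2,4,0,0,3,0,0,4,1,0,0,0,0,1,1,0,0,1,4,0,1,3,3,0,4,0,1,0,2,0,2,2,2,0,0,0,0,0,0,0,0],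
[0,0,0,0,0,0,0,0,0,0,0,0,4,0,3,0,0,0,1,0,4,0,1,0,0,0,1,2,0,0,0,4,0,0,0,0,4,0,0,3,4,2,0,0,0,2,0,0,0,0,3,2,2,0,0,3,4,0,0,0,4,3,2,0,4,3,0,0,1,3,4,3,0,0,4,1,0,0,3,0,0,0,3,1,1,0,0,0,3,0,1,4,0,0,0,3,1,0,4,0,1,4,4,0,0,0,0,0,0,0,0],
[0,0,0,0,0,0,0,0,0,0,0,0,3,0,0,0,0,0,0,0,0,0,4,0,0,4,2,2,0,0,0,0,0,0,0,0,4,1,0,4,4,4,0,0,0,3,0,0,0,0,0,1,1,0,3,1,2,0,3,0,2,3,2,0,2,2,1,0,4,1,0,2,0,0,1,0,0,0,3,1,0,0,4,4,0,0,0,3,4,0,2,1,0,0,1,3,1,0,0,0,3,0,4,0,0,0,0,0,0,0,0],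
[0,0,0,0,0,0,0,0,0,0,0,0,2,0,2,0,0,0,4,0,0,0,0,0,0,3,1,0,0,0,0,0,0,0,0,0,2,2,0,0,1,0,0,0,0,0,0,0,0,0,3,4,1,0,2,3,1,0,4,0,2,3,2,0,2,3,0,0,1,3,1,3,0,0,3,0,0,4,2,0,0,1,3,2,4,0,3,4,4,0,1,1,1,0,0,0,2,0,3,0,2,0,4,0,0,0,0,0,0,0,0],
[0,0,0,0,0,0,0,0,0,0,0,0,0,0,4,0,0,0,3,0,3,0,0,0,0,2,0,1,0,0,0,3,0,0,0,0,3,0,0,4,2,1,0,0,0,4,0,0,0,0,4,2,3,0,4,0,4,0,1,0,2,4,1,0,2,3,0,0,0,0,1,1,0,0,4,0,0,3,4,0,3,0,1,3,4,0,0,2,4,0,2,2,4,0,1,2,4,0,3,0,3,4,2,0,0,0,0,0,0,0,0],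
[0,0,0,0,0,0,0,0,0,0,0,0,3,0,2,0,0,0,4,0,3,0,2,0,0,1,3,3,0,0,0,4,0,0,0,0,0,0,0,3,4,4,0,0,0,1,0,0,0,0,2,1,0,0,1,1,2,0,4,0,2,2,0,0,4,4,2,0,0,0,1,4,0,0,1,0,0,4,3,0,0,0,3,0,0,1,1,4,4,0,3,0,3,0,1,3,1,0,1,0,3,1,0,0,0,0,0,0,0,0,0],
[0,0,0,0,0,0,0,0,0,0,0,0,4,0,0,0,0,0,0,0,2,0,0,0,0,0,1,0,0,0,0,3,0,0,0,0,2,3,0,3,1,0,0,0,0,2,0,0,0,0,1,0,4,0,3,1,0,0,2,1,1,3,2,0,4,0,0,0,0,4,2,2,0,0,4,0,0,2,0,0,0,0,0,4,1,0,4,0,0,0,1,1,2,0,2,3,2,0,4,0,2,2,4,0,0,0,0,0,0,0,0],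
[0,0,0,0,0,0,0,0,0,0,0,0,0,0,4,0,0,0,3,0,1,0,4,0,0,1,1,1,0,0,0,0,0,0,0,0,2,0,0,0,1,1,0,0,0,4,0,0,0,0,1,2,2,0,2,3,0,0,3,0,2,0,1,0,1,1,0,0,0,4,0,3,0,0,0,0,0,2,4,0,0,0,3,4,2,0,0,2,0,1,3,2,0,0,3,0,4,0,2,0,3,0,2,0,0,0,0,0,0,0,0],
[0,0,0,0,0,0,0,0,0,0,0,0,4,0,4,0,0,0,3,0,0,0,2,0,0,4,1,1,0,0,0,2,0,0,0,0,3,0,0,2,3,1,0,0,0,0,0,0,0,0,2,0,0,0,3,4,4,0,3,0,2,2,0,0,1,2,4,0,3,1,0,3,0,0,4,0,0,2,4,0,0,0,4,4,4,0,0,1,0,0,0,3,0,1,2,3,1,0,1,0,3,3,0,0,0,0,0,0,0,0,0],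
[0,0,0,0,0,0,0,0,0,0,0,0,2,0,1,0,0,0,2,0,2,0,2,0,0,2,3,4,0,0,0,0,0,0,0,0,3,0,0,4,2,4,0,0,0,0,0,0,0,0,2,3,0,0,4,3,3,0,2,0,3,0,0,0,2,3,2,0,2,2,1,0,0,0,0,0,0,0,1,0,0,0,1,4,4,0,0,3,0,0,4,0,4,0,2,1,0,1,2,0,2,0,0,0,0,0,0,0,0,0,0],
[0,0,0,0,0,0,0,0,0,0,0,0,4,0,3,0,0,0,1,0,4,0,1,0,0,1,2,0,0,0,0,3,0,0,0,0,3,1,0,2,0,1,0,2,0,2,0,0,0,0,1,3,4,0,4,0,2,0,0,0,0,2,0,0,0,3,2,0,3,2,2,1,0,0,0,0,0,2,0,0,0,0,4,4,4,0,0,2,2,0,2,4,3,0,0,2,0,0,1,0,2,2,0,0,0,0,0,0,0,0,0],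
[0,0,0,0,0,0,0,0,0,0,0,0,3,0,1,0,0,0,2,0,0,0,1,0,0,4,2,4,0,0,0,0,0,0,0,0,0,0,0,1,2,4,0,0,0,4,0,0,0,0,4,1,2,0,3,4,2,0,1,0,3,0,0,0,3,1,2,0,1,0,4,1,0,0,0,0,0,4,1,0,0,0,3,4,4,0,0,2,0,0,2,0,2,0,1,0,3,0,0,0,2,0,0,1,0,0,0,0,0,0,0],
[0,0,0,0,0,0,0,0,0,0,0,0,4,0,4,0,0,0,3,0,3,0,2,0,0,3,2,1,0,0,0,3,0,0,0,0,0,0,0,3,4,1,0,0,0,0,0,0,0,0,1,3,1,0,4,4,2,0,3,0,2,1,0,0,1,1,1,0,0,3,0,0,0,0,3,0,0,2,4,0,0,0,4,1,0,0,0,3,4,0,1,1,4,0,2,4,0,0,2,0,3,2,0,0,0,0,0,0,0,0,0],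
[0,0,0,0,0,0,0,0,0,0,0,0,2,0,1,0,0,0,2,0,0,0,3,0,0,1,4,4,0,0,0,1,0,2,0,0,0,0,0,2,2,4,0,0,0,4,0,1,0,0,1,0,1,0,1,1,4,0,0,0,3,4,0,0,0,3,0,0,1,3,2,4,0,0,2,0,0,2,1,0,0,0,4,2,2,0,0,0,4,0,0,1,4,0,2,1,0,0,2,0,2,4,0,0,0,0,0,0,0,0,0],
[0,0,0,0,0,0,0,0,0,0,0,0,0,0,3,0,0,0,1,0,4,0,4,0,0,3,2,2,0,0,0,1,0,0,0,0,1,0,0,2,0,2,0,0,0,2,0,0,3,0,4,1,0,0,4,3,3,0,4,0,4,2,4,0,4,4,0,0,3,4,3,4,0,0,1,0,0,2,3,0,0,0,2,4,0,0,0,2,3,0,2,3,2,0,0,4,4,0,0,0,1,0,3,0,0,0,0,0,0,0,0],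
[0,0,0,0,0,0,0,0,0,0,0,0,3,0,1,0,0,0,2,0,0,0,2,0,0,1,1,4,0,0,0,3,0,0,0,0,2,0,0,2,4,4,0,0,0,1,0,0,0,0,4,2,2,0,1,1,3,0,4,0,3,2,4,0,4,1,3,0,4,0,0,0,0,0,3,0,0,2,1,0,0,0,2,0,3,0,0,0,2,0,3,1,2,0,4,3,0,0,1,0,2,2,3,0,0,0,0,0,0,0,0],
[0,0,0,0,0,0,0,0,0,0,0,0,0,0,0,0,0,0,0,0,1,0,1,0,0,2,0,2,0,0,0,0,0,0,0,0,2,3,0,2,4,1,0,0,0,4,0,0,0,0,4,3,1,0,3,1,1,0,1,0,1,0,1,0,1,1,4,0,3,3,3,3,0,0,3,0,0,3,3,0,0,0,3,1,0,0,0,2,0,0,3,4,3,0,2,0,4,0,2,0,3,0,2,0,0,0,0,0,0,0,0],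
[0,0,0,0,0,0,0,0,0,0,0,0,3,0,0,0,0,0,0,0,3,0,1,0,0,0,2,3,0,0,0,2,0,0,0,0,2,1,0,2,3,2,0,0,0,2,0,0,0,0,1,2,0,0,4,1,4,0,3,0,1,3,2,0,2,2,0,0,1,4,3,3,0,0,2,0,0,4,2,0,0,0,4,2,3,0,1,0,3,0,2,3,3,0,2,0,3,0,1,0,2,3,4,0,0,0,0,0,0,0,0],
[0,0,0,0,0,0,0,0,0,0,0,0,2,0,3,0,0,0,1,0,4,0,4,0,0,0,2,2,0,0,0,3,0,0,0,0,3,0,0,0,2,2,0,0,0,1,0,0,0,0,0,1,4,0,2,1,3,0,4,0,4,1,3,0,4,3,0,0,4,2,0,0,0,0,2,0,0,0,3,0,0,0,4,1,1,0,0,0,4,0,4,1,4,0,3,4,1,0,1,0,1,2,1,0,0,0,0,0,0,0,0],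
[0,0,0,0,0,0,0,0,0,0,0,0,2,0,1,0,0,0,2,0,0,0,1,0,0,1,0,4,0,0,0,2,0,0,0,0,3,3,0,3,1,0,0,0,0,4,0,0,0,0,4,2,2,0,4,2,3,0,2,0,4,2,0,0,3,1,2,0,0,0,2,3,0,0,4,0,0,2,4,0,0,0,2,4,4,0,4,3,0,0,2,4,0,0,2,4,1,0,4,0,2,3,0,0,0,0,0,0,0,0,0],
[0,0,0,0,0,0,0,0,0,0,0,0,1,0,4,0,0,0,3,0,3,0,1,0,0,4,0,3,0,0,0,3,0,0,0,0,2,1,0,4,1,0,0,0,0,0,0,0,0,0,2,0,0,0,0,0,4,0,1,0,4,4,2,0,1,2,2,0,2,4,4,4,0,0,4,0,0,3,2,0,0,0,2,0,3,0,4,2,3,0,3,1,1,0,4,4,1,0,3,1,1,2,4,0,0,0,0,0,0,0,0],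
[0,0,0,0,0,0,0,0,0,0,0,0,4,0,3,0,0,0,1,0,1,0,3,0,0,4,2,2,0,0,0,3,0,0,0,0,2,0,0,2,4,2,0,0,0,1,0,0,0,0,4,4,3,0,1,4,0,0,2,0,4,4,0,0,1,0,3,0,0,4,4,4,0,2,1,0,0,0,3,0,0,0,4,4,2,0,0,0,3,0,2,2,2,0,2,1,1,0,1,0,1,2,0,0,0,0,0,0,0,0,0],
[0,0,0,0,0,0,0,0,0,0,0,0,1,0,4,0,0,0,3,0,1,4,2,0,0,1,3,1,0,0,0,0,0,0,0,3,3,0,0,0,4,1,0,0,0,3,0,0,0,0,4,4,1,0,0,3,1,0,3,0,2,2,4,0,0,2,0,0,4,2,1,4,0,0,3,0,0,2,4,0,0,0,3,2,0,0,0,0,1,0,1,2,2,0,1,0,2,0,0,0,3,0,3,0,0,0,0,0,0,0,0],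
[0,0,0,0,0,0,0,0,0,0,0,0,3,0,0,0,0,0,0,0,1,0,4,0,0,2,0,0,0,0,0,3,0,0,0,0,3,0,0,0,3,0,0,0,0,3,0,0,0,0,2,3,4,0,4,2,2,0,1,0,0,4,0,0,4,0,3,0,1,3,4,2,0,0,2,0,0,4,0,0,0,0,3,0,0,0,0,1,3,0,4,4,2,0,1,2,1,0,3,0,0,2,0,0,0,0,0,0,0,0,0],
[0,0,0,0,0,0,0,0,0,0,0,0,2,0,3,0,0,0,1,0,0,0,0,0,0,4,0,2,0,0,0,3,0,0,0,0,0,0,0,1,4,2,0,0,0,4,0,0,0,0,1,3,1,0,2,4,2,0,0,0,4,0,3,0,1,0,1,0,3,0,3,2,0,0,3,0,0,2,3,0,0,0,1,2,4,0,0,2,1,0,1,3,1,0,4,1,1,0,0,0,1,2,1,0,0,0,0,0,0,0,0],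
[0,0,0,0,0,0,0,0,0,0,0,0,2,0,1,0,0,0,2,0,2,0,4,0,0,3,4,4,0,0,0,2,0,0,0,0,4,0,0,2,4,4,0,0,0,0,0,0,0,0,1,3,4,0,2,1,3,0,2,0,3,3,1,0,2,4,1,0,3,4,2,3,0,0,1,0,0,2,1,0,0,0,0,1,4,0,0,4,3,0,4,4,4,0,2,0,4,0,2,0,2,3,2,0,0,0,0,0,0,0,0],
[0,0,0,0,0,0,0,0,0,0,0,0,2,0,1,0,0,0,2,0,2,0,4,0,0,3,3,4,0,0,0,2,0,0,0,0,3,0,0,1,3,4,0,0,0,3,0,0,0,0,4,4,2,0,1,4,2,0,2,0,3,4,0,0,1,2,1,0,0,2,4,0,0,0,0,0,0,3,1,0,0,0,2,2,3,0,0,1,1,0,0,4,1,0,1,2,3,0,3,0,2,3,0,0,0,0,0,0,0,0,0],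
[0,0,0,0,0,0,0,0,0,0,0,0,1,0,3,0,0,0,1,0,3,0,1,0,0,0,1,2,0,0,0,1,0,0,0,0,0,0,0,4,0,2,0,0,0,4,0,0,0,0,2,0,1,0,3,1,4,0,4,0,4,1,3,0,1,3,1,0,4,2,1,1,0,0,2,0,0,4,3,0,0,0,0,3,4,0,0,0,0,0,4,0,2,0,4,0,4,0,1,0,1,4,1,0,0,0,0,0,0,0,0],
[0,0,0,0,0,0,0,0,0,0,0,0,3,0,3,0,0,0,1,0,3,0,4,0,0,1,2,2,0,0,0,1,0,0,0,0,2,0,0,1,1,2,0,0,0,4,0,0,0,0,1,2,4,0,1,3,4,0,3,0,4,4,0,0,2,3,0,0,4,2,3,0,0,0,2,0,0,3,3,0,0,0,3,0,0,0,0,4,4,0,3,4,3,0,3,1,1,0,2,0,1,4,0,0,0,0,0,0,0,0,0],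
[0,0,0,0,0,0,0,0,0,0,0,0,2,0,3,0,0,0,1,0,3,0,2,0,0,3,3,0,0,0,0,3,0,0,0,0,1,4,0,3,3,1,0,0,0,0,0,0,0,0,1,1,1,0,2,0,0,0,3,0,1,3,3,0,2,3,2,0,3,4,4,4,0,0,1,0,0,4,3,0,0,0,1,1,2,0,0,4,0,0,4,1,4,0,1,1,3,0,0,0,1,2,1,0,0,0,0,0,0,0,0],
[0,0,0,0,0,0,0,0,0,0,0,0,1,0,4,0,0,0,3,0,4,0,2,0,0,3,4,1,0,0,0,0,0,0,0,0,3,0,0,0,3,1,0,0,0,1,0,0,0,0,2,2,2,0,2,4,3,0,0,0,2,4,0,0,2,0,4,0,2,3,0,2,0,0,4,0,0,0,4,0,0,0,1,2,0,0,0,0,2,0,4,4,1,0,3,3,4,0,0,0,3,0,0,0,0,0,0,0,0,0,0],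
[0,0,0,0,0,0,0,0,0,0,0,0,3,0,1,0,0,0,2,0,2,0,3,0,0,4,4,4,0,0,3,4,0,0,0,0,0,0,0,1,2,4,0,0,0,4,0,0,0,0,2,2,4,0,2,4,3,0,0,0,3,0,4,0,0,3,4,0,1,2,2,0,0,0,0,0,0,1,1,0,0,0,2,1,3,0,0,0,4,0,0,0,1,0,0,4,0,0,2,0,2,4,3,0,0,0,0,0,0,0,0],
[0,0,0,0,0,0,0,0,0,0,0,0,3,0,0,0,0,0,0,0,1,0,2,0,0,2,2,0,0,0,0,4,0,0,0,0,1,0,0,0,1,0,0,0,0,3,0,0,0,0,2,3,2,0,3,1,2,0,2,0,0,0,2,0,4,3,0,0,0,1,2,2,0,0,1,0,0,2,0,0,0,0,3,2,0,0,0,0,4,0,3,0,4,0,1,2,4,0,2,0,0,2,4,0,0,0,0,0,0,0,0],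
[0,0,0,0,0,0,0,0,0,0,0,0,3,0,1,0,0,0,2,0,1,0,3,0,0,4,3,3,0,0,0,0,0,0,0,0,1,4,0,2,4,2,0,0,0,4,0,0,0,0,3,0,0,0,4,4,4,0,1,0,0,2,4,0,2,4,1,0,1,1,1,2,0,0,3,0,0,3,2,0,0,0,0,3,4,0,0,3,1,0,1,3,1,0,3,0,0,0,2,0,0,0,3,0,0,0,0,0,0,0,0],
[0,0,0,0,0,0,0,0,0,0,0,0,4,0,2,0,0,0,4,0,4,0,4,0,0,1,3,3,0,0,0,2,0,0,0,0,1,4,0,3,1,3,0,0,0,2,0,0,0,0,1,2,3,0,3,1,3,0,2,0,3,4,2,0,0,1,4,0,1,1,1,0,0,0,1,0,0,0,3,0,0,0,0,2,0,0,4,3,1,0,4,4,3,0,2,4,0,0,3,0,2,3,4,0,0,0,0,0,0,0,0],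
[0,0,0,0,0,0,0,0,0,0,0,0,3,0,1,0,0,0,2,0,4,0,0,0,0,2,3,4,0,0,0,4,0,0,0,0,1,0,0,3,2,4,0,0,0,0,0,0,0,0,1,1,1,0,4,2,0,0,3,0,3,2,1,0,3,4,2,0,0,1,3,0,0,0,2,0,2,2,1,0,0,0,1,3,2,0,0,1,4,0,2,4,2,0,2,3,2,0,0,0,2,1,2,0,0,0,0,0,0,0,0],
[0,0,0,0,0,0,0,0,0,0,0,0,1,0,4,0,0,0,3,0,0,0,1,0,0,4,0,1,0,0,0,1,0,0,0,0,2,0,0,3,3,1,0,0,0,3,0,0,0,0,2,4,1,0,1,3,3,0,4,0,2,3,3,0,1,4,2,0,4,3,3,4,0,0,2,0,0,1,4,0,0,0,0,0,2,0,0,3,1,0,4,2,2,0,4,1,3,0,3,0,3,4,1,0,0,0,0,0,0,0,0],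
[0,0,0,0,0,0,0,0,0,0,0,0,4,0,0,0,0,0,0,0,0,0,1,0,0,3,2,0,0,0,0,2,0,0,0,0,2,0,0,2,0,0,0,0,0,2,0,0,0,0,3,3,0,0,3,0,4,0,4,0,0,1,1,0,1,2,3,0,1,0,0,4,0,0,1,0,0,4,0,0,0,0,2,2,2,0,0,4,2,0,3,0,3,0,2,1,0,0,3,0,0,3,2,0,0,0,0,0,0,0,0],
[0,0,0,0,0,0,0,0,0,0,0,0,3,0,3,0,0,0,1,0,2,0,3,0,0,3,0,2,0,0,0,4,0,0,0,0,1,0,0,0,2,2,0,0,0,3,0,0,0,0,4,4,3,0,1,2,3,0,0,0,4,4,2,0,3,0,4,0,3,4,1,3,0,0,4,0,0,1,3,0,0,0,4,0,4,0,0,1,0,0,4,0,3,0,3,4,3,0,1,0,1,1,4,0,0,0,0,0,0,0,0],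
[0,0,0,0,0,0,0,0,0,0,0,0,1,0,2,0,0,0,4,0,3,0,4,0,0,4,2,3,0,0,0,3,0,0,0,0,1,0,0,4,1,3,0,0,0,2,0,0,0,0,3,2,1,0,0,3,2,0,4,0,1,3,3,0,4,1,1,0,1,1,4,4,0,0,4,0,0,4,2,0,0,0,0,0,4,0,0,0,0,0,0,0,4,0,1,4,4,0,2,0,4,2,1,0,0,0,0,0,0,0,0],
[0,0,0,0,0,0,0,0,0,0,0,0,2,0,2,0,0,0,4,0,2,0,0,0,0,2,1,3,0,0,0,2,0,0,0,0,0,0,0,0,1,3,0,0,0,4,0,0,0,0,4,2,2,0,4,2,0,0,2,0,1,1,3,0,3,0,1,0,0,1,3,2,0,0,0,0,0,1,2,0,0,0,1,0,4,0,0,0,2,0,1,1,4,0,2,4,0,0,3,0,4,3,1,0,0,0,0,0,0,0,0],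
[0,0,0,0,0,0,0,0,0,0,0,0,2,0,1,0,0,0,2,0,3,0,0,0,0,3,4,4,0,0,0,3,0,0,0,0,4,0,0,3,2,4,0,0,0,2,0,0,0,0,4,4,4,0,4,1,2,0,4,0,3,2,4,0,1,0,3,0,3,1,0,0,0,0,4,0,0,4,1,0,0,0,4,0,3,0,0,2,2,0,4,2,2,0,3,4,1,0,1,0,2,2,3,0,0,0,0,0,0,0,0],
[0,0,0,0,0,0,0,0,0,0,0,0,4,0,0,0,0,0,0,0,1,0,2,0,0,4,4,0,0,0,0,4,0,0,0,0,2,0,0,0,0,0,0,0,0,1,0,0,0,0,4,3,0,0,2,2,3,0,2,0,0,2,3,0,4,3,1,0,4,1,3,4,0,0,3,0,0,2,0,0,0,0,3,4,4,0,0,4,4,0,1,1,2,0,3,1,2,0,4,0,0,1,1,0,0,0,0,0,0,0,0],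
[0,0,0,0,0,0,0,0,0,0,0,0,3,0,0,0,0,0,0,0,3,0,3,0,0,0,2,0,0,0,0,2,0,0,0,0,1,0,0,1,4,0,0,0,0,2,0,0,0,0,2,0,4,0,4,3,3,0,4,0,0,3,2,0,4,3,1,0,2,1,2,4,0,0,1,0,0,2,0,0,0,0,4,1,4,0,0,0,3,0,1,2,0,0,0,0,3,0,2,0,0,3,4,0,0,0,0,0,0,0,0],
[0,0,0,0,0,0,0,0,0,0,0,0,4,0,0,0,0,0,0,0,4,0,4,0,0,1,4,0,0,0,0,3,0,0,0,0,4,0,0,0,4,0,0,0,0,3,0,0,0,0,3,2,1,0,3,3,1,0,4,0,0,1,0,0,0,0,3,0,3,2,0,3,0,0,4,0,0,2,0,0,0,0,3,2,2,0,0,1,3,0,0,3,1,0,2,4,0,0,4,0,0,4,0,0,0,0,0,0,0,0,0],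
[0,0,0,0,0,0,0,0,0,0,0,0,1,0,1,0,0,0,2,0,0,0,2,0,0,1,1,4,0,0,0,4,0,0,0,0,0,0,0,2,0,4,0,0,0,4,0,0,0,0,3,3,0,0,3,3,3,0,2,0,3,4,0,0,2,3,2,0,1,3,1,0,0,0,3,0,0,4,1,0,0,0,1,2,4,0,0,4,0,0,2,4,2,0,2,4,4,0,3,0,2,1,0,0,0,0,0,0,0,0,0],
[0,0,0,0,0,0,0,0,0,0,0,0,1,0,3,0,0,0,1,0,0,0,0,0,0,4,2,2,0,0,0,4,0,0,0,0,4,0,0,3,0,2,0,0,0,4,0,0,0,0,2,2,3,0,3,4,3,0,3,0,4,4,0,0,4,1,2,0,2,3,2,3,0,0,4,0,0,3,3,0,0,0,1,1,2,0,0,4,0,0,0,3,1,0,2,1,0,0,2,0,1,1,0,0,0,0,0,0,0,0,0],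
[0,0,0,0,0,0,0,0,0,0,0,0,1,0,4,0,0,0,3,0,2,0,4,0,0,1,2,1,0,0,0,2,0,0,0,0,1,4,0,4,2,2,0,0,0,2,0,0,0,0,1,0,0,0,4,4,1,0,0,0,1,3,1,0,3,0,0,0,3,4,1,1,3,0,4,0,0,2,4,0,0,0,4,3,0,0,2,0,3,0,0,4,4,0,1,2,3,0,0,0,2,3,2,0,0,0,0,0,0,0,0],
[0,0,0,0,0,0,0,0,0,0,0,0,2,0,1,0,0,0,2,0,0,0,3,0,0,4,2,4,0,0,0,4,0,0,0,0,4,0,0,3,2,4,0,0,0,0,0,0,0,0,3,0,2,0,1,0,1,0,1,0,3,0,4,0,3,4,3,0,0,3,2,4,0,0,4,0,0,1,1,0,0,0,4,3,3,0,0,0,3,0,0,3,4,0,0,4,2,0,2,0,2,1,3,0,0,0,0,0,0,0,0],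
[0,0,0,0,0,0,0,0,0,0,0,0,4,0,4,0,0,0,3,0,0,0,1,0,0,1,1,1,0,0,0,1,0,0,0,0,3,0,0,2,2,1,0,0,0,3,0,0,0,0,3,0,3,0,3,4,4,0,3,0,2,0,1,0,4,2,1,0,4,1,3,0,0,0,4,0,0,3,4,0,0,0,2,0,0,0,0,4,2,0,4,3,0,0,3,0,1,0,1,0,3,4,2,0,0,0,0,0,0,0,0],
[0,0,0,0,0,0,0,0,0,0,0,0,1,0,4,0,0,0,3,0,1,0,3,0,0,2,3,1,0,0,0,3,0,0,0,0,3,0,0,2,2,1,0,0,0,3,0,0,0,0,3,2,0,0,2,2,0,0,4,0,2,4,0,0,0,4,1,0,1,1,0,2,0,0,4,0,0,2,4,0,0,0,2,4,4,0,0,2,3,0,2,2,1,0,4,3,1,0,3,0,3,2,0,0,0,0,0,0,0,0,0],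
[0,0,0,0,0,0,0,0,0,0,0,2,1,0,2,0,0,0,4,0,1,0,2,0,0,4,3,3,0,0,0,3,0,0,0,0,0,0,0,1,4,3,0,0,0,2,0,0,0,0,0,1,2,0,0,2,0,0,2,0,1,4,4,0,3,0,3,0,2,3,1,0,0,0,0,0,0,3,2,0,0,0,1,0,4,0,0,3,2,0,2,3,3,0,4,3,2,0,3,0,4,4,3,0,0,0,0,0,0,0,0],
[0,0,0,0,0,0,0,0,0,0,0,0,4,0,0,0,0,0,0,0,3,0,1,2,0,3,3,2,0,0,0,0,0,0,0,0,0,4,0,3,2,0,0,0,0,3,0,0,0,0,4,4,1,0,2,2,0,0,4,0,4,3,0,0,0,0,4,0,0,4,2,3,0,0,2,0,0,4,0,0,0,0,4,4,3,0,3,3,4,0,1,0,1,0,2,4,2,0,1,0,4,0,0,0,0,0,0,0,0,0,0],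
[0,0,0,0,0,0,0,0,0,0,0,0,0,0,4,0,3,0,3,0,4,0,0,0,0,1,2,1,0,0,0,3,0,0,0,0,0,0,0,3,4,1,0,0,0,1,0,0,0,0,2,4,3,0,1,4,4,0,4,0,2,3,1,0,1,2,0,0,1,2,4,3,0,0,1,0,0,1,4,0,0,0,2,4,2,0,0,4,1,0,3,0,3,0,2,2,4,0,2,0,3,4,2,0,0,0,0,0,0,0,0],
[0,0,0,0,0,0,0,0,0,0,0,0,4,0,3,0,0,0,1,0,1,0,1,0,0,0,4,1,0,0,0,1,0,0,0,0,0,4,0,2,2,0,0,0,0,2,0,0,0,0,4,0,3,0,2,0,1,0,0,0,4,0,2,0,4,1,1,0,3,3,3,0,0,0,3,0,0,4,4,0,0,0,0,4,3,0,0,1,2,0,3,0,1,0,4,4,2,0,1,0,0,4,4,0,0,0,0,0,0,0,0],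
[0,0,0,0,0,0,0,0,0,0,0,0,1,0,0,0,0,0,0,0,4,0,1,0,0,4,4,0,0,0,0,2,0,0,0,0,0,0,0,3,1,0,0,0,0,0,0,0,0,0,0,1,1,0,0,2,3,0,2,0,0,3,3,0,0,3,2,0,3,3,2,1,0,0,1,0,0,4,0,0,0,0,0,2,3,0,0,4,3,0,0,0,3,0,1,3,3,0,2,0,0,3,1,0,0,0,0,0,0,0,0],
[0,0,0,0,0,0,0,0,0,0,0,0,2,0,3,0,0,0,1,0,1,0,4,0,0,1,2,2,0,0,0,0,0,0,0,0,0,0,0,3,3,2,0,0,0,2,0,0,0,0,1,0,1,0,1,2,4,0,4,0,4,4,2,0,4,3,1,0,4,2,4,2,0,0,3,0,0,0,3,0,0,0,3,2,4,0,0,3,2,0,4,0,4,0,0,4,4,0,2,0,1,0,4,0,0,0,0,0,0,0,0],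
[0,0,0,0,0,0,0,0,0,0,0,0,3,0,0,0,0,0,0,0,1,0,1,0,0,1,4,0,0,0,0,4,0,0,0,0,1,0,0,2,4,0,0,0,0,3,0,0,0,0,3,3,0,0,2,0,3,0,1,0,0,4,1,0,4,1,4,0,0,3,3,0,0,0,4,0,0,4,0,0,0,0,3,2,4,0,0,0,0,0,3,0,3,0,0,3,4,0,2,0,0,1,0,0,0,0,0,0,0,0,0],
[0,0,0,0,0,0,0,0,0,0,0,0,4,0,1,0,0,0,2,0,2,0,1,0,0,1,4,4,0,0,0,3,0,0,0,0,1,0,0,2,0,4,0,0,0,4,0,0,0,0,2,2,3,0,4,2,1,0,2,0,3,2,2,0,2,4,2,0,3,1,1,0,0,0,3,0,0,1,1,0,0,0,2,2,4,0,0,0,2,0,4,0,2,0,1,2,0,0,1,0,2,2,4,0,0,0,0,0,0,0,0],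
[0,0,0,0,0,0,0,0,0,0,0,0,4,0,4,0,0,0,3,0,4,0,4,0,0,1,1,0,0,0,0,3,0,0,0,0,0,0,0,0,2,0,0,0,0,4,0,0,0,0,4,2,3,0,0,3,4,0,0,0,3,1,1,0,3,0,4,0,1,2,1,3,0,0,0,0,0,0,0,0,0,0,2,2,1,0,2,0,4,0,1,2,2,0,2,2,3,0,1,0,2,2,2,0,0,0,0,0,0,0,0],
[0,0,0,0,0,0,0,0,0,0,0,0,4,0,4,0,0,0,1,0,0,0,2,0,0,4,4,1,0,0,0,3,0,0,0,0,2,2,0,4,3,1,0,0,0,2,0,0,0,0,1,2,1,0,1,4,3,0,1,0,3,4,4,0,4,0,2,0,4,2,0,1,0,0,1,0,0,0,4,0,0,0,1,2,0,0,1,3,3,0,4,1,3,0,4,1,3,0,1,0,1,2,3,0,0,0,0,0,0,0,0],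
[0,0,0,0,0,0,0,0,0,0,0,0,2,0,0,0,0,0,0,0,1,0,4,0,0,1,3,0,0,0,0,1,0,0,0,0,0,0,0,0,3,0,0,0,0,4,0,0,0,0,1,1,3,0,3,4,1,0,3,0,0,1,1,0,1,1,3,0,0,4,4,2,0,0,2,0,0,2,0,0,0,0,0,3,4,0,0,0,0,0,3,4,0,0,4,4,4,0,1,0,0,4,2,0,0,0,0,0,0,0,0],
[0,0,0,0,0,0,0,0,0,0,0,0,2,0,4,0,0,0,3,0,1,0,2,0,0,3,2,1,0,0,0,0,0,0,0,2,3,0,0,2,1,1,0,0,0,2,0,0,0,0,1,4,4,0,4,1,1,0,3,0,2,4,2,0,3,0,0,0,3,1,3,3,0,0,4,0,0,4,4,0,0,0,3,4,4,0,0,3,2,0,0,3,0,0,2,2,2,0,3,0,3,0,4,0,0,0,0,0,0,0,0],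
[0,0,0,0,0,0,0,0,0,0,0,0,1,0,2,0,0,0,4,0,0,0,2,0,0,0,0,3,0,0,0,4,0,0,0,0,4,0,0,2,1,3,0,0,0,1,0,0,0,0,3,0,0,0,4,1,2,0,4,0,1,3,1,0,0,2,3,0,1,3,3,0,0,0,0,0,0,4,2,0,0,0,4,2,3,0,0,2,2,0,0,2,1,0,3,3,1,0,4,0,4,1,2,0,0,0,0,0,0,0,0],
[0,0,0,0,0,0,0,0,0,0,0,0,2,0,3,0,0,0,1,0,0,0,4,0,0,2,1,2,0,0,0,0,0,0,0,0,2,0,0,2,0,2,0,0,0,3,0,0,0,0,1,0,4,0,2,2,3,0,4,0,4,4,1,0,2,2,2,0,1,4,3,0,0,0,4,0,0,1,3,0,0,0,0,2,3,0,0,1,2,0,0,1,3,0,1,4,2,0,2,0,1,0,2,0,0,0,0,0,0,0,0],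
[0,0,0,0,0,0,0,0,0,0,0,0,4,0,2,0,0,0,4,0,3,0,2,0,0,3,2,3,0,0,0,0,0,0,0,0,2,0,0,0,3,3,0,0,0,2,0,0,0,0,4,3,0,0,3,0,3,0,2,0,1,1,2,0,1,0,1,0,0,3,2,2,0,0,3,0,0,4,2,0,0,0,0,0,1,0,0,4,3,0,4,2,2,0,2,2,3,0,3,0,4,0,4,0,0,0,0,0,0,0,0],
[0,0,0,0,0,0,0,0,0,0,0,0,1,0,3,0,0,0,1,0,3,0,1,0,0,3,3,2,0,0,0,3,0,0,0,0,1,0,0,1,4,2,0,0,0,4,0,0,0,0,0,3,2,0,3,0,3,0,4,0,4,2,4,0,1,1,1,0,4,1,2,3,0,0,0,0,0,3,3,0,0,0,3,2,3,0,0,3,2,0,2,0,4,0,0,3,1,0,1,0,1,2,3,0,0,0,0,0,0,0,0],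
[0,0,0,0,0,0,0,0,0,0,0,0,4,0,3,0,0,0,1,0,4,0,2,0,0,0,3,2,0,0,0,4,0,0,0,0,3,0,0,0,3,2,0,0,0,3,0,0,0,0,4,1,1,0,1,0,0,0,3,0,4,2,1,0,2,0,3,0,1,3,0,2,0,0,1,0,0,4,3,0,0,0,2,3,1,0,0,0,4,0,2,1,3,0,4,3,4,0,2,0,1,1,2,0,0,0,0,0,0,0,0],
[0,0,0,0,0,0,0,0,0,0,0,0,1,0,2,0,0,0,4,0,4,0,4,0,0,1,3,3,0,0,0,1,0,0,0,0,1,0,0,4,4,3,0,0,0,4,0,0,0,0,3,4,1,0,3,1,1,0,4,0,1,3,2,0,3,0,3,0,1,2,1,4,0,0,2,0,0,4,2,0,0,0,2,4,4,0,0,1,1,0,4,4,0,0,2,1,0,0,0,0,4,4,4,0,0,0,0,0,0,0,0],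
[0,0,0,0,0,0,0,0,0,0,0,0,0,0,3,0,0,0,1,0,0,0,2,0,0,1,0,1,0,0,0,3,0,0,0,0,0,4,0,4,3,1,0,0,0,3,0,0,0,0,3,3,3,0,2,3,0,0,0,0,1,0,3,0,1,4,3,0,2,3,1,0,0,0,2,0,0,2,4,0,0,0,4,4,0,0,0,4,1,0,0,0,3,0,2,2,3,0,0,0,1,2,1,0,0,0,0,0,0,0,0],
[0,0,0,0,0,0,0,0,0,0,0,0,1,0,1,0,0,0,2,0,1,0,1,0,0,1,0,4,0,0,0,1,0,0,0,0,0,0,0,3,3,4,0,0,0,1,0,0,0,0,1,4,3,0,1,0,1,0,0,0,3,1,1,0,1,4,3,0,4,3,4,3,0,0,0,0,0,2,1,0,0,0,4,3,0,0,0,1,0,0,2,3,3,0,3,0,3,0,3,0,2,4,2,0,0,0,0,0,0,0,0],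
[0,0,0,0,0,0,0,0,0,0,0,0,1,0,4,0,0,0,3,0,2,0,4,0,0,2,0,1,0,0,0,3,0,0,0,0,2,0,0,3,3,1,0,0,3,0,0,0,0,0,0,4,0,0,4,0,4,0,2,0,2,1,1,0,1,2,1,0,3,3,4,4,0,0,2,0,0,2,4,0,0,0,2,0,3,0,0,3,4,0,3,0,1,0,1,3,4,0,4,0,3,2,2,0,0,0,0,0,0,0,0],
[0,0,0,0,0,0,0,0,0,0,0,0,0,0,0,0,0,0,0,0,1,0,1,0,0,4,0,0,0,0,0,4,0,0,0,0,0,0,0,4,1,0,0,0,0,2,0,0,0,0,3,1,0,0,1,3,2,0,2,0,0,4,0,0,4,4,0,0,4,4,4,1,0,0,0,0,0,1,0,0,0,0,3,2,0,0,0,3,2,0,1,0,1,0,0,3,4,0,2,0,0,4,0,0,0,0,0,0,0,0,0],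
[0,0,0,0,0,0,0,0,0,0,0,0,0,0,3,0,0,0,1,0,1,0,2,0,0,3,0,0,0,0,0,2,0,0,0,0,3,0,0,4,0,0,0,0,0,1,0,0,0,0,3,3,2,0,1,0,4,0,2,0,0,0,3,0,4,3,0,0,0,0,3,3,0,0,4,0,0,0,0,0,0,0,4,0,0,0,1,3,4,0,3,0,1,0,3,4,3,0,3,0,1,3,1,0,0,0,0,0,0,0,0],
[0,0,0,0,0,0,0,0,0,0,0,0,4,0,1,0,0,0,2,0,1,0,0,0,0,0,2,1,0,0,0,3,0,0,0,0,2,1,0,1,4,4,0,0,0,2,0,0,0,0,2,4,4,0,4,2,2,0,2,0,3,1,3,0,3,0,3,0,0,4,3,2,0,0,1,0,0,2,4,0,0,0,3,0,1,0,0,4,4,0,0,4,0,0,1,3,4,0,0,0,3,2,1,0,0,0,0,0,0,0,0],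
[0,0,0,0,0,0,0,0,0,0,0,0,3,0,4,0,0,0,3,0,0,0,3,0,0,3,4,1,0,0,0,1,0,0,0,0,2,0,0,4,1,1,0,0,0,0,0,0,0,0,1,4,2,0,2,3,0,0,4,0,2,0,1,0,1,3,2,0,2,1,3,0,0,0,1,0,0,2,4,0,0,0,1,4,4,0,0,0,2,0,3,0,2,0,3,4,0,0,0,0,3,4,2,0,0,0,0,0,0,0,0],
[0,0,0,0,0,0,0,0,0,0,0,0,0,0,0,0,0,0,0,0,0,0,0,0,0,0,0,0,0,0,0,0,0,0,0,0,0,0,0,0,0,0,0,0,0,0,0,0,0,0,0,0,0,0,0,0,0,0,0,0,0,0,0,0,0,0,0,0,0,0,0,0,0,0,0,0,0,0,0,0,0,0,0,0,0,0,0,0,0,0,0,0,0,0,0,0,0,0,0,0,0,0,0,0,1,1,0,0,0,0,0],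
[0,0,0,0,0,0,0,0,0,0,0,0,0,0,0,0,0,0,0,0,0,0,0,0,0,0,0,0,0,0,0,0,0,0,0,0,0,0,0,0,0,0,0,0,0,0,0,0,0,0,0,0,0,0,0,0,0,0,0,0,0,0,0,0,0,0,0,0,0,0,0,0,0,0,0,0,0,0,0,0,0,0,0,0,0,0,0,0,0,0,0,0,0,0,0,0,0,0,0,0,0,0,0,0,2,4,0,0,0,0,0],
[0,0,0,0,0,0,0,0,0,0,0,0,0,0,0,0,0,0,0,0,0,0,0,0,0,0,0,0,0,0,0,0,0,0,0,0,0,0,0,0,0,0,0,0,0,0,0,0,0,0,0,0,0,0,0,0,0,0,0,0,0,0,0,0,0,0,0,0,0,0,0,0,0,0,0,0,0,0,0,0,0,0,0,0,0,0,0,0,0,0,0,0,0,0,0,0,0,0,0,0,0,0,0,0,0,0,3,3,4,0,0],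
[0,0,0,0,0,0,0,0,0,0,0,0,0,0,0,0,0,0,0,0,0,0,0,0,0,0,0,0,0,0,0,0,0,0,0,0,0,0,0,0,0,0,0,0,0,0,0,0,0,0,0,0,0,0,0,0,0,0,0,0,0,0,0,0,0,0,0,0,0,0,0,0,0,0,0,0,0,0,0,0,0,0,0,0,0,0,0,0,0,0,0,0,0,0,0,0,0,0,0,0,0,0,0,0,0,0,2,3,2,0,0],
[0,0,0,0,0,0,0,0,0,0,0,0,0,0,0,0,0,0,0,0,0,0,0,0,0,0,0,0,0,0,0,0,0,0,0,0,0,0,0,0,0,0,0,0,0,0,0,0,0,0,0,0,0,0,0,0,0,0,0,0,0,0,0,0,0,0,0,0,0,0,0,0,0,0,0,0,0,0,0,0,0,0,0,0,0,0,0,0,0,0,0,0,0,0,0,0,0,0,0,0,0,0,0,0,0,0,4,3,3,0,0],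
[0,0,0,0,0,0,0,0,0,0,0,0,0,0,0,0,0,0,0,0,0,0,0,0,0,0,0,0,0,0,0,0,0,0,0,0,0,0,0,0,0,0,0,0,0,0,0,0,0,0,0,0,0,0,0,0,0,0,0,0,0,0,0,0,0,0,0,0,0,0,0,0,0,0,0,0,0,0,0,0,0,0,0,0,0,0,0,0,0,0,0,0,0,0,0,0,0,0,0,0,0,0,0,0,0,0,0,0,0,3,3],
[0,0,0,0,0,0,0,0,0,0,0,0,0,0,0,0,0,0,0,0,0,0,0,0,0,0,0,0,0,0,0,0,0,0,0,0,0,0,0,0,0,0,0,0,0,0,0,0,0,0,0,0,0,0,0,0,0,0,0,0,0,0,0,0,0,0,0,0,0,0,0,0,0,0,0,0,0,0,0,0,0,0,0,0,0,0,0,0,0,0,0,0,0,0,0,0,0,0,0,0,0,0,0,0,0,0,0,0,0,1,2]]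

noncomputable def tabBi : List (List ℕ) := [[1,4,0,0,0,0,0,2,0,0,0,1,3,2,0,4,4,2,4,2,2,1,1,1,2,3,1,4,3,0,4,4,3,0,4,4,2,0,2,1,3,4,3,1,2,2,0,1,2,0,0,4,2,4,3,0,4,1,1,3,1,3,3,4,3,1,4,4,4,0,1,0,0,4,4,3,2,0,4,3,4,3,1,1,4,4,0,1,3,1,4,1,0,0,4,1,3,3,1,3,1,0,1,1,1,0,0,0,0,0,0],
[0,1,0,0,0,0,0,4,1,0,0,1,3,4,0,4,3,4,0,2,0,4,4,1,2,2,3,4,1,0,4,3,3,3,4,0,0,2,2,2,2,0,1,0,2,0,1,2,2,2,4,0,1,4,2,2,4,2,3,1,0,1,4,4,0,2,2,2,2,4,0,4,0,1,2,3,3,0,4,1,3,3,4,3,3,3,4,4,3,4,0,0,3,2,0,3,1,0,0,1,4,4,1,2,0,1,0,0,0,0,0],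
[0,0,1,4,3,0,0,0,0,0,0,2,3,1,0,4,2,0,0,1,3,1,1,1,0,4,1,0,2,0,1,4,1,3,2,0,4,0,4,4,0,0,0,0,4,1,0,4,3,0,0,4,1,0,0,0,1,2,0,1,4,1,0,4,4,3,4,3,4,4,1,4,0,2,3,0,3,1,0,3,1,2,2,1,0,0,2,1,3,0,0,2,0,2,0,3,4,3,3,0,4,3,4,4,0,0,3,0,1,0,0],
[0,0,0,1,4,0,0,0,0,0,0,3,1,1,2,1,3,3,1,2,1,0,0,1,1,0,2,2,2,4,4,1,1,4,3,4,2,3,4,2,0,1,1,2,3,2,3,1,1,4,1,3,0,3,0,1,0,3,3,1,4,3,1,3,4,3,0,1,0,0,2,0,2,0,2,2,0,3,4,3,4,2,2,0,4,4,3,1,4,3,0,1,4,4,4,0,2,1,2,3,2,3,4,2,0,0,4,2,1,0,0],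
[0,0,0,0,1,0,0,0,0,0,0,0,0,3,1,0,0,0,1,0,0,3,2,3,1,3,2,1,1,2,0,0,3,3,0,2,3,0,1,4,3,1,0,2,0,0,0,3,0,0,0,1,3,3,2,0,2,0,2,3,1,1,1,1,2,0,3,3,4,3,2,3,1,1,1,2,1,4,2,4,0,1,4,3,4,3,4,2,3,4,2,0,2,4,2,3,3,0,4,0,4,1,1,3,0,0,0,1,3,0,0],
[0,0,0,0,0,1,4,0,0,1,0,3,4,2,3,3,3,0,3,4,4,4,3,1,1,3,2,0,2,3,3,2,2,1,2,0,1,1,2,3,1,2,0,3,4,1,2,1,1,1,3,3,3,0,1,1,3,2,4,3,3,4,1,3,0,2,4,2,0,1,3,2,2,4,0,1,3,2,0,2,2,3,0,1,1,2,3,0,0,1,4,0,2,4,3,4,1,1,1,0,1,4,1,4,0,0,0,0,0,1,0],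
[0,0,0,0,0,0,1,0,0,2,3,1,0,2,3,1,3,4,0,0,4,2,3,2,3,4,0,0,2,3,1,2,4,1,4,1,2,2,2,0,1,0,4,0,0,1,4,1,0,0,0,3,2,0,4,0,2,2,1,3,3,0,1,3,3,0,1,3,3,3,4,3,2,2,0,3,4,4,0,2,2,1,4,4,2,0,3,1,4,4,4,2,0,0,0,3,0,1,0,1,4,1,1,0,0,0,0,0,0,0,1],
[0,0,0,0,0,0,0,1,4,0,0,0,2,3,0,1,3,4,0,3,0,0,3,3,3,0,1,0,4,0,0,1,0,0,0,0,4,2,1,0,1,0,1,0,1,3,0,2,4,0,0,2,0,1,0,1,1,3,2,4,0,3,1,3,0,1,0,0,0,0,0,1,0,0,0,1,0,4,0,2,0,1,2,0,3,2,0,1,0,3,0,4,0,0,0,4,4,2,1,1,0,4,3,4,3,0,0,3,1,1,2],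
[0,0,0,0,0,0,0,0,1,0,0,1,1,0,0,4,2,3,0,2,3,0,1,4,3,0,4,0,4,0,2,4,1,1,2,0,1,1,4,0,3,0,4,0,0,0,2,3,1,0,0,1,0,1,0,0,4,4,0,3,0,1,1,2,0,4,0,3,0,0,3,3,0,0,4,3,0,3,0,4,4,4,4,0,1,2,0,2,2,2,0,3,0,0,0,4,2,0,4,4,0,1,1,2,0,4,2,4,1,0,2],
[0,0,0,0,0,0,0,0,0,1,4,2,0,0,0,1,2,4,0,0,3,0,3,1,2,0,3,0,3,0,4,0,0,1,1,0,3,3,2,0,4,0,1,0,2,0,4,3,2,0,0,2,0,2,0,0,1,1,4,1,0,3,2,0,0,1,0,1,0,2,0,1,0,0,3,2,0,2,0,1,4,2,3,0,3,4,0,2,0,3,0,4,0,4,0,1,1,2,0,4,0,4,2,1,0,1,3,0,3,1,3],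
[0,0,0,0,0,0,0,0,0,0,1,2,2,0,0,0,1,3,0,0,0,0,1,2,2,0,2,0,0,0,2,3,2,3,3,0,1,1,3,0,1,0,3,0,0,4,0,1,3,0,0,3,0,1,0,1,4,3,2,3,0,4,0,4,0,4,0,0,0,1,0,4,0,0,4,2,0,1,0,1,0,1,0,0,3,3,0,4,2,4,0,3,0,0,0,0,2,3,0,0,0,4,2,1,0,0,1,1,0,3,0],
[0,0,0,0,0,0,0,0,0,0,0,0,4,0,1,4,3,2,0,0,2,0,2,1,1,0,3,0,4,0,3,1,4,2,0,0,4,1,2,0,3,0,3,0,2,4,0,4,4,0,0,2,0,3,0,0,4,3,4,3,0,4,2,0,0,2,0,2,0,3,2,1,0,0,2,2,0,0,0,0,0,4,4,0,0,3,0,4,2,4,0,4,0,1,0,1,4,0,2,2,0,3,0,0,4,3,4,0,3,4,1],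
[0,0,0,0,0,0,0,0,0,0,0,4,1,0,0,1,4,4,1,3,3,0,4,2,1,0,0,0,0,0,4,4,1,2,3,0,4,0,4,0,1,0,4,0,1,1,2,2,0,0,0,2,0,3,0,4,0,2,2,3,0,1,3,1,0,3,0,1,0,3,4,2,0,0,2,0,0,0,0,3,4,1,3,0,1,1,0,0,3,0,0,0,0,1,0,3,1,2,2,0,0,3,4,2,1,2,2,4,4,0,0],
[0,0,0,0,0,0,0,0,0,0,0,2,4,0,0,3,3,3,0,4,0,1,3,1,3,0,0,0,1,0,1,3,2,1,4,0,3,1,4,0,3,0,2,0,0,3,3,2,0,0,0,4,0,4,0,0,3,1,3,3,0,0,3,4,0,4,0,2,0,2,4,1,0,0,4,2,0,3,0,2,2,0,3,0,4,0,0,2,4,2,0,0,0,2,0,1,0,4,4,1,0,0,1,2,0,1,1,0,3,0,0],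
[0,0,0,0,0,0,0,0,0,0,0,2,2,0,0,2,1,1,0,2,3,0,3,2,4,1,3,0,2,0,4,4,4,0,4,0,2,2,4,0,4,0,4,0,2,2,1,4,1,0,0,1,0,1,0,2,4,1,3,1,0,0,0,0,0,0,0,2,0,4,2,1,0,0,1,0,0,2,0,4,0,0,2,0,3,0,0,0,3,4,0,4,0,0,0,1,3,4,2,2,0,1,3,0,4,1,3,0,1,3,1],
[0,0,0,0,0,0,0,0,0,0,0,0,3,0,0,4,0,3,0,1,2,0,2,2,2,0,4,0,2,1,2,0,3,3,1,0,0,3,4,0,0,0,1,0,2,0,4,3,4,0,0,1,0,0,0,4,1,2,3,2,0,3,3,2,0,0,0,4,0,1,1,3,0,0,0,0,0,0,0,1,1,3,4,0,4,0,0,4,1,2,0,1,0,3,0,3,0,2,2,4,0,2,3,3,0,3,0,1,4,4,3],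
[0,0,0,0,0,0,0,0,0,0,0,2,4,2,0,1,0,4,0,0,4,0,1,2,0,0,4,1,3,0,0,4,0,2,1,0,2,1,2,0,0,0,0,0,0,0,3,0,3,0,0,4,0,4,0,3,4,0,3,3,0,2,2,4,0,2,0,1,0,1,4,4,0,0,0,4,0,3,0,3,3,4,2,0,0,2,0,4,4,1,0,0,0,1,0,0,3,0,4,3,0,4,0,3,1,0,2,1,1,0,0],
[0,0,0,0,0,0,0,0,0,0,0,2,4,0,0,1,3,3,0,3,0,0,0,1,2,0,0,0,1,0,4,3,2,2,4,1,3,1,2,0,3,0,2,0,0,3,3,1,4,0,0,2,0,4,0,4,3,0,4,3,0,4,1,3,0,3,0,2,0,3,3,0,0,0,0,0,0,0,0,2,2,0,1,0,4,0,0,0,0,2,0,0,0,1,0,4,2,1,3,1,0,1,0,3,0,0,4,4,1,0,3],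
[0,0,0,0,0,0,0,0,0,0,0,4,1,0,0,0,0,4,0,3,2,0,0,3,4,0,0,0,3,0,4,4,1,4,4,0,2,3,4,1,1,0,1,0,3,3,4,0,4,0,0,3,0,1,0,1,3,2,0,4,0,2,3,4,0,0,0,0,0,3,0,0,0,0,0,2,0,0,0,1,0,0,2,0,0,0,0,2,4,2,0,4,0,2,0,4,3,1,2,3,0,4,2,1,2,1,2,2,0,1,2],
[0,0,0,0,0,0,0,0,0,0,0,2,0,0,0,1,0,2,0,2,4,0,4,3,3,0,3,0,4,0,1,4,0,4,2,0,0,1,3,0,4,0,3,1,2,4,0,4,3,0,0,4,0,0,0,0,1,0,0,4,0,2,3,4,0,0,0,3,0,1,4,3,0,0,3,1,0,1,0,0,1,2,4,0,0,4,0,4,4,4,0,0,0,3,0,2,4,0,2,0,0,3,0,3,0,2,4,0,0,2,2],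
[0,0,0,0,0,0,0,0,0,0,0,4,3,0,0,2,4,3,0,0,1,0,0,2,2,0,0,0,4,0,1,2,4,1,0,0,0,1,0,0,1,1,4,0,3,2,2,1,2,0,0,0,0,0,0,4,3,4,4,3,0,0,3,4,0,2,0,3,0,4,0,1,0,0,3,3,0,0,0,4,4,1,3,0,3,1,0,2,3,2,0,2,0,4,0,4,0,0,4,4,0,3,2,4,4,3,2,1,1,0,2],
[0,0,0,0,0,0,0,0,0,0,0,1,2,0,0,3,1,4,0,0,3,0,1,3,4,0,0,0,3,0,0,1,1,1,1,0,1,3,1,0,0,0,1,0,1,4,4,4,0,0,1,4,0,4,0,1,0,0,4,4,0,2,0,4,0,4,0,4,0,2,1,2,0,0,3,4,0,0,0,1,0,0,4,0,1,0,0,0,0,4,0,2,0,2,0,4,4,3,0,3,0,4,2,0,3,3,1,3,2,2,4],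
[0,0,0,0,0,0,0,0,0,0,0,2,4,0,0,3,2,0,0,1,4,0,0,0,3,0,3,0,0,0,1,1,0,1,4,0,1,0,4,0,3,0,0,0,1,1,0,1,3,0,0,1,0,4,1,3,1,0,4,0,0,4,3,2,0,1,0,0,0,3,4,1,0,0,3,3,0,0,0,0,4,0,1,0,2,0,0,2,2,4,0,1,0,0,0,4,1,2,4,0,0,4,2,2,2,1,0,3,0,4,4],
[0,0,0,0,0,0,0,0,0,0,0,1,1,0,0,3,3,2,0,2,2,0,4,4,4,0,3,0,4,0,3,3,3,0,4,0,2,4,3,0,3,0,3,0,3,2,2,2,2,0,0,2,1,0,0,2,3,0,1,2,0,1,0,4,0,3,0,3,0,1,1,0,0,0,4,4,0,3,0,3,3,0,0,0,0,0,0,1,1,4,0,3,0,2,0,1,4,2,0,4,0,2,3,3,1,4,3,0,4,4,3],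
[0,0,0,0,0,0,0,0,0,0,0,1,2,0,0,4,4,2,0,4,0,0,1,2,0,0,1,0,1,0,4,0,1,0,2,0,4,2,2,0,4,0,0,0,2,2,3,0,1,0,0,4,0,2,0,1,2,1,4,3,1,4,4,4,0,4,0,0,0,3,2,2,0,0,4,0,0,0,0,2,1,0,2,0,2,2,0,4,4,2,0,2,0,1,0,1,4,4,4,1,0,2,4,2,0,0,4,0,3,1,1],
[0,0,0,0,0,0,0,0,0,0,0,4,1,0,0,2,4,3,0,0,1,0,2,1,4,0,2,0,1,0,0,0,2,4,4,0,3,1,3,0,2,0,2,0,3,2,3,2,1,0,0,3,0,3,0,0,2,0,0,3,0,2,2,1,1,4,0,3,0,4,1,1,0,0,0,3,0,1,0,2,1,0,3,0,4,0,0,4,3,4,0,1,0,4,0,2,4,3,1,1,0,2,0,2,2,3,1,2,4,1,2],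
[0,0,0,0,0,0,0,0,0,0,0,2,2,0,0,1,0,2,0,0,4,0,4,4,4,0,3,0,4,0,2,1,3,1,4,0,0,4,2,0,2,0,3,0,1,1,2,2,4,0,0,1,0,0,0,4,0,1,2,2,0,4,2,3,0,1,0,4,1,3,1,0,0,0,3,3,0,3,0,3,4,0,4,0,1,0,0,1,2,3,0,0,0,3,0,2,2,2,2,4,0,3,1,2,4,0,0,3,0,2,4],
[0,0,0,0,0,0,0,0,0,0,0,2,3,0,0,2,2,1,0,0,2,0,4,2,2,0,2,0,2,0,2,2,4,3,0,0,2,2,0,0,1,0,4,0,4,4,1,0,3,0,0,2,0,1,0,1,3,0,1,1,0,3,1,4,0,4,1,1,0,3,0,4,0,0,2,4,0,0,0,4,1,0,1,0,3,0,0,0,4,0,0,3,0,4,0,2,3,3,4,2,0,4,2,3,4,3,3,4,2,4,3],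
[0,0,0,0,0,0,0,0,0,0,0,2,2,0,0,2,2,4,0,3,0,0,2,3,1,0,2,0,3,0,2,3,1,3,1,0,3,3,4,0,3,0,1,0,2,4,4,2,3,0,0,1,0,4,0,1,3,3,4,4,0,3,0,2,0,4,0,3,0,1,3,0,0,1,2,1,0,4,0,1,4,0,2,0,3,0,0,3,3,2,0,4,0,1,0,0,0,2,0,3,0,2,2,1,0,0,0,2,4,4,1],
[0,0,0,0,0,0,0,0,0,0,0,0,2,0,0,0,4,2,0,0,1,0,0,4,2,0,3,0,4,0,2,3,3,3,4,0,1,4,2,0,4,0,3,0,0,4,2,2,2,0,0,0,0,1,0,0,1,4,0,2,0,3,3,2,0,3,0,0,0,2,4,2,0,0,2,1,1,4,0,3,3,0,1,0,1,0,0,3,2,4,0,0,0,0,0,3,1,3,0,4,0,3,4,0,1,2,0,1,1,0,2],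
[0,0,0,0,0,0,0,0,0,0,0,1,4,0,0,0,3,0,0,1,0,0,3,2,1,0,2,0,4,0,4,2,0,3,0,0,4,1,2,0,3,0,2,0,3,0,3,2,2,0,0,0,0,0,0,4,4,0,0,1,0,0,1,3,0,3,0,0,0,4,0,1,0,0,4,3,0,3,0,3,4,0,1,0,0,2,0,2,2,4,0,2,0,3,0,4,1,2,3,2,0,4,3,0,2,1,3,2,0,1,4],
[0,0,0,0,0,0,0,0,0,0,0,2,3,2,0,4,3,1,0,0,2,0,1,1,3,0,0,0,4,0,4,0,1,0,0,0,4,1,1,0,1,0,1,0,1,4,3,0,1,0,0,4,0,3,0,4,4,0,0,2,0,1,3,4,0,2,0,3,0,2,2,2,0,0,1,3,0,4,1,1,0,1,2,0,3,4,0,0,1,4,0,0,0,4,0,3,4,0,4,0,0,0,4,2,3,4,0,3,1,3,4],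
[0,0,0,0,0,0,0,0,0,0,0,4,0,0,0,2,2,1,0,1,0,0,2,2,1,0,0,0,2,0,0,4,4,1,4,0,0,2,0,0,3,0,4,0,0,0,1,0,0,0,0,2,0,0,0,4,2,3,4,1,0,4,2,1,0,4,0,4,0,4,0,1,0,0,4,1,0,3,0,4,0,0,0,1,2,0,0,0,2,3,0,2,0,1,0,3,0,2,0,2,0,3,1,4,1,3,3,1,2,3,2],
[0,0,0,0,0,0,0,0,0,0,0,4,3,0,0,3,3,3,0,2,1,0,1,4,4,0,4,0,2,0,3,1,3,1,3,0,4,3,4,0,3,0,1,0,3,0,1,0,2,0,0,1,0,4,0,4,4,4,4,0,0,0,2,4,0,3,0,1,0,4,4,0,0,0,1,2,0,1,0,3,0,2,3,0,4,0,1,1,2,0,0,2,0,4,0,0,1,3,4,3,0,0,0,0,4,2,3,1,2,0,0],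
[0,0,0,0,0,0,0,0,0,0,0,2,4,3,0,3,1,0,0,4,1,0,4,4,0,0,0,0,4,0,3,0,2,3,0,0,3,1,1,0,0,0,3,0,0,1,3,0,1,0,0,4,0,2,0,2,1,0,0,0,0,1,4,1,0,3,0,4,0,1,4,1,1,0,4,2,0,4,0,2,2,2,0,0,0,1,0,3,1,2,0,1,0,4,0,4,3,2,2,4,0,2,1,4,0,3,3,2,3,3,0],
[0,0,0,0,0,0,0,0,0,0,0,4,2,0,0,1,4,1,0,2,3,0,3,2,3,0,1,0,2,0,1,4,4,3,1,0,3,2,3,0,1,0,4,0,4,2,1,2,4,0,0,3,0,3,0,0,1,1,1,1,0,3,4,4,0,2,0,3,0,3,1,2,0,0,4,2,0,0,0,4,0,0,3,0,4,0,0,2,1,0,1,1,0,1,0,2,4,0,1,2,0,4,1,1,3,1,2,2,0,3,3],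
[0,0,0,0,0,0,0,0,0,0,0,1,3,0,0,1,1,1,0,1,1,0,3,2,4,0,4,0,2,0,0,0,4,2,3,0,3,2,3,0,0,0,4,0,4,2,1,2,4,0,0,0,0,3,0,2,0,0,0,1,0,4,2,2,0,2,0,3,0,1,1,1,0,0,2,2,0,4,0,4,3,0,3,0,3,0,0,3,2,3,0,0,0,2,1,3,2,2,3,2,0,1,2,0,0,3,4,4,0,0,1],
[0,0,0,0,0,0,0,0,0,0,0,4,0,0,0,0,3,4,0,3,0,0,4,3,1,0,3,0,3,0,1,3,1,0,1,0,4,3,2,0,3,0,1,0,0,4,4,3,3,0,0,2,0,1,0,3,1,3,4,4,0,4,3,0,0,1,0,3,0,0,0,2,0,0,1,2,0,1,0,1,0,0,0,0,0,0,0,4,3,4,0,4,1,2,0,3,3,3,3,3,0,1,2,4,2,4,3,0,4,0,0],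
[0,0,0,0,0,0,0,0,0,0,0,3,0,0,0,1,3,2,0,3,4,0,3,4,1,0,2,0,3,0,0,4,4,2,4,0,0,3,0,0,0,0,3,0,1,1,2,2,0,0,0,4,0,0,0,1,3,4,2,2,0,2,4,0,0,4,0,1,0,1,4,1,0,0,0,0,0,1,0,4,2,2,0,0,0,2,0,3,4,2,0,4,0,0,0,3,1,0,4,1,1,0,0,3,1,4,3,4,3,0,3],
[0,0,0,0,0,0,0,0,0,0,0,2,4,0,0,2,0,4,0,4,4,0,2,3,1,0,4,0,3,0,4,0,1,0,2,0,3,3,4,0,4,0,1,0,1,0,4,2,1,0,0,2,0,1,0,3,4,4,2,4,0,0,2,4,0,2,0,1,0,1,0,3,0,0,4,4,0,0,0,1,3,0,0,0,1,0,0,3,1,3,0,1,0,4,0,2,4,2,3,3,0,0,0,3,1,0,3,2,1,4,3],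
[0,0,0,0,0,0,0,0,0,0,0,3,4,0,0,2,1,1,0,3,3,0,0,2,2,0,0,0,2,0,1,4,4,4,3,0,2,2,3,0,2,0,4,0,3,2,1,1,0,0,0,4,0,0,0,1,2,3,4,1,0,2,4,0,0,3,0,3,0,4,1,4,0,0,3,0,0,1,0,4,3,0,2,0,4,0,0,4,0,0,0,3,0,2,0,1,3,2,4,2,0,2,3,1,0,0,3,2,0,0,2],
[0,0,0,0,0,0,0,0,0,0,0,0,2,0,0,0,2,4,0,3,0,0,2,3,0,0,4,0,3,0,0,1,1,2,3,0,1,3,1,0,2,0,1,0,1,3,4,3,0,0,0,2,0,2,0,4,0,3,0,4,0,3,4,3,0,1,0,3,0,4,4,4,0,0,2,3,0,0,0,1,0,0,0,0,0,0,0,1,2,2,0,2,0,3,0,4,1,2,3,3,0,2,2,2,2,4,3,2,3,1,0],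
[0,0,0,0,0,0,0,0,0,0,0,3,2,0,0,2,0,2,0,1,0,0,3,4,0,0,1,0,4,0,3,1,3,2,4,0,3,4,2,0,4,0,3,0,1,0,2,2,4,0,0,0,0,3,0,4,2,4,1,2,0,0,1,3,0,3,0,0,0,2,4,4,0,0,0,3,0,4,0,3,2,0,0,0,1,0,0,2,2,1,0,4,0,3,0,2,1,2,1,4,0,3,1,2,4,1,2,2,4,1,2],
[0,0,0,0,0,0,0,0,0,0,0,0,4,0,0,4,4,4,0,4,1,0,3,3,4,0,3,0,3,0,4,2,1,2,2,0,4,3,1,0,1,0,1,0,0,4,4,0,2,0,0,3,0,2,0,3,4,3,4,4,0,0,1,1,0,2,0,1,0,3,3,0,0,0,2,3,0,4,0,1,3,0,0,0,1,0,0,2,2,1,0,0,0,2,0,3,0,2,3,3,0,1,1,1,1,3,0,3,1,3,0],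
[0,0,0,0,0,0,0,0,0,0,0,4,1,0,0,0,1,0,0,0,0,0,1,4,3,0,3,0,1,0,1,3,2,4,2,0,2,3,3,0,4,0,0,0,0,4,3,4,0,0,0,4,0,1,0,3,4,0,4,2,0,4,4,4,0,0,0,4,0,1,2,2,0,0,4,4,0,2,0,1,3,3,3,0,3,1,0,1,2,0,0,2,0,1,0,2,0,4,0,0,0,2,3,4,4,4,2,4,0,2,4],
[0,0,0,0,0,0,0,0,0,0,0,0,3,0,0,4,0,0,0,2,0,0,4,3,1,0,1,0,4,0,1,2,2,2,1,0,0,4,2,0,1,0,1,0,2,4,4,2,0,0,0,4,0,3,0,2,3,2,4,0,0,3,2,2,0,2,0,2,0,0,2,3,0,0,0,4,0,2,0,1,0,2,1,0,3,2,0,1,0,4,0,0,0,0,0,2,4,2,2,4,0,3,2,0,1,1,2,2,1,1,0],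
[0,0,0,0,0,0,0,0,0,0,0,3,1,0,0,3,3,2,0,1,2,0,2,4,1,0,2,0,4,0,1,1,3,4,2,0,0,4,4,0,2,0,3,0,4,1,2,4,2,0,0,3,0,1,0,2,2,0,4,2,0,2,0,1,0,1,0,3,0,3,4,1,0,0,2,1,0,1,0,3,2,0,2,0,4,0,0,4,3,4,0,2,0,2,0,4,1,2,4,4,0,2,1,2,1,4,3,3,2,2,4],
[0,0,0,0,0,0,0,0,0,0,0,1,3,0,0,1,4,4,0,2,1,0,2,4,4,0,2,0,0,0,0,1,0,3,4,0,1,3,0,0,2,0,4,0,1,1,2,4,1,0,0,4,0,4,0,3,1,0,1,2,0,1,1,0,0,0,0,2,0,3,2,4,0,0,2,3,0,2,0,2,0,2,2,0,4,1,0,2,1,4,0,3,0,0,0,1,3,3,0,4,0,1,4,0,3,3,1,2,3,2,1],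
[0,0,0,0,0,0,0,0,0,0,0,2,4,4,0,4,1,0,0,1,1,0,2,0,4,0,1,0,4,0,3,4,0,0,3,0,1,0,0,0,0,0,4,0,2,4,1,3,3,0,0,1,0,4,0,2,1,1,2,1,0,1,0,0,0,1,0,3,0,3,2,4,0,0,3,4,0,0,0,3,0,2,3,0,4,2,0,1,4,4,0,2,0,4,0,2,3,4,0,1,0,0,3,0,1,1,2,3,2,4,3],
[0,0,0,0,0,0,0,0,0,0,0,2,1,0,0,2,2,2,0,0,3,0,1,4,4,0,0,0,4,0,4,3,3,4,2,0,0,4,3,0,0,0,3,0,3,2,2,3,1,0,0,0,0,1,0,1,0,2,4,2,0,4,1,3,0,2,0,1,0,2,2,3,0,0,2,2,0,3,0,3,1,0,0,0,0,0,0,4,3,3,0,0,0,4,0,0,1,4,1,4,0,0,0,4,2,2,0,2,1,1,3],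
[0,0,0,0,0,0,0,0,0,0,0,0,3,0,0,1,1,1,0,0,1,0,3,2,0,0,1,0,2,0,3,3,4,2,3,0,4,2,3,0,3,0,4,0,2,1,1,3,3,0,0,1,0,0,0,4,4,4,0,1,0,3,2,0,0,4,0,0,0,3,4,1,0,0,1,3,0,3,0,4,2,0,4,0,3,0,0,4,1,2,0,2,0,2,0,2,4,2,4,2,0,3,0,2,4,4,0,2,1,4,2],
[0,0,0,0,0,0,0,0,0,0,0,0,3,0,0,2,1,0,0,2,4,0,4,0,3,0,0,0,0,0,0,3,0,2,2,0,1,0,3,0,2,0,0,0,1,3,0,0,2,0,0,1,0,1,0,3,1,4,3,0,0,1,4,3,0,2,0,0,0,2,1,3,0,0,2,3,0,2,0,0,0,0,4,0,0,0,0,0,3,4,0,1,0,4,0,4,2,1,1,0,0,2,4,1,4,2,2,0,3,4,4],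
[0,0,0,0,0,0,0,0,0,0,0,0,2,0,0,4,4,2,0,2,1,0,3,4,2,0,1,0,4,0,3,1,3,4,3,0,2,4,0,0,0,0,3,0,2,3,2,2,3,0,0,1,0,1,0,3,2,0,2,2,0,1,4,2,0,2,0,1,0,3,4,0,0,0,4,3,0,1,0,3,3,0,4,0,2,0,0,1,3,0,0,2,0,3,0,2,0,1,1,4,0,3,1,1,0,3,3,1,1,3,0],
[0,0,0,0,0,0,0,0,0,0,0,3,2,0,0,2,1,4,0,0,1,0,0,3,4,0,0,0,3,0,0,3,1,2,4,0,2,3,2,0,2,0,1,0,4,0,4,1,3,0,0,0,0,3,0,1,2,3,2,4,0,0,4,4,0,1,0,1,0,2,3,3,0,0,1,0,0,3,0,1,2,0,4,0,4,0,0,4,1,1,0,3,0,0,0,3,0,2,3,3,0,0,2,1,0,2,0,2,4,1,2],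
[0,0,0,0,0,0,0,0,0,0,0,3,3,0,0,3,0,4,0,3,0,0,3,3,3,0,0,0,3,0,1,1,1,2,1,0,4,3,3,0,0,0,1,0,3,2,4,3,1,0,0,4,0,1,0,0,3,4,0,4,0,1,0,3,0,2,0,0,0,3,2,2,0,0,4,4,0,2,0,1,3,0,3,0,2,0,0,2,0,1,0,0,0,4,0,3,2,2,1,3,0,0,3,1,0,3,4,3,1,3,1],
[0,0,0,0,0,0,0,0,0,0,0,3,1,0,0,2,4,2,0,4,4,0,0,4,4,0,0,0,4,0,0,4,3,0,1,0,2,4,1,0,1,0,3,0,4,1,2,3,0,0,0,4,0,2,0,3,0,4,0,2,0,3,1,3,0,4,0,4,0,1,3,4,0,0,3,1,0,4,0,3,2,0,0,0,1,0,0,0,0,2,0,0,0,3,0,2,1,0,3,4,0,2,1,1,0,3,4,0,1,1,1],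
[0,0,0,0,0,0,0,0,0,0,0,3,1,0,0,3,3,2,0,0,4,0,0,4,2,0,4,0,4,0,3,1,3,0,2,0,2,4,2,0,4,0,3,0,3,3,2,2,3,0,0,1,0,4,0,4,0,3,4,2,0,3,3,2,0,2,0,0,0,0,3,0,0,0,2,0,0,0,0,3,0,0,2,0,0,0,0,0,2,3,0,3,0,0,0,2,4,2,3,4,0,2,4,0,1,0,3,4,1,2,3],
[0,0,0,0,0,0,0,0,0,0,0,4,1,3,0,1,3,4,0,2,3,0,2,1,2,0,1,0,0,0,2,4,0,3,4,0,2,1,2,0,0,0,0,0,0,3,3,3,2,0,0,3,0,1,0,2,2,0,0,0,0,0,3,2,0,3,0,1,0,1,4,4,0,0,4,3,0,0,0,2,1,2,3,0,0,3,0,4,4,4,0,2,0,2,0,0,1,3,1,0,0,0,2,2,3,3,2,3,3,0,1],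
[0,0,0,0,0,0,0,0,0,0,0,0,3,0,0,4,3,1,0,0,2,0,4,2,1,0,3,0,2,0,2,1,4,3,4,0,2,2,4,0,1,0,4,0,0,4,1,0,4,0,0,1,0,0,0,3,0,4,0,1,0,2,4,0,0,1,0,4,0,2,0,1,0,0,1,2,0,1,0,4,2,0,4,0,4,0,0,0,0,4,0,1,0,3,0,4,1,4,4,2,0,1,3,0,1,2,0,4,3,1,3],
[0,0,0,0,0,0,0,0,0,0,0,1,3,0,0,2,4,4,0,0,3,0,3,3,2,0,3,0,3,0,1,3,1,4,2,0,0,3,1,0,3,0,1,0,0,2,4,2,3,0,0,3,0,2,0,1,4,0,3,4,0,1,1,1,0,1,0,2,0,4,4,4,0,0,3,2,0,3,0,1,2,0,3,0,3,0,0,4,2,3,0,3,0,3,0,4,4,3,1,3,0,2,1,2,0,1,3,0,0,2,2],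
[0,0,0,0,0,0,0,0,0,0,0,3,1,0,0,1,0,0,0,2,2,0,0,0,2,0,2,0,0,0,1,3,0,4,0,0,1,0,2,0,1,0,0,0,1,0,0,0,1,0,0,0,0,0,0,3,1,1,3,0,0,3,1,4,0,4,0,0,0,3,4,3,0,0,4,1,0,2,0,0,3,0,0,0,0,0,0,2,1,4,0,0,0,0,0,1,0,1,4,0,0,0,0,4,2,1,2,3,2,1,3],
[0,0,0,0,0,0,0,0,0,0,0,0,3,3,0,1,1,0,0,2,2,0,0,2,4,0,3,0,3,0,1,0,3,4,4,0,2,3,1,0,4,0,3,0,0,3,1,4,4,0,0,4,0,0,0,4,3,0,4,1,0,0,1,1,0,3,0,4,0,0,3,2,0,0,0,0,0,2,0,0,2,3,3,0,0,3,0,2,0,4,0,4,0,3,0,0,0,3,4,0,0,2,1,2,2,3,3,2,1,1,4],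
[0,0,0,0,0,0,0,0,0,0,0,2,1,0,0,4,3,3,0,3,4,0,4,3,1,0,0,0,3,0,1,4,4,0,3,0,3,1,2,0,1,0,0,0,1,3,2,1,1,0,0,1,0,1,0,0,4,0,3,2,0,0,2,1,0,1,0,3,0,1,0,0,0,0,3,4,0,3,0,4,2,3,2,0,1,3,0,1,0,0,0,4,0,2,0,0,4,0,4,0,0,0,0,3,1,0,0,1,4,2,3],
[0,0,0,0,0,0,0,0,0,0,0,0,1,0,0,2,3,4,0,2,3,0,3,3,0,0,4,0,3,0,0,3,1,4,0,0,2,3,1,0,2,0,1,0,0,3,4,1,3,0,0,4,0,2,0,0,4,3,0,4,0,4,0,0,0,3,0,4,0,0,1,3,0,0,1,3,0,4,0,1,4,0,4,0,4,0,0,2,0,1,0,3,0,2,0,1,3,1,4,3,0,3,2,3,4,3,0,1,4,1,0],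
[0,0,0,0,0,0,0,0,0,0,0,4,3,0,0,2,1,1,0,4,1,0,0,2,2,0,1,0,2,0,3,3,4,1,4,0,1,2,2,0,0,0,4,0,1,2,1,1,3,0,0,3,0,3,0,4,2,2,4,1,0,3,1,0,0,3,0,2,0,1,2,3,0,0,3,2,0,1,0,4,2,0,1,0,0,0,0,1,2,3,0,2,0,3,0,1,2,2,2,2,0,3,0,4,2,2,4,4,0,1,0],
[0,0,0,0,0,0,0,0,0,0,0,0,1,0,0,3,1,0,0,0,2,0,1,0,2,0,2,0,0,0,3,4,0,1,1,0,2,0,0,0,0,0,0,0,4,1,0,0,4,0,0,3,0,1,0,2,2,1,3,0,0,3,4,3,0,3,0,0,0,4,1,0,0,0,2,1,0,1,0,0,1,0,3,0,2,0,0,4,0,1,0,4,0,4,0,2,2,0,1,0,0,4,4,0,0,2,3,1,1,0,0],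
[0,0,0,0,0,0,0,0,0,0,0,1,2,0,0,4,4,2,0,3,3,0,0,4,3,0,4,0,4,0,3,1,3,1,3,0,2,4,1,0,1,0,3,0,0,4,2,3,2,0,0,4,0,3,0,2,0,3,1,2,0,4,1,4,0,4,0,0,0,1,2,1,0,0,3,3,0,2,0,3,2,0,1,0,1,0,0,4,1,3,0,2,0,3,0,4,1,4,1,4,0,1,2,2,3,4,1,1,0,3,0],
[0,0,0,0,0,0,0,0,0,0,0,2,1,0,0,4,1,3,0,4,2,0,1,1,1,0,2,0,1,0,2,2,2,0,3,0,0,1,4,0,1,0,2,0,2,0,3,1,4,0,0,4,0,3,0,1,1,4,4,3,0,4,2,0,0,1,0,0,0,4,3,2,0,0,3,3,0,4,0,2,2,0,1,0,1,0,0,3,0,3,0,4,0,0,0,2,4,4,3,1,0,4,2,2,1,2,0,2,2,2,4],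
[0,0,0,0,0,0,0,0,0,0,0,2,2,0,0,1,2,3,0,2,1,0,1,1,0,0,3,0,1,0,0,0,2,1,2,0,3,1,1,0,4,0,2,0,2,2,3,1,4,0,0,4,0,1,0,2,4,1,1,3,0,3,4,2,0,1,0,1,0,3,3,2,0,0,2,1,0,1,0,2,1,0,0,0,3,0,0,1,0,2,0,3,0,0,0,1,1,0,4,1,0,4,2,4,2,2,1,2,3,0,0],
[0,0,0,0,0,0,0,0,0,0,0,2,2,0,0,3,1,4,0,0,1,0,1,3,4,0,2,0,3,0,2,1,1,4,2,0,0,3,0,0,2,0,1,0,3,4,4,1,2,0,0,1,0,3,0,3,4,3,3,4,0,0,2,1,0,0,0,1,0,2,2,2,0,0,4,3,0,3,0,1,0,0,1,0,2,0,0,2,3,2,0,3,0,4,0,1,3,4,2,3,0,0,4,3,0,2,1,2,4,1,3],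
[0,0,0,0,0,0,0,0,0,0,0,2,2,0,0,4,3,0,0,0,3,0,0,0,4,0,1,0,0,0,4,2,0,0,1,0,2,0,3,0,3,0,0,0,4,2,0,1,4,0,0,0,0,0,0,3,4,0,4,0,0,2,4,1,0,3,0,2,0,1,4,2,0,0,0,2,0,4,0,0,0,0,2,0,3,0,0,3,4,3,0,3,0,1,0,3,3,1,1,0,0,3,2,0,1,4,1,2,1,1,1],
[0,0,0,0,0,0,0,0,0,0,0,0,2,0,0,1,4,0,0,3,1,0,4,0,0,0,4,0,0,0,1,3,0,2,0,0,1,0,4,0,0,0,0,0,2,3,0,2,3,0,0,3,0,1,0,3,1,0,1,0,0,2,4,1,0,2,0,1,0,0,3,0,0,0,2,4,0,4,0,0,0,0,3,0,2,0,0,1,0,0,0,1,0,3,0,0,3,1,4,0,0,4,1,4,2,1,4,1,2,1,3],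
[0,0,0,0,0,0,0,0,0,0,0,3,3,0,0,1,0,0,0,3,1,0,0,0,3,0,4,0,0,0,1,3,0,2,1,0,2,0,3,0,3,0,0,0,4,4,0,1,3,0,0,3,0,3,0,3,2,3,3,0,0,3,1,3,0,4,0,2,0,3,3,0,0,0,3,3,0,1,0,0,1,0,4,0,1,0,0,2,2,3,0,2,0,1,0,2,1,2,0,0,0,3,2,0,1,2,1,4,4,1,4],
[0,0,0,0,0,0,0,0,0,0,0,0,1,0,0,3,4,4,0,1,3,0,4,3,1,0,1,0,3,0,1,0,1,1,2,0,0,3,3,0,4,0,1,0,3,4,4,1,3,2,0,4,0,0,0,4,3,1,0,4,0,3,1,1,0,0,0,3,0,0,2,1,0,0,2,1,0,2,0,1,1,0,4,0,2,0,0,0,0,2,0,1,0,2,0,0,1,3,0,3,0,2,4,4,1,0,2,0,2,1,2],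
[0,0,0,0,0,0,0,0,0,0,0,4,1,0,0,1,4,2,0,2,1,0,2,4,0,0,2,0,4,0,1,4,3,3,3,0,0,4,1,0,0,0,3,0,3,0,2,2,4,0,0,2,0,0,0,0,0,4,0,2,0,2,4,3,0,3,0,1,0,2,0,0,0,0,4,2,0,4,0,3,4,0,2,0,1,0,0,4,0,3,0,3,0,0,0,1,2,1,2,4,0,2,2,2,3,1,1,1,4,2,1],
[0,0,0,0,0,0,0,0,0,0,0,1,2,0,0,0,1,1,0,4,2,0,2,0,0,0,4,0,3,0,4,2,0,3,3,0,0,2,2,0,4,0,3,0,4,0,2,1,4,0,0,3,0,1,0,3,2,1,2,4,0,2,2,4,0,0,0,4,0,3,0,4,0,0,1,3,0,4,0,1,3,1,2,0,1,3,0,3,2,4,0,3,0,0,0,1,2,3,2,1,0,1,0,1,4,3,0,0,2,4,3],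
[0,0,0,0,0,0,0,0,0,0,0,1,1,0,0,4,0,4,0,3,1,0,1,3,2,0,1,0,3,0,0,3,1,2,1,0,0,3,0,0,1,0,1,0,0,2,4,1,4,0,0,0,0,0,0,4,3,2,1,4,0,3,0,4,0,0,0,0,0,1,1,0,0,0,3,4,0,2,0,1,4,0,0,0,2,0,0,3,0,3,0,4,0,3,0,4,3,3,2,3,0,2,3,1,2,2,1,0,0,2,3],
[0,0,0,0,0,0,0,0,0,0,0,0,0,0,0,2,2,1,0,2,1,0,1,2,3,0,3,0,2,0,4,3,4,4,3,0,3,2,3,0,3,0,4,0,4,0,1,2,1,0,0,0,0,4,0,3,1,1,0,1,0,0,2,1,0,1,0,3,0,4,1,4,0,0,3,2,0,2,0,4,3,0,0,0,4,0,0,3,2,2,0,1,0,1,0,2,2,1,0,2,0,4,2,2,2,4,2,3,3,3,4],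
[0,0,0,0,0,0,0,0,0,0,0,3,0,0,0,1,1,1,0,1,2,0,1,2,1,0,4,0,2,0,0,3,4,1,3,0,3,2,4,0,1,0,4,0,3,1,1,4,2,0,0,4,0,3,0,0,3,0,3,1,0,3,3,0,0,0,0,0,0,0,4,4,0,0,2,4,0,1,0,4,1,0,3,0,3,0,0,2,3,3,0,2,0,1,0,0,4,0,2,2,0,3,0,2,1,3,4,2,2,3,0],
[0,0,0,0,0,0,0,0,0,0,0,0,3,0,0,1,1,3,0,3,0,0,3,1,3,0,1,0,1,0,1,4,2,0,0,0,0,1,0,0,3,0,2,0,4,0,3,0,1,0,0,0,0,1,0,1,4,2,2,3,0,3,3,0,0,3,0,0,0,3,4,0,0,0,4,3,0,1,0,2,1,0,2,0,1,0,0,2,2,0,0,1,0,2,0,0,3,2,4,1,0,0,4,1,3,1,4,3,0,0,4],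
[0,0,0,0,0,0,0,0,0,0,0,0,4,2,0,4,4,3,0,0,4,0,4,1,1,0,2,0,0,0,2,3,4,4,2,0,3,1,3,0,1,0,2,0,2,2,2,3,3,0,0,2,0,0,0,4,2,2,2,4,0,4,4,3,0,2,0,1,0,3,4,0,0,0,0,3,0,1,0,2,2,2,2,0,3,0,0,0,4,0,0,2,0,0,0,4,2,3,3,1,0,0,4,1,4,4,2,4,2,0,0],
[0,0,0,0,0,0,0,0,0,0,0,3,0,0,0,4,4,1,0,3,1,0,2,2,0,0,0,0,2,0,2,4,4,3,3,0,2,2,0,0,2,0,4,0,1,2,1,1,0,0,0,4,0,2,0,0,3,2,2,1,0,3,3,4,0,1,0,4,0,0,2,0,0,0,1,4,0,1,0,4,2,0,4,0,3,0,0,1,1,2,0,4,0,4,0,0,1,0,3,2,0,0,4,3,3,1,2,0,1,3,2],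
[0,0,0,0,0,0,0,0,0,0,0,0,1,0,0,0,0,2,0,1,1,0,0,1,0,0,3,0,3,0,4,1,3,1,3,0,4,0,1,0,3,0,4,0,4,3,2,4,0,0,0,4,0,4,0,3,2,1,4,1,0,1,2,2,0,1,0,1,0,4,3,4,0,0,2,3,0,0,0,3,2,4,3,0,4,3,0,4,2,1,0,4,0,2,0,4,0,2,2,0,0,1,3,4,3,4,1,3,1,3,1],
[0,0,0,0,0,0,0,0,0,0,0,0,3,0,0,2,1,0,0,3,1,0,2,0,1,0,4,0,0,0,2,4,0,1,0,0,4,0,1,0,2,0,0,0,3,2,0,1,0,0,0,3,0,0,0,2,0,4,0,0,0,2,3,1,0,3,0,2,0,4,4,1,0,0,3,3,0,2,0,0,4,0,4,0,2,0,0,1,4,0,0,3,0,2,0,0,3,3,2,0,0,1,2,3,1,3,4,1,4,3,1],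
[0,0,0,0,0,0,0,0,0,0,0,0,4,0,0,0,1,2,0,2,4,0,3,4,1,0,3,0,4,0,3,0,3,1,3,0,4,4,2,0,1,0,3,0,4,3,2,2,0,0,0,3,0,4,0,2,2,3,2,2,0,4,0,3,0,1,0,2,0,1,4,3,0,0,3,3,0,1,0,3,0,0,2,0,4,0,0,3,2,3,0,1,0,3,0,0,2,2,3,4,0,2,0,4,4,1,0,0,3,0,2],
[0,0,0,0,0,0,0,0,0,0,0,2,4,0,0,1,1,0,0,4,1,0,4,0,1,0,0,0,0,0,0,2,0,0,2,0,0,0,3,0,2,0,0,0,1,4,0,0,4,0,0,0,0,0,0,0,3,0,3,0,0,0,0,3,0,3,0,2,0,3,0,1,0,0,3,0,0,3,0,0,0,0,2,0,2,0,0,0,0,2,0,3,0,4,0,1,1,4,2,0,0,3,4,1,2,4,2,2,2,4,0],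
[0,0,0,0,0,0,0,0,0,0,0,3,1,0,0,0,1,4,0,0,2,0,2,3,2,0,2,0,3,0,2,4,1,0,3,0,3,3,1,0,1,0,1,0,0,0,4,0,4,0,0,2,0,2,0,4,1,0,0,4,0,1,4,2,0,3,0,0,0,4,2,4,0,0,3,3,0,2,0,1,4,0,3,0,3,0,0,2,1,2,0,0,0,3,0,3,4,0,0,3,0,4,4,1,1,0,3,4,1,2,2],
[0,0,0,0,0,0,0,0,0,0,0,1,0,0,0,0,2,1,0,4,4,0,2,0,1,0,1,0,3,0,0,2,0,2,2,0,0,3,4,0,4,0,3,0,4,0,4,1,2,0,0,3,0,4,0,4,0,3,0,3,0,2,2,4,0,2,0,3,0,3,0,1,0,0,3,1,0,3,0,0,2,3,2,0,1,0,0,1,3,2,0,2,0,0,0,1,4,2,4,4,0,0,0,2,3,1,3,1,1,2,2],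
[0,0,0,0,0,0,0,0,0,0,0,4,1,3,0,0,2,2,0,4,4,0,2,2,2,0,2,0,4,0,4,4,1,2,1,0,2,2,3,0,3,0,1,0,1,2,4,1,3,0,0,2,0,0,0,1,4,3,2,1,0,4,2,2,0,1,0,3,0,1,3,2,0,0,1,1,0,4,0,4,4,2,0,0,2,4,0,0,1,2,0,1,0,3,0,3,2,0,1,1,0,1,4,3,4,4,1,0,2,1,3],
[0,0,0,0,0,0,0,0,0,0,0,3,1,0,0,4,2,0,0,3,2,0,2,0,2,0,2,0,0,0,1,0,0,0,4,0,0,0,3,0,1,0,0,0,1,0,0,3,1,0,0,0,0,1,0,0,2,4,0,0,0,3,2,4,0,4,0,1,0,2,4,1,0,0,1,4,0,3,0,0,4,0,1,0,2,0,0,2,2,2,0,4,0,1,0,4,4,2,2,0,0,0,3,0,4,4,1,3,1,1,3],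
[0,0,0,0,0,0,0,0,0,0,0,0,0,0,0,0,2,1,0,2,1,0,0,2,0,0,2,0,2,0,1,2,4,1,4,0,3,2,2,0,3,0,4,0,3,1,1,1,0,0,0,4,0,3,0,4,3,1,3,1,0,1,4,1,0,4,0,3,0,3,1,4,0,0,3,4,0,4,0,4,4,0,4,0,4,0,0,1,2,0,0,0,0,4,0,4,2,4,2,2,0,1,0,1,3,0,1,1,3,3,4],
[0,0,0,0,0,0,0,0,0,0,0,2,3,0,0,2,2,3,0,4,1,0,3,1,2,0,2,0,1,0,1,0,2,1,3,0,1,1,3,0,2,0,2,0,0,4,3,3,0,0,0,2,0,2,0,1,1,3,2,3,0,0,2,2,0,1,0,2,0,4,3,4,0,0,3,4,0,4,0,2,1,0,4,0,2,0,0,2,1,0,0,4,0,2,0,2,4,3,3,1,0,2,1,0,1,4,2,2,2,0,1],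
[0,0,0,0,0,0,0,0,0,0,0,4,4,0,0,0,2,2,0,3,4,0,3,4,3,0,1,0,4,0,2,0,3,0,1,0,3,4,4,0,3,0,3,0,1,3,2,2,0,0,0,4,0,3,0,1,4,3,3,2,0,3,0,2,0,4,0,3,0,1,3,4,0,0,3,0,0,3,0,3,0,0,3,0,4,0,0,2,4,4,0,3,0,0,0,2,1,4,0,4,0,2,1,0,4,3,4,1,4,1,1],
[0,0,0,0,0,0,0,0,0,0,0,0,1,0,0,1,4,3,0,1,2,0,3,1,0,0,4,0,1,0,1,3,2,0,4,0,0,1,0,0,2,0,2,0,0,4,3,4,3,0,0,3,0,4,0,1,0,3,1,3,0,1,4,3,0,3,0,0,0,3,0,2,0,0,4,3,0,2,0,2,4,0,3,0,4,0,0,1,4,1,0,4,0,1,0,2,3,0,2,1,0,2,2,0,2,2,0,1,0,1,3],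
[0,0,0,0,0,0,0,0,0,0,0,1,1,0,0,0,4,2,0,1,2,0,2,4,1,0,2,0,4,0,4,1,3,4,0,0,2,4,2,0,1,0,3,0,3,3,2,4,3,0,0,4,0,1,0,0,4,0,4,2,0,4,2,0,0,4,0,2,0,3,1,3,0,0,0,3,0,4,0,3,2,0,0,0,2,0,0,4,4,0,0,2,0,0,0,0,2,0,1,4,0,0,4,3,3,1,3,1,3,2,3],
[0,0,0,0,0,0,0,0,0,0,0,0,3,0,0,4,3,2,0,2,0,0,1,4,2,0,1,0,4,0,2,2,3,0,1,0,2,4,4,0,1,0,3,0,2,3,2,4,4,0,0,0,0,3,0,0,4,0,3,2,0,2,0,2,0,0,0,4,0,0,0,3,0,0,1,2,0,3,0,3,3,0,3,0,4,0,0,2,0,2,0,0,0,1,0,0,0,2,4,4,0,3,3,4,0,4,4,4,3,4,3],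
[0,0,0,0,0,0,0,0,0,0,0,3,1,0,0,4,0,3,0,4,3,0,2,1,4,0,0,0,1,0,2,1,2,0,2,0,4,1,2,0,2,0,2,0,2,3,3,2,2,0,0,1,0,1,0,2,3,3,4,3,0,2,1,2,0,2,0,1,0,0,0,4,0,0,4,2,0,0,0,2,4,0,1,0,2,0,0,3,0,4,0,1,0,1,0,4,2,0,0,1,0,4,4,1,4,1,4,0,1,2,3],
[0,0,0,0,0,0,0,0,0,0,0,4,3,0,0,4,4,2,0,4,4,0,4,1,2,0,2,0,3,0,0,2,2,2,1,0,4,2,3,0,1,0,4,0,0,4,4,3,4,0,0,1,0,2,0,4,4,4,4,3,0,3,0,3,0,0,0,3,0,1,1,0,0,0,3,4,0,2,0,0,1,0,0,0,3,3,0,1,4,4,0,1,0,3,0,1,0,3,1,1,0,1,1,0,0,1,2,3,2,4,3],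
[0,0,0,0,0,0,0,0,0,0,0,2,2,0,0,1,0,4,0,0,2,0,0,3,2,0,0,0,3,0,2,2,1,3,2,0,4,3,4,0,4,0,1,0,0,0,4,1,2,0,0,2,0,0,0,4,3,1,3,4,0,1,1,1,0,4,0,0,0,1,4,1,0,0,0,0,0,2,0,1,0,0,3,0,3,0,0,1,2,2,0,0,0,0,0,0,2,0,2,3,0,0,1,2,4,0,0,3,4,0,0],
[0,0,0,0,0,0,0,0,0,0,0,0,4,0,0,0,0,1,0,0,0,0,4,2,3,0,1,0,2,0,2,4,4,0,0,0,1,2,1,0,4,0,4,0,3,3,1,3,4,0,0,1,0,0,0,3,0,3,2,1,0,1,1,1,0,4,0,2,0,2,2,3,0,0,0,4,0,1,0,4,1,0,1,0,1,0,0,0,0,2,0,0,0,3,0,4,2,4,3,2,0,0,2,3,1,1,2,0,4,3,1],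
[0,0,0,0,0,0,0,0,0,0,0,0,0,0,0,1,2,0,0,3,3,0,3,0,4,0,1,0,0,0,0,2,0,2,1,0,4,0,3,0,0,0,0,0,2,3,0,4,0,0,0,0,0,0,0,2,0,2,3,0,0,1,4,1,0,4,0,3,0,2,0,1,0,0,0,1,0,2,0,0,3,0,0,0,1,0,0,4,3,0,0,3,0,1,0,4,4,4,2,0,0,2,1,4,0,1,4,3,1,1,2],
[0,0,0,0,0,0,0,0,0,0,0,1,2,2,0,2,0,4,0,0,0,0,0,3,4,0,1,0,0,0,4,3,3,1,3,0,2,4,0,0,2,0,4,0,4,4,4,0,2,0,0,0,0,1,0,1,3,3,3,3,0,3,3,3,0,2,0,4,0,1,0,1,0,0,0,2,0,2,0,1,4,2,2,0,3,0,0,3,2,4,0,0,0,0,0,2,1,4,3,0,0,4,0,4,4,0,3,2,1,0,3],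
[0,0,0,0,0,0,0,0,0,0,0,3,1,0,0,3,1,4,0,1,3,0,3,4,4,0,1,0,4,0,1,3,1,3,3,0,3,1,1,0,3,0,0,0,1,4,1,3,2,0,0,2,0,3,0,0,2,3,2,0,0,4,0,1,0,3,0,1,0,1,0,4,0,0,2,3,0,3,0,1,3,1,2,0,3,2,0,4,2,4,0,0,0,3,0,3,4,2,3,2,0,4,1,0,3,2,1,4,0,3,2],
[0,0,0,0,0,0,0,0,0,0,0,0,3,0,0,4,1,1,0,1,1,0,4,2,2,0,1,0,2,0,4,2,4,2,3,0,1,2,0,0,4,0,4,0,3,3,1,1,4,0,0,2,0,0,0,4,3,3,2,1,0,4,2,0,0,2,0,3,0,0,3,1,0,0,1,4,0,4,0,4,3,0,0,0,2,0,0,4,1,4,0,0,0,4,0,1,1,1,4,2,0,2,0,4,4,4,1,0,1,1,4],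
[0,0,0,0,0,0,0,0,0,0,0,0,0,0,0,0,0,0,0,0,0,0,0,0,0,0,0,0,0,0,0,0,0,0,0,0,0,0,0,0,0,0,0,0,0,0,0,0,0,0,0,0,0,0,0,0,0,0,0,0,0,0,0,0,0,0,0,0,0,0,0,0,0,0,0,0,0,0,0,0,0,0,0,0,0,0,0,0,0,0,0,0,0,0,0,0,0,0,0,0,0,0,0,0,1,4,0,0,0,0,0],
[0,0,0,0,0,0,0,0,0,0,0,0,0,0,0,0,0,0,0,0,0,0,0,0,0,0,0,0,0,0,0,0,0,0,0,0,0,0,0,0,0,0,0,0,0,0,0,0,0,0,0,0,0,0,0,0,0,0,0,0,0,0,0,0,0,0,0,0,0,0,0,0,0,0,0,0,0,0,0,0,0,0,0,0,0,0,0,0,0,0,0,0,0,0,0,0,0,0,0,0,0,0,0,0,0,1,0,0,0,0,0],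
[0,0,0,0,0,0,0,0,0,0,0,0,0,0,0,0,0,0,0,0,0,0,0,0,0,0,0,0,0,0,0,0,0,0,0,0,0,0,0,0,0,0,0,0,0,0,0,0,0,0,0,0,0,0,0,0,0,0,0,0,0,0,0,0,0,0,0,0,0,0,0,0,0,0,0,0,0,0,0,0,0,0,0,0,0,0,0,0,0,0,0,0,0,0,0,0,0,0,0,0,0,0,0,0,0,0,1,4,3,0,0],
[0,0,0,0,0,0,0,0,0,0,0,0,0,0,0,0,0,0,0,0,0,0,0,0,0,0,0,0,0,0,0,0,0,0,0,0,0,0,0,0,0,0,0,0,0,0,0,0,0,0,0,0,0,0,0,0,0,0,0,0,0,0,0,0,0,0,0,0,0,0,0,0,0,0,0,0,0,0,0,0,0,0,0,0,0,0,0,0,0,0,0,0,0,0,0,0,0,0,0,0,0,0,0,0,0,0,0,1,4,0,0],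
[0,0,0,0,0,0,0,0,0,0,0,0,0,0,0,0,0,0,0,0,0,0,0,0,0,0,0,0,0,0,0,0,0,0,0,0,0,0,0,0,0,0,0,0,0,0,0,0,0,0,0,0,0,0,0,0,0,0,0,0,0,0,0,0,0,0,0,0,0,0,0,0,0,0,0,0,0,0,0,0,0,0,0,0,0,0,0,0,0,0,0,0,0,0,0,0,0,0,0,0,0,0,0,0,0,0,0,0,1,0,0],
[0,0,0,0,0,0,0,0,0,0,0,0,0,0,0,0,0,0,0,0,0,0,0,0,0,0,0,0,0,0,0,0,0,0,0,0,0,0,0,0,0,0,0,0,0,0,0,0,0,0,0,0,0,0,0,0,0,0,0,0,0,0,0,0,0,0,0,0,0,0,0,0,0,0,0,0,0,0,0,0,0,0,0,0,0,0,0,0,0,0,0,0,0,0,0,0,0,0,0,0,0,0,0,0,0,0,0,0,0,1,4],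
[0,0,0,0,0,0,0,0,0,0,0,0,0,0,0,0,0,0,0,0,0,0,0,0,0,0,0,0,0,0,0,0,0,0,0,0,0,0,0,0,0,0,0,0,0,0,0,0,0,0,0,0,0,0,0,0,0,0,0,0,0,0,0,0,0,0,0,0,0,0,0,0,0,0,0,0,0,0,0,0,0,0,0,0,0,0,0,0,0,0,0,0,0,0,0,0,0,0,0,0,0,0,0,0,0,0,0,0,0,0,1]]

noncomputable def tabCi : List (List ℕ) := [[1,0,1,2,4,3,3,0,0,3,4,3,1,2,2,0,3,3,4,0,1,0,0,1,4,0,3,2,1,1,2,3,0,3,1,3,3,0,4,1,0,4,0,3,4,0,4,1,2,3,3,1,3,3,4,2,3,1,3,1,0,1,2,2,0,0,3,3,2,0,2,1,3,3,0,1,2,4,4,0,0,3,2,1,3,3,2,4,0,1,1,4,2,0,1,1,1,3,4,2,3,4,0,3,3,1,4,4,4,1,4],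
[0,1,0,4,4,2,2,0,0,1,3,0,0,4,0,2,0,2,2,0,1,0,0,1,1,0,1,0,1,2,4,3,2,0,4,1,4,0,3,1,1,1,0,3,0,4,2,0,0,0,2,3,3,1,3,2,2,2,0,4,4,2,1,4,1,3,4,0,2,4,1,3,1,0,3,0,4,4,1,3,4,4,2,1,2,0,4,3,3,2,2,3,4,3,3,1,2,4,2,0,4,2,0,1,1,0,2,3,0,1,0],
[0,0,1,0,0,4,1,0,0,1,0,3,4,3,1,3,3,4,0,4,1,4,2,1,1,2,1,2,3,1,3,1,1,0,2,3,4,2,2,1,3,3,1,0,4,0,1,4,1,0,4,3,0,2,0,0,0,3,2,3,3,0,4,2,3,0,0,4,1,0,3,2,0,2,1,0,2,0,3,4,3,2,2,4,2,3,4,3,1,2,2,0,2,1,1,0,2,3,1,0,2,3,0,1,3,1,2,3,2,0,0],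
[0,0,0,1,0,1,2,0,0,1,2,1,3,0,0,1,3,0,4,3,2,1,3,4,1,1,2,0,0,1,1,4,1,2,4,4,4,2,4,4,2,3,4,1,3,1,2,1,2,0,0,0,0,1,3,1,1,0,4,4,4,2,3,0,2,0,3,0,3,4,3,4,4,2,0,4,4,0,0,1,0,4,4,2,4,1,0,1,2,2,1,2,1,4,0,0,0,0,3,4,0,2,0,4,0,4,1,0,0,0,0],
[0,0,0,0,1,0,4,0,0,0,2,1,2,4,4,1,0,0,0,2,0,2,0,3,3,0,4,4,1,1,1,2,4,1,4,1,4,0,1,4,2,1,4,4,2,3,0,3,3,1,2,4,1,3,2,2,0,4,2,1,2,3,1,1,0,3,4,0,3,2,3,4,2,3,0,4,3,1,4,2,0,0,4,2,4,3,2,0,0,2,2,0,4,1,4,3,4,1,4,2,2,3,3,0,0,4,4,1,1,0,0],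
[0,0,0,0,0,1,0,0,0,3,4,2,1,1,4,0,4,1,2,0,3,2,4,4,1,3,3,4,0,1,0,4,0,2,0,2,0,2,3,0,0,4,1,0,0,1,2,4,0,0,2,1,4,2,2,1,0,2,0,4,2,4,3,3,3,0,3,0,2,1,4,3,3,3,0,1,2,0,0,0,3,0,2,4,1,2,0,1,3,2,4,4,1,1,0,4,0,4,4,0,1,0,3,3,0,2,3,3,2,0,3],
[0,0,0,0,0,0,1,0,0,1,0,4,0,2,1,0,3,0,0,0,0,2,4,3,2,2,4,2,4,3,0,4,0,0,0,4,4,3,1,4,1,0,3,1,0,3,3,1,0,1,0,2,0,0,0,2,1,0,3,4,2,1,0,0,1,3,1,2,2,3,0,1,4,0,2,2,2,1,4,3,4,1,1,4,4,1,3,4,2,1,0,1,0,1,3,3,2,1,3,4,4,1,4,2,4,4,0,2,2,4,1],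
[0,0,0,0,0,0,0,1,0,0,0,0,0,2,4,0,2,0,1,0,4,1,0,3,3,4,0,3,0,0,0,4,2,0,0,4,0,2,4,3,0,3,0,3,0,2,2,0,0,3,3,0,0,0,1,0,2,1,0,0,0,0,0,2,4,0,3,1,0,0,4,0,4,1,0,0,0,0,3,0,3,4,0,4,0,4,1,0,1,1,2,0,1,4,3,0,1,3,0,2,4,0,0,2,3,3,2,0,0,3,3],
[0,0,0,0,0,0,0,0,1,0,0,0,0,0,2,0,3,4,0,0,1,1,0,0,0,1,0,3,4,1,0,2,0,0,0,4,0,0,2,1,0,1,2,3,0,0,4,0,0,3,4,0,2,1,2,0,0,0,0,0,0,0,3,0,3,0,0,1,0,0,1,0,1,2,0,0,1,0,3,1,3,1,0,4,0,3,3,0,2,1,3,0,1,3,4,0,1,1,0,0,1,0,4,4,3,1,2,2,4,4,3],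
[0,0,0,0,0,0,0,0,0,0,0,1,0,4,1,0,3,3,2,0,0,0,0,1,3,3,0,0,2,1,0,3,4,0,0,2,0,3,3,0,0,1,1,1,0,1,3,0,0,1,3,0,0,3,1,0,3,2,0,1,1,0,1,2,4,0,2,0,4,0,1,0,2,3,0,3,2,0,3,0,0,0,0,3,0,1,0,0,0,2,3,0,0,4,3,0,0,2,0,3,0,0,0,2,1,2,1,2,4,1,4],
[0,0,0,0,0,0,0,0,0,0,0,0,1,1,2,0,2,0,1,0,4,4,0,0,0,1,0,4,4,2,0,2,3,0,0,1,0,0,1,4,0,0,4,2,0,3,3,0,0,0,4,0,0,1,3,0,3,0,0,3,0,0,0,1,4,0,3,3,0,0,4,0,0,0,0,3,0,0,0,2,4,4,0,4,0,0,4,0,1,2,1,0,2,0,3,0,4,1,0,4,2,0,3,0,0,1,2,2,2,3,0],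
[0,0,0,0,0,0,0,0,0,0,0,0,0,4,3,1,2,4,1,0,3,1,0,1,2,0,0,3,1,4,0,0,0,0,0,4,0,2,0,4,0,1,1,4,0,1,0,0,0,0,3,0,4,3,4,0,4,2,0,0,3,0,0,1,4,0,4,2,2,0,2,0,1,0,0,0,1,0,0,4,2,1,0,0,0,4,2,0,0,1,3,0,0,2,4,0,2,2,0,4,0,0,1,0,1,2,0,4,0,4,1],
[0,0,0,0,0,0,0,0,0,0,0,0,0,2,4,0,2,1,0,1,4,2,0,0,0,2,0,2,1,2,0,1,3,0,0,4,0,2,0,1,0,4,0,3,0,0,2,0,0,3,1,0,2,3,1,0,3,3,0,0,2,0,3,4,4,0,3,0,4,0,3,0,4,4,0,1,1,0,4,3,4,3,0,3,0,1,3,0,3,0,2,0,2,4,3,0,2,4,0,2,2,0,4,0,1,2,0,3,2,3,1],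
[0,0,0,0,0,0,0,0,0,0,0,0,0,4,1,0,0,2,2,0,0,4,1,3,1,1,0,0,0,3,0,1,3,0,0,3,0,2,4,3,0,0,3,3,0,2,4,0,0,3,4,0,2,2,2,0,0,1,0,0,1,0,2,3,0,0,1,1,0,0,2,0,0,2,0,0,1,0,3,4,3,2,0,3,0,3,3,0,0,4,3,0,3,1,1,0,2,2,0,2,4,0,3,4,0,0,3,0,4,1,4],
[0,0,0,0,0,0,0,0,0,0,0,0,0,4,4,0,0,2,0,0,0,2,0,1,2,0,1,4,1,1,0,2,2,0,0,1,0,1,3,2,0,3,2,1,0,4,4,0,0,1,2,0,1,3,2,0,1,2,0,2,2,0,4,0,0,0,1,2,4,0,3,0,2,1,0,0,4,0,2,1,1,3,0,3,0,1,3,0,0,0,0,0,1,3,4,0,4,4,0,1,4,0,1,3,3,0,0,0,2,4,3],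
[0,0,0,0,0,0,0,0,0,0,0,0,0,4,1,0,0,2,3,0,4,0,0,2,2,0,0,0,2,2,1,1,1,0,0,2,0,4,3,4,0,1,0,3,0,4,0,0,0,4,1,0,4,0,4,0,1,0,0,1,3,0,1,4,2,0,2,4,4,0,2,0,0,2,0,0,4,0,2,3,2,1,0,0,0,2,2,0,4,1,0,0,1,2,0,0,4,2,0,3,1,0,2,1,0,2,1,4,4,0,3],
[0,0,0,0,0,0,0,0,0,0,0,0,0,1,0,0,1,1,2,0,0,3,0,0,2,1,0,4,0,1,0,3,2,1,0,0,0,0,2,0,0,0,4,2,0,3,3,0,0,0,1,0,1,2,4,0,3,2,0,3,2,0,2,2,4,0,0,4,3,0,2,0,0,0,0,4,0,0,3,3,4,0,0,0,0,4,0,0,3,1,4,0,1,1,3,0,3,1,0,2,4,0,0,4,2,2,2,1,4,2,3],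
[0,0,0,0,0,0,0,0,0,0,0,0,0,2,2,0,0,4,3,0,0,3,0,1,1,4,0,0,0,4,0,1,3,0,0,3,1,1,4,1,0,3,1,3,0,2,0,0,0,4,0,0,1,0,4,0,2,1,0,3,4,0,2,1,0,0,2,1,3,0,1,0,0,0,0,0,2,0,4,4,3,3,0,4,0,4,2,0,0,1,0,0,3,0,4,0,1,2,0,2,0,0,3,1,4,4,2,3,2,3,4],
[0,0,0,0,0,0,0,0,0,0,0,0,0,0,3,0,0,1,4,0,0,4,0,2,3,1,0,0,4,3,0,3,1,0,0,1,0,0,2,0,1,3,4,1,0,1,4,0,0,2,1,0,2,4,1,0,0,3,0,1,2,0,1,0,0,0,2,4,1,0,2,0,2,2,0,0,0,0,0,2,4,3,0,3,0,0,0,0,0,4,0,0,0,4,4,0,2,1,0,0,4,0,4,0,4,0,0,3,0,0,3],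
[0,0,0,0,0,0,0,0,0,0,0,0,0,2,3,0,4,3,3,0,3,0,0,2,1,0,0,3,0,1,0,0,2,0,0,4,0,1,4,0,0,4,1,4,1,1,2,0,0,3,3,0,3,3,3,0,0,3,0,1,2,0,0,3,2,0,2,3,2,0,2,0,2,0,0,3,2,0,1,2,1,4,0,3,0,0,1,0,0,2,3,0,0,1,2,0,4,1,0,1,2,0,0,1,2,3,2,3,1,4,3],
[0,0,0,0,0,0,0,0,0,0,0,0,0,1,1,0,3,2,3,0,3,1,0,4,0,3,0,1,1,1,0,1,0,0,0,4,0,0,2,3,0,4,4,0,0,3,4,1,0,1,3,0,0,0,1,0,3,3,0,2,0,0,3,4,4,0,1,2,2,0,4,0,0,1,0,0,1,0,0,4,2,1,0,4,0,0,4,0,2,2,0,0,0,4,1,0,2,0,0,2,0,0,1,0,2,4,3,0,2,0,1],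
[0,0,0,0,0,0,0,0,0,0,0,0,0,1,2,0,0,3,0,0,0,1,0,1,3,0,0,2,1,0,0,3,3,0,0,3,0,2,2,4,0,4,2,1,0,1,0,0,0,0,1,1,0,3,3,0,1,3,0,1,0,0,1,4,1,0,1,1,2,0,2,0,0,3,0,0,3,0,0,4,4,1,0,3,0,1,3,0,0,2,2,0,3,3,1,0,2,1,0,1,4,0,4,3,2,4,2,2,1,3,3],
[0,0,0,0,0,0,0,0,0,0,0,0,0,4,3,0,0,3,1,0,0,3,0,4,0,4,0,3,2,0,0,0,4,0,0,1,0,0,0,0,0,4,0,1,0,0,1,0,0,1,1,0,2,3,4,1,0,0,0,3,4,0,0,3,0,0,0,3,2,0,3,0,2,4,0,0,4,0,4,2,0,3,0,4,0,2,1,0,0,0,2,0,1,3,3,0,0,0,0,1,2,0,0,2,4,0,0,3,2,1,3],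
[0,0,0,0,0,0,0,0,0,0,0,0,0,3,1,0,0,0,2,0,0,0,0,2,4,2,0,3,0,0,0,4,3,0,0,2,0,3,1,1,0,2,0,4,0,3,3,0,0,4,3,0,0,3,1,0,1,4,1,0,1,0,3,4,0,0,4,2,0,0,4,0,2,2,0,0,3,0,4,1,2,0,0,2,0,4,3,0,0,3,4,0,4,0,0,0,4,3,0,1,4,0,2,0,3,0,0,3,2,0,3],
[0,0,0,0,0,0,0,0,0,0,0,0,0,2,1,0,0,3,2,0,0,4,0,0,0,2,0,1,3,2,0,0,3,0,0,3,0,2,0,0,0,4,0,0,0,2,1,0,0,1,2,0,1,0,4,0,3,3,0,4,0,1,2,3,1,0,2,0,0,0,4,0,0,1,0,0,1,0,2,0,0,3,0,4,0,2,2,0,1,1,1,0,3,3,1,0,0,3,0,1,0,0,4,3,4,3,2,2,4,3,4],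
[0,0,0,0,0,0,0,0,0,0,0,0,0,3,4,0,0,4,1,0,0,2,0,4,1,4,0,1,1,4,0,1,3,0,0,4,0,2,4,0,0,2,2,0,0,2,4,0,0,0,2,0,0,2,4,0,1,1,0,3,2,0,2,0,4,1,0,1,1,0,4,0,1,4,0,0,2,0,1,3,3,4,0,1,0,0,4,0,0,2,2,0,0,1,3,0,2,2,0,4,1,0,3,4,0,0,0,4,0,0,1],
[0,0,0,0,0,0,0,0,0,0,0,0,0,4,3,0,0,4,0,0,0,3,0,1,4,4,0,1,4,3,0,4,0,0,0,1,0,2,1,3,0,0,1,4,0,3,3,0,0,1,4,0,1,2,3,0,1,4,0,4,2,0,3,0,4,0,2,4,1,1,0,0,4,2,0,0,3,0,2,2,2,2,0,1,0,2,4,0,0,4,3,0,4,3,3,0,2,3,0,1,4,0,2,3,0,1,3,1,0,1,4],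
[0,0,0,0,0,0,0,0,0,0,0,0,0,1,1,0,0,3,2,0,0,4,0,2,2,1,0,1,4,0,0,2,1,0,0,2,0,4,3,1,0,4,0,3,0,4,3,0,0,3,2,0,4,0,4,0,4,2,0,2,4,0,4,2,0,0,1,3,4,0,1,1,4,4,0,0,3,0,4,1,1,1,0,1,0,3,3,0,0,3,4,0,2,3,3,0,2,4,0,4,4,0,1,0,0,4,4,0,4,3,2],
[0,0,0,0,0,0,0,0,0,0,0,0,0,1,4,0,0,3,1,0,0,0,0,1,3,3,0,4,1,0,0,3,2,0,0,4,0,0,2,4,0,1,0,3,0,1,0,0,0,4,1,0,2,0,1,0,2,3,0,1,0,0,1,4,4,0,1,0,3,0,3,0,1,1,1,0,1,0,4,4,4,0,0,2,0,0,0,0,0,4,3,0,3,0,0,0,4,1,0,0,3,0,4,2,2,4,4,3,2,4,4],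
[0,0,0,0,0,0,0,0,0,0,0,0,0,1,2,0,0,3,1,0,0,3,0,0,4,4,0,2,3,0,0,4,2,0,0,4,0,4,1,2,0,1,0,3,0,3,0,0,0,4,2,0,2,1,1,0,3,4,0,3,1,0,3,3,4,0,1,2,4,0,3,0,3,2,0,0,1,1,2,4,2,0,0,0,0,1,4,0,0,4,3,0,1,1,3,0,3,3,0,1,0,0,2,1,0,0,2,2,2,2,0],
[0,0,0,0,0,0,0,0,0,0,0,0,0,3,2,0,4,0,0,0,2,4,0,0,2,0,0,3,3,2,0,0,0,0,4,4,0,1,3,0,0,4,3,3,0,1,4,0,0,1,2,0,3,1,3,0,0,4,0,0,1,0,2,2,4,0,1,1,1,0,4,0,2,3,0,0,1,0,4,4,0,1,0,1,0,1,4,0,3,4,3,0,0,1,4,0,1,3,0,0,3,0,0,4,2,4,1,4,4,4,2],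
[0,0,0,0,0,0,0,0,0,0,0,0,0,4,2,0,2,4,4,0,4,0,0,0,0,2,0,1,3,4,0,0,4,0,0,2,0,4,3,3,0,4,3,0,0,2,2,0,0,3,2,0,0,3,1,0,1,2,0,1,3,0,2,2,2,0,1,3,4,0,0,0,2,3,0,1,0,0,4,1,3,4,1,4,0,4,4,0,1,4,1,0,1,1,4,0,0,0,0,0,2,0,4,1,1,1,4,4,0,2,1],
[0,0,0,0,0,0,0,0,0,0,0,0,0,4,0,0,0,1,0,0,0,1,0,1,2,2,0,3,0,3,0,2,2,0,0,1,0,0,3,4,0,3,3,0,0,4,2,0,0,1,2,0,3,0,1,0,4,2,0,2,4,0,4,1,3,0,2,1,4,0,1,0,0,0,0,0,0,0,0,3,1,0,0,3,1,4,0,0,0,0,1,0,2,3,0,0,2,4,0,2,2,0,1,2,2,1,2,1,1,2,0],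
[0,0,0,0,0,0,0,0,0,0,0,0,0,3,2,0,0,4,2,0,3,0,0,4,2,4,0,3,1,4,0,0,0,0,0,1,0,1,3,4,0,3,4,4,0,2,2,0,0,0,4,0,0,0,0,0,0,2,0,0,2,0,4,0,0,0,1,2,4,0,1,0,0,3,0,2,2,0,0,0,0,4,0,0,0,4,3,1,4,0,4,0,2,1,3,0,1,2,0,3,2,0,2,1,4,4,0,0,1,4,3],
[0,0,0,0,0,0,0,0,0,4,0,0,0,3,1,0,0,2,1,0,1,3,0,0,2,0,0,1,3,0,0,3,0,0,0,0,0,1,4,3,0,0,2,2,0,2,2,0,0,3,4,0,3,1,3,0,3,2,0,0,3,0,2,2,2,0,3,2,4,0,1,0,1,0,0,0,2,0,3,0,1,4,0,4,0,4,4,0,0,2,1,0,0,2,0,0,1,1,0,0,0,0,3,0,1,0,2,3,4,2,3],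
[0,0,0,0,0,0,0,0,0,0,0,0,0,3,1,0,0,0,3,0,0,1,0,1,2,1,0,2,1,1,0,2,2,0,0,4,0,0,3,3,0,1,2,3,0,4,0,0,0,0,3,0,3,3,2,0,1,2,0,2,4,0,4,0,2,0,3,3,3,0,3,0,2,1,0,0,0,0,4,4,1,4,0,0,0,2,3,0,0,3,3,1,1,0,1,0,1,4,0,2,3,0,1,0,1,4,3,1,2,4,4],
[0,0,0,0,0,0,0,0,0,0,0,0,0,1,2,0,0,1,3,0,0,2,0,3,2,4,0,2,4,2,0,2,1,0,0,4,0,2,3,2,0,0,0,1,0,4,3,0,0,3,1,0,4,3,3,0,4,2,0,1,4,0,4,0,4,0,0,2,1,0,0,0,3,1,0,0,4,0,0,1,1,4,0,1,0,2,0,0,0,0,4,0,2,4,1,1,3,4,0,4,4,0,1,1,1,2,0,2,4,3,3],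
[0,0,0,0,0,0,0,0,0,0,0,0,0,4,3,0,0,2,1,0,0,3,0,1,3,1,0,4,2,4,0,3,3,0,0,2,0,3,2,3,0,2,3,3,0,1,3,0,0,0,3,0,2,3,1,0,1,3,0,0,2,0,1,0,4,0,1,2,1,0,4,0,1,3,0,0,1,0,4,4,4,4,0,4,0,1,3,0,0,1,4,0,4,0,4,0,0,1,1,0,2,0,4,2,3,1,1,2,2,1,0],
[0,0,0,0,0,0,0,0,0,0,0,0,0,1,0,0,4,4,0,0,3,2,0,1,4,2,0,2,1,3,0,1,1,0,0,0,0,1,0,4,0,1,1,4,0,0,2,0,0,2,3,0,1,4,4,0,1,4,0,2,3,0,3,1,3,0,4,4,3,0,2,0,2,0,0,3,1,0,2,1,1,2,0,0,0,4,1,0,4,3,0,0,4,4,2,0,3,2,0,4,3,1,1,4,2,3,2,3,1,4,1],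
[0,0,0,0,0,0,0,0,0,0,0,0,0,3,3,0,0,2,4,0,0,1,0,1,3,1,0,0,4,4,0,3,2,0,0,3,0,0,2,3,0,3,3,0,0,1,4,0,0,3,1,0,0,4,4,0,2,3,0,4,1,0,1,4,1,0,0,4,0,0,2,0,1,4,0,0,0,0,4,1,4,2,0,3,0,1,0,0,0,0,1,0,3,3,0,0,2,1,0,1,0,0,4,1,1,3,3,3,1,2,2],
[0,0,0,0,0,0,0,0,0,0,0,0,0,2,1,0,0,4,4,0,0,1,0,1,2,3,0,3,1,0,0,2,0,0,0,2,0,3,3,3,0,4,3,2,0,4,0,0,0,2,2,0,1,0,0,0,3,2,0,0,1,0,4,2,4,0,1,4,1,0,0,0,4,4,0,0,1,0,0,0,1,4,0,0,0,2,1,0,0,2,3,0,1,2,4,0,3,4,0,2,3,0,1,4,3,1,1,1,3,4,1],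
[0,0,0,0,0,0,0,0,0,0,0,0,0,3,2,0,0,0,1,0,0,1,0,2,3,2,0,0,2,1,0,3,2,0,0,4,0,1,2,1,0,3,4,4,0,1,1,0,0,2,0,0,4,2,2,0,2,3,0,4,4,0,1,3,0,0,0,2,3,0,1,0,0,4,0,0,4,0,4,0,4,2,0,3,0,1,4,0,0,2,1,0,4,1,0,0,3,1,0,3,2,0,4,3,0,2,2,1,0,1,4],
[0,0,0,0,0,0,0,0,0,0,0,0,0,1,3,0,0,3,0,0,0,3,0,2,4,3,0,2,4,2,0,4,2,0,0,1,0,2,1,1,0,3,4,4,0,3,2,0,0,3,0,0,0,0,2,0,0,4,0,0,4,0,3,2,0,0,1,0,2,0,1,0,4,0,0,0,4,0,3,3,2,4,0,3,0,3,3,0,0,1,3,0,1,1,2,0,1,3,0,0,2,0,2,0,3,0,4,2,3,1,1],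
[0,0,0,0,0,0,0,0,0,0,0,0,0,3,3,0,0,3,2,0,0,1,0,0,3,3,0,2,0,3,0,3,1,0,0,4,0,4,2,4,0,3,2,2,0,1,1,0,0,3,0,0,4,2,4,0,0,3,0,2,0,0,1,1,4,0,2,0,4,0,4,0,1,1,0,0,3,0,0,4,4,1,0,4,0,3,4,0,0,1,4,0,4,0,4,0,2,1,0,2,0,0,4,1,0,3,0,4,2,0,0],
[0,0,0,0,0,0,0,0,0,0,0,0,0,3,0,0,1,3,2,0,2,3,0,4,4,4,0,0,3,0,0,3,1,0,0,2,0,3,4,0,0,4,3,0,0,3,3,0,4,2,3,0,3,1,4,0,0,1,0,3,2,0,2,3,2,0,4,1,2,0,2,0,3,4,0,4,3,0,3,3,2,3,0,2,0,1,4,0,1,3,4,0,4,4,0,0,1,4,0,2,2,0,3,2,1,1,1,1,3,4,2],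
[0,0,0,0,0,0,0,0,0,0,0,0,0,2,3,0,4,1,0,0,3,0,0,3,2,1,0,4,4,1,0,1,0,0,0,0,0,3,4,3,0,4,0,1,0,0,1,0,0,2,4,0,0,1,1,0,4,3,0,2,2,0,1,3,2,0,4,0,1,0,2,0,2,1,0,0,1,0,1,3,3,3,0,1,0,4,2,0,1,3,3,0,3,4,1,0,1,3,0,3,2,0,3,1,3,2,2,0,0,4,1],
[0,0,0,0,0,0,0,0,0,0,0,0,0,0,0,0,0,4,4,0,0,3,0,0,4,1,0,0,3,0,0,4,1,0,0,2,0,1,1,1,0,4,0,0,0,3,4,0,0,4,4,0,0,0,3,0,1,4,0,0,4,0,3,2,3,0,0,4,4,0,1,0,0,4,0,0,0,0,4,0,2,3,0,0,0,4,1,0,0,4,2,0,2,0,2,0,4,3,0,1,3,0,2,0,3,2,0,0,3,3,0],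
[0,0,0,0,0,0,0,0,0,0,0,0,0,1,2,0,0,1,2,0,4,3,0,0,1,1,0,2,1,3,0,1,2,0,0,1,0,3,1,0,0,0,3,0,0,1,4,0,0,1,1,0,3,4,0,0,3,0,0,1,1,0,3,0,3,0,1,3,4,0,1,0,3,0,0,3,1,0,3,3,3,1,0,4,0,0,1,0,3,4,0,0,0,1,0,0,2,3,0,1,3,0,0,2,4,4,1,1,1,4,0],
[0,0,0,0,0,0,0,0,0,0,4,0,0,0,0,0,4,4,1,0,3,0,0,4,4,1,0,1,1,0,0,0,4,0,0,0,0,4,1,0,0,3,0,1,0,2,2,0,0,2,4,0,1,3,3,0,1,1,0,2,2,0,4,0,3,0,0,3,0,0,2,0,1,1,0,1,1,0,1,3,0,2,0,0,0,1,4,0,2,4,1,0,2,2,1,0,0,2,0,0,2,0,0,0,2,1,2,2,4,1,0],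
[0,0,0,0,0,0,0,0,0,0,0,0,0,3,4,0,0,3,4,0,0,0,0,2,4,3,0,2,2,4,0,4,1,0,0,4,0,0,1,4,0,4,4,2,0,3,4,0,0,4,1,0,3,3,1,0,2,4,0,2,4,0,3,0,3,0,4,3,2,0,2,0,2,0,0,0,3,0,1,4,2,4,0,0,0,3,1,0,0,3,3,0,1,2,0,0,2,3,0,2,1,0,2,0,4,3,4,4,4,2,1],
[0,0,0,0,0,0,0,0,0,0,0,0,0,3,2,0,0,2,3,0,0,2,0,2,2,1,0,4,3,1,0,2,4,0,0,4,0,4,3,4,0,0,3,2,0,4,1,0,0,2,4,0,4,4,1,0,1,2,0,2,3,0,4,3,3,0,0,3,3,0,0,0,0,4,0,0,3,0,4,4,1,3,0,3,0,0,1,0,0,1,1,0,0,0,4,0,2,4,0,4,1,0,1,1,3,3,2,4,0,0,3],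
[0,0,0,0,0,0,0,0,0,0,0,0,0,0,1,0,0,2,3,0,0,1,0,3,0,2,0,4,2,3,0,0,4,0,0,2,0,3,0,0,0,4,0,0,0,0,1,0,0,1,1,0,3,1,0,0,3,0,0,4,2,0,0,4,3,0,0,0,1,0,0,0,0,1,0,0,0,0,3,1,0,2,0,4,0,3,2,0,0,0,2,0,0,4,1,0,0,0,0,2,0,0,0,1,0,3,3,4,0,3,4],
[0,0,0,0,0,0,0,0,0,0,0,0,0,3,4,0,0,1,4,0,0,2,0,1,4,2,0,0,2,0,0,4,3,0,0,3,0,4,1,3,0,3,3,0,0,3,3,0,0,1,0,0,1,4,4,0,1,4,0,0,4,0,3,2,1,0,4,2,3,0,4,0,3,1,0,0,2,0,1,2,2,2,0,3,0,2,3,0,0,2,3,0,3,1,3,0,1,3,0,1,1,0,2,2,2,4,4,1,3,0,2],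
[0,0,0,0,0,0,0,0,0,0,0,0,0,0,4,0,0,3,0,0,0,4,0,1,3,3,0,0,1,4,0,3,4,0,0,0,0,4,2,1,0,2,4,0,0,1,1,0,0,0,1,0,0,2,1,0,4,3,0,1,4,0,1,3,1,0,1,0,0,0,4,0,2,4,0,0,0,0,2,3,4,0,0,0,0,3,1,0,0,2,4,0,2,0,3,0,4,1,0,3,0,0,4,3,3,2,3,0,1,0,2],
[0,0,0,0,0,0,0,0,0,0,0,0,0,2,1,0,0,2,2,0,0,0,0,1,3,2,0,0,2,2,0,3,2,0,0,0,0,2,2,4,0,4,2,4,0,1,0,0,0,0,1,0,1,0,4,0,4,3,0,4,4,0,1,4,4,0,3,2,1,0,2,0,2,0,0,0,0,0,3,0,4,3,0,2,0,0,1,0,0,4,3,0,1,2,4,0,2,1,0,2,2,0,4,4,4,2,0,4,1,2,0],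
[0,0,0,0,0,0,0,0,0,0,0,0,0,3,1,0,0,2,3,0,0,4,0,1,4,4,0,4,1,4,0,4,2,0,0,2,0,0,1,4,0,0,0,2,0,3,2,0,0,2,1,0,4,1,1,0,3,4,0,1,3,0,3,0,1,0,3,2,1,0,3,0,4,0,0,0,0,0,2,2,2,0,0,0,0,1,3,0,0,1,2,0,1,1,2,0,3,3,0,1,1,0,2,2,1,4,1,2,4,1,0],
[0,0,0,0,0,0,0,0,0,0,0,0,0,0,0,0,0,0,0,0,0,2,0,3,4,0,0,1,2,4,0,4,3,0,0,2,0,4,1,0,0,3,3,3,0,3,1,0,0,1,2,0,2,3,0,0,4,4,0,1,1,0,3,3,1,0,3,3,2,0,0,0,3,0,0,0,0,0,2,1,2,0,0,2,0,3,1,0,0,2,0,0,0,0,0,0,1,3,0,3,2,0,2,1,1,4,2,1,0,3,2],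
[0,0,0,0,0,0,0,0,0,0,0,0,0,1,2,0,4,0,3,0,3,4,0,0,0,2,0,3,0,1,0,1,1,0,0,4,0,1,4,2,0,3,1,4,0,0,4,0,0,0,3,0,0,1,0,0,2,1,0,3,0,0,2,4,0,0,2,2,4,0,0,0,3,3,0,1,0,0,2,3,3,3,0,4,0,1,0,0,0,3,1,0,0,2,3,0,3,4,0,1,2,0,0,0,3,4,0,3,2,2,0],
[0,0,0,0,0,0,0,0,0,0,0,0,0,2,3,0,0,1,1,0,0,4,0,3,2,2,0,0,0,1,0,2,2,0,0,1,0,1,3,4,0,4,3,2,0,4,1,0,0,1,3,0,4,0,1,0,4,2,0,2,3,0,4,0,1,0,1,1,1,0,3,0,2,4,0,0,1,0,4,0,1,1,0,0,0,3,2,0,0,0,0,0,0,3,2,0,1,4,0,2,4,0,1,4,0,1,2,4,3,4,3],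
[0,0,0,0,0,0,0,0,0,0,0,0,0,1,0,0,0,1,1,0,0,0,0,1,3,0,0,2,3,1,0,3,4,0,0,1,0,0,2,3,0,2,4,4,0,1,3,0,0,4,2,0,1,2,0,0,1,3,0,0,4,0,1,2,3,0,4,3,3,0,0,0,0,0,0,0,2,0,2,1,4,1,0,1,0,4,1,0,0,3,0,0,1,4,0,0,4,1,0,1,4,0,4,0,1,4,0,4,3,3,4],
[0,0,0,0,0,0,0,0,0,0,0,0,0,0,0,0,0,4,2,0,0,0,0,0,0,3,0,3,3,2,0,0,0,0,0,1,0,0,0,1,0,0,2,1,0,0,0,0,0,2,1,0,3,3,3,0,0,0,0,1,1,0,0,2,3,0,2,1,1,0,0,0,0,1,0,0,0,0,3,0,0,0,0,4,0,1,3,0,0,0,1,0,1,0,2,0,3,0,0,3,0,0,0,1,2,3,2,3,4,0,1],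
[0,0,0,0,0,0,0,0,0,0,0,0,0,4,1,0,1,1,0,0,2,1,0,1,0,4,0,0,3,2,0,0,1,0,0,2,0,2,0,2,0,0,1,1,0,2,3,0,0,0,1,0,0,0,3,0,0,2,0,3,0,0,4,1,4,0,1,1,0,0,0,0,3,3,0,2,3,0,4,0,2,2,0,1,0,1,4,0,4,0,3,0,0,0,0,0,4,0,0,1,4,0,2,3,2,3,2,1,1,3,4],
[0,0,0,0,0,0,0,0,0,0,0,0,0,0,2,0,1,2,2,0,2,0,0,3,3,1,0,0,1,0,0,3,2,0,0,4,0,1,2,3,0,3,1,3,0,2,2,0,0,4,0,0,2,2,3,0,1,3,0,4,1,0,3,1,3,0,4,1,1,0,2,0,3,4,0,4,4,0,1,1,2,2,0,2,0,1,3,0,3,1,0,0,2,4,4,0,3,0,0,0,3,0,1,2,4,2,0,2,3,1,1],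
[0,0,0,0,0,0,0,0,0,0,0,0,0,1,1,0,0,0,4,0,0,2,0,2,3,2,0,1,3,0,0,3,4,0,0,3,0,4,2,0,0,0,2,4,0,1,4,0,0,1,4,0,4,3,2,0,1,3,0,2,2,0,1,0,4,0,0,2,3,0,0,0,1,2,0,0,2,0,3,3,4,3,0,4,0,0,1,0,0,0,4,0,3,4,1,0,0,1,0,2,2,0,4,1,0,3,0,1,4,0,4],
[0,0,0,0,0,0,0,0,0,0,0,0,0,0,4,0,0,4,0,0,0,3,0,2,2,4,0,2,2,1,0,2,3,0,0,3,0,3,3,2,0,3,3,0,0,4,2,0,0,1,0,0,3,2,1,0,2,2,0,1,1,0,4,4,0,0,0,2,4,0,3,0,0,4,0,0,3,0,0,0,1,4,0,3,0,4,0,0,0,4,1,0,2,3,2,0,0,4,0,1,4,0,1,1,3,4,3,0,4,0,3],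
[0,0,0,0,0,0,0,0,0,0,0,0,0,0,1,0,0,0,4,0,0,1,0,0,0,2,0,4,4,2,0,0,4,0,0,3,0,2,0,1,0,1,1,4,0,0,4,0,0,1,2,0,0,1,4,0,0,0,0,3,0,0,0,0,1,0,3,4,0,0,2,0,4,4,0,0,4,0,1,2,0,4,0,3,0,4,4,0,0,0,0,0,1,0,1,0,0,0,0,3,1,0,0,4,2,4,1,4,1,1,3],
[0,0,0,0,0,0,0,0,0,0,0,0,0,2,0,0,0,0,2,0,0,4,0,1,4,3,0,0,3,4,0,4,2,0,0,3,0,1,1,4,0,1,1,2,0,3,4,0,0,2,1,0,2,1,3,0,4,4,0,3,3,0,3,0,3,0,1,2,4,0,1,0,0,0,0,0,2,0,2,0,2,4,0,4,0,3,3,0,0,0,2,0,1,4,4,0,4,3,0,3,0,0,2,0,1,3,2,3,1,4,3],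
[0,0,0,0,0,0,0,0,0,0,0,0,0,1,2,0,0,4,3,0,0,0,0,0,1,0,0,4,1,3,0,1,4,0,0,4,0,0,4,3,0,1,3,2,0,2,3,0,0,3,4,0,1,0,4,0,4,1,0,3,3,0,2,1,4,0,3,2,1,0,0,0,0,1,0,0,1,0,4,4,3,4,0,4,0,4,2,0,0,2,4,0,2,0,2,0,0,2,0,2,0,0,3,1,2,2,1,2,2,4,3],
[0,0,0,0,0,0,0,0,0,0,0,0,0,0,3,0,0,1,4,0,0,4,0,1,1,2,0,1,3,2,0,1,0,0,0,3,0,0,4,3,0,1,2,2,0,2,4,0,0,4,1,0,3,3,1,0,4,1,0,0,2,0,2,3,4,0,1,0,1,0,0,0,3,4,0,0,0,0,1,1,3,4,0,0,0,3,2,0,0,1,0,0,3,3,1,0,3,2,0,3,4,0,3,1,3,2,3,4,1,3,3],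
[0,0,0,0,0,0,0,0,0,0,0,0,0,4,4,0,0,2,4,0,0,1,0,0,3,2,0,4,1,4,0,3,3,0,0,2,0,2,2,4,0,3,1,0,0,1,4,0,0,1,4,0,3,3,1,0,0,3,0,4,2,0,1,0,4,0,2,2,3,0,3,0,1,4,0,0,1,0,0,3,4,4,0,2,0,4,3,0,0,3,4,0,1,2,3,0,0,1,0,0,0,0,4,2,2,1,4,4,2,2,1],
[0,0,0,0,0,0,0,0,0,0,0,0,0,1,1,0,0,2,0,0,0,4,0,4,0,3,0,0,0,3,0,0,1,0,0,0,0,0,0,4,0,0,1,0,0,0,2,0,0,0,1,0,0,1,4,0,2,0,0,2,3,0,0,0,4,0,4,1,1,0,2,0,4,1,0,0,2,0,0,1,0,4,0,4,0,3,0,0,0,1,1,0,3,0,1,0,2,0,0,3,0,0,0,0,1,0,2,1,4,0,4],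
[0,0,0,0,0,0,0,0,0,0,0,0,0,1,1,0,0,0,0,0,0,1,0,4,0,4,0,2,0,0,0,0,2,0,0,2,0,2,0,1,0,3,0,2,0,0,2,0,0,3,2,0,3,0,3,0,2,0,0,3,1,0,0,3,2,0,3,2,4,0,2,0,1,3,0,0,1,0,0,4,0,2,0,4,0,4,0,0,0,0,0,0,4,0,3,0,4,0,0,4,0,0,0,0,0,4,2,2,2,1,4],
[0,0,0,0,0,0,0,0,0,0,0,0,0,2,4,0,0,1,1,0,0,2,0,3,0,2,0,3,4,0,0,0,4,0,0,4,0,4,0,1,0,2,4,2,0,0,3,0,0,2,3,0,0,4,1,0,2,0,0,1,1,0,0,4,3,0,2,2,1,0,2,0,2,4,0,0,3,0,1,3,0,2,0,3,0,1,2,0,0,1,4,0,3,0,1,0,2,0,0,1,1,0,0,2,4,2,1,3,3,1,1],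
[0,0,0,0,0,0,0,0,0,0,0,0,0,3,4,0,0,0,4,0,0,3,0,3,3,2,0,3,0,3,0,3,0,0,0,1,0,4,2,3,0,3,0,0,0,1,0,0,0,2,0,0,0,1,2,0,2,3,0,3,4,0,1,3,4,0,2,2,2,0,2,0,1,4,0,0,4,0,0,4,4,3,0,2,0,0,1,0,0,1,1,0,1,4,3,0,2,1,0,4,2,0,4,3,2,2,0,4,4,3,4],
[0,0,0,0,0,0,0,0,0,0,0,0,0,1,3,0,0,3,2,0,0,3,0,0,4,3,0,0,2,3,0,4,1,0,0,2,0,1,1,4,0,4,1,3,0,3,2,0,0,3,0,0,1,0,1,0,0,4,0,0,4,0,3,4,4,0,0,2,0,0,2,0,3,1,0,0,0,0,0,1,2,2,0,0,0,4,1,0,0,2,2,0,3,4,3,0,0,3,0,3,1,0,2,1,0,2,2,4,4,0,0],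
[0,0,0,0,0,0,0,0,0,0,0,0,0,1,0,0,2,0,1,0,4,0,0,3,2,2,0,1,3,1,0,4,2,0,0,1,0,1,4,1,0,4,2,2,0,4,1,0,0,3,2,0,1,4,3,0,1,1,0,0,3,0,3,4,2,0,1,4,1,0,0,0,3,0,0,1,1,0,2,1,1,4,0,2,0,4,2,0,4,0,2,0,1,1,3,0,0,1,0,4,0,0,0,2,3,1,0,1,4,2,0],
[0,0,0,0,0,0,0,0,0,0,0,0,0,4,1,0,0,4,1,0,0,2,0,0,3,2,0,3,2,3,0,3,1,0,0,0,0,1,2,4,0,2,4,2,0,1,2,0,0,4,1,0,3,1,4,0,2,3,0,0,3,0,1,3,1,0,3,2,4,0,1,0,1,2,0,0,3,0,3,3,4,4,0,1,0,1,4,0,0,2,1,0,2,1,3,0,3,1,0,3,0,0,4,4,1,0,1,3,3,0,3],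
[0,0,0,0,0,0,0,0,0,0,0,0,0,1,2,0,0,0,0,0,0,2,0,3,2,0,0,2,2,1,0,2,0,0,0,4,0,3,3,3,0,4,3,1,0,4,1,0,0,1,1,0,1,0,3,0,1,2,0,2,1,0,4,3,1,0,3,1,3,0,3,0,2,1,0,0,0,0,3,3,1,0,0,4,0,2,1,0,0,1,2,0,0,4,4,0,3,4,0,4,0,0,1,3,4,0,3,2,1,3,3],
[0,0,0,0,0,0,0,0,0,0,0,0,0,3,2,0,0,1,0,0,0,4,0,0,2,3,0,2,3,1,0,2,4,0,0,2,0,4,3,3,0,1,1,4,0,4,2,0,0,3,1,0,1,4,0,0,2,2,0,0,0,0,4,2,2,0,3,4,3,0,2,0,4,0,0,0,3,0,2,3,1,2,0,0,0,3,2,0,0,2,1,0,4,0,1,0,1,4,0,2,0,0,1,3,0,0,2,4,4,4,0],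
[0,0,0,0,0,0,0,0,0,0,0,0,0,0,0,0,0,1,1,0,0,0,0,2,1,0,0,2,4,2,0,1,1,0,0,1,0,0,4,3,0,3,1,2,0,2,0,0,0,0,1,0,1,1,1,0,3,1,0,2,1,0,2,4,3,0,1,0,1,0,4,0,3,4,0,0,2,0,1,1,3,0,0,3,0,3,0,0,0,1,0,0,2,1,1,0,2,2,0,0,2,0,3,3,4,4,4,0,2,2,2],
[0,0,0,0,0,0,0,0,0,0,0,0,0,2,4,0,4,1,0,0,3,1,0,2,0,0,0,4,4,0,0,1,4,0,0,0,0,4,1,3,0,1,4,0,0,3,2,0,0,3,2,0,4,4,1,0,2,4,0,0,2,0,3,3,4,0,2,1,3,0,0,0,2,1,0,1,2,0,4,0,4,2,0,2,0,3,3,0,4,4,4,0,4,3,2,0,1,2,0,1,1,0,1,0,0,4,3,4,0,2,1],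
[0,0,0,0,0,0,0,0,0,0,0,0,0,0,0,0,0,1,1,0,0,1,0,1,2,1,0,3,1,1,0,2,2,0,0,4,0,1,3,3,0,0,1,2,0,4,2,0,0,0,4,0,4,4,1,0,4,2,0,4,1,0,4,4,1,0,4,1,0,0,1,0,0,3,0,0,2,0,3,0,1,2,0,0,0,1,2,0,0,2,2,0,1,3,1,0,1,4,0,3,0,0,1,4,3,2,2,0,0,4,4],
[0,0,0,0,0,0,0,0,0,0,0,0,0,1,3,0,3,1,0,0,1,2,0,4,2,0,0,4,3,0,0,3,3,0,0,4,0,4,1,1,0,1,3,2,0,1,1,0,0,0,3,0,3,1,3,0,3,3,0,4,0,0,3,2,0,0,2,1,2,0,0,0,3,2,0,4,0,0,0,0,4,3,0,2,0,4,0,0,1,3,2,0,3,2,0,0,2,2,0,4,3,0,2,1,0,2,2,1,1,2,3],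
[0,0,0,0,0,0,0,0,0,0,0,0,0,2,0,0,0,1,4,0,0,3,0,4,0,1,0,3,3,0,0,0,4,0,0,2,0,2,0,0,0,3,0,0,0,0,1,0,0,0,0,0,0,0,4,0,3,0,0,4,2,0,0,1,3,0,2,2,3,0,1,0,1,2,0,0,2,0,3,1,0,0,0,4,0,3,1,0,0,3,4,0,0,4,4,0,4,0,0,1,4,0,0,2,0,0,1,4,4,1,4],
[0,0,0,0,0,0,0,0,0,0,0,0,0,1,3,0,0,1,2,0,0,0,0,0,4,0,0,0,1,2,0,4,4,0,0,1,0,2,1,3,0,3,4,2,0,3,1,0,0,4,1,0,1,0,0,0,3,4,0,1,3,0,3,1,2,0,3,0,4,0,0,0,4,2,0,0,4,0,4,4,2,4,0,0,0,2,3,0,0,1,3,0,0,4,4,0,0,3,0,2,2,0,2,0,2,3,4,4,2,0,0],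
[0,0,0,0,0,0,0,0,0,0,0,0,0,1,0,0,0,1,4,0,0,4,0,2,0,1,0,3,2,0,0,0,0,0,0,1,0,4,0,1,0,4,2,4,0,0,2,0,0,1,1,0,4,1,0,0,2,0,0,3,3,0,0,1,2,0,0,4,0,0,3,0,0,4,0,0,0,0,4,1,0,1,0,3,0,3,2,0,0,1,1,0,0,3,0,0,4,0,0,4,3,0,0,1,3,1,4,4,1,0,1],
[0,0,0,0,0,0,0,0,0,0,0,0,0,3,2,0,0,4,4,0,0,0,0,1,3,3,0,4,0,3,0,3,0,0,0,2,0,0,2,2,0,0,1,3,0,1,3,0,0,4,4,0,2,0,2,0,3,3,0,2,1,0,1,1,2,0,1,3,3,0,0,0,1,0,0,0,4,0,2,0,4,3,0,3,0,3,2,0,0,0,0,0,1,0,0,0,4,1,0,4,3,0,4,1,4,1,4,4,4,3,4],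
[0,0,0,0,0,0,0,0,0,0,0,0,0,2,1,0,4,4,3,0,0,0,0,3,3,3,0,0,4,3,0,1,0,0,0,3,0,4,2,0,0,2,4,0,0,0,4,0,0,0,4,0,3,0,0,0,3,2,0,3,2,0,1,0,3,0,4,4,4,0,4,0,3,0,0,2,4,0,2,1,3,2,0,3,0,1,3,0,4,2,4,0,1,0,0,0,2,1,0,2,4,0,0,1,3,4,0,0,4,3,3],
[0,0,0,0,0,0,0,0,0,0,0,0,0,4,1,0,4,4,0,0,3,4,0,4,1,3,0,4,4,4,0,0,1,0,0,0,0,3,2,4,0,2,1,2,0,4,1,0,0,3,4,0,0,1,3,0,2,4,0,2,3,0,1,3,2,0,1,3,4,0,2,0,2,2,0,0,1,0,4,0,0,4,0,4,0,0,1,0,1,4,1,0,3,0,2,0,0,0,0,3,3,0,4,1,3,1,1,1,1,3,3],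
[0,0,0,0,0,0,0,0,0,0,0,0,0,2,3,0,0,0,1,0,0,0,0,4,0,1,0,2,2,0,0,0,0,0,0,3,0,3,0,2,0,3,0,0,0,0,3,0,0,0,4,0,1,4,1,0,1,0,0,4,3,0,0,0,1,0,2,0,3,0,0,0,3,3,0,0,4,0,1,1,0,0,0,0,0,3,1,0,0,2,1,0,3,4,2,0,2,0,0,2,4,0,0,0,0,2,3,2,3,3,4],
[0,0,0,0,0,0,0,0,0,0,0,0,0,1,0,0,0,0,2,0,0,1,0,2,2,4,0,0,2,1,0,2,1,0,0,0,0,1,3,3,0,3,4,4,0,4,0,0,0,3,0,0,3,0,4,0,0,2,0,1,2,0,4,1,4,0,0,2,1,0,1,0,3,3,0,0,3,0,2,3,1,2,0,4,0,4,0,0,0,4,3,0,1,3,0,0,2,4,0,2,2,0,1,1,0,2,4,2,3,4,1],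
[0,0,0,0,0,0,0,0,0,0,0,0,0,0,1,0,0,2,4,0,0,4,0,3,1,4,0,2,3,0,0,1,0,0,0,4,0,4,4,4,0,3,0,1,0,2,3,0,0,1,2,0,0,3,3,0,3,1,0,2,1,0,2,0,3,0,0,4,1,0,2,0,0,4,0,0,2,0,4,1,3,1,0,4,0,0,3,0,0,2,2,0,0,1,1,0,4,2,0,3,2,0,3,4,3,1,2,1,1,4,2],
[0,0,0,0,0,0,0,0,0,0,0,0,0,2,2,0,0,0,3,0,0,0,0,1,4,0,0,1,3,2,0,4,2,0,0,3,0,2,1,2,0,0,0,3,0,3,1,0,0,0,2,0,3,3,2,0,4,4,0,0,2,0,3,4,3,0,4,0,1,0,1,0,1,0,0,0,2,0,1,4,2,2,0,0,0,4,0,0,0,2,0,0,0,3,4,0,4,3,0,4,1,0,2,0,2,4,4,1,3,3,4],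
[0,0,0,0,0,0,0,0,0,0,0,0,0,0,4,0,0,2,0,0,0,0,0,3,1,2,0,4,4,4,0,1,3,0,0,3,0,1,4,3,0,1,3,3,0,2,1,0,0,0,4,0,1,3,1,0,4,1,0,1,4,0,2,3,4,0,1,2,1,0,3,0,3,1,0,0,4,0,2,4,3,2,0,3,0,1,2,0,0,2,0,0,2,0,3,0,3,2,0,0,3,0,3,4,2,1,4,4,1,2,1],
[0,0,0,0,0,0,0,0,0,0,0,0,0,4,3,0,0,0,1,0,0,3,0,2,4,3,0,1,2,4,0,4,2,0,0,1,0,2,1,0,0,0,1,4,0,3,2,0,0,4,3,0,1,0,4,0,4,4,0,4,0,0,3,3,4,0,2,4,0,0,4,0,1,4,0,0,4,0,3,4,2,1,0,3,0,4,1,0,0,2,4,0,0,4,3,0,1,3,0,3,2,0,2,2,4,1,3,3,0,1,3],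
[0,0,0,0,0,0,0,0,0,0,0,0,0,4,1,0,0,4,0,0,0,0,0,3,4,1,0,1,4,4,0,4,4,0,0,0,0,2,1,2,0,3,0,0,0,3,3,0,0,4,4,0,3,2,2,0,2,4,0,0,0,0,3,4,3,0,3,0,0,0,4,0,1,0,0,0,0,0,3,0,2,0,0,1,0,1,1,0,0,0,2,0,4,4,2,0,4,3,0,3,2,0,2,3,1,0,3,1,2,1,4],
[0,0,0,0,0,0,0,0,0,0,0,0,0,3,4,0,0,3,4,0,0,4,0,0,1,1,0,0,1,2,0,1,1,0,0,3,0,4,4,2,0,2,1,4,0,2,1,0,0,0,3,0,4,1,4,0,3,1,0,0,0,0,2,1,4,0,2,0,1,0,2,0,2,1,0,0,3,0,1,1,3,1,0,2,0,2,4,0,0,4,1,0,0,1,4,0,4,2,0,1,1,0,3,4,2,0,3,2,4,1,3],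
[0,0,0,0,0,0,0,0,0,0,0,0,0,2,1,0,0,2,1,0,0,2,0,3,0,2,0,3,2,4,0,2,1,0,0,4,0,1,4,1,0,4,2,4,0,4,0,0,0,0,0,0,1,1,3,0,2,2,0,4,2,0,1,4,1,0,4,3,0,0,3,0,3,2,0,1,0,0,1,1,2,2,0,4,0,2,3,0,1,2,0,0,4,0,3,0,2,4,0,3,2,0,3,1,2,2,3,2,1,3,3],
[0,0,0,0,0,0,0,0,0,0,0,0,0,4,2,0,0,4,3,0,0,4,0,0,3,3,0,0,3,1,0,3,0,0,0,2,0,1,2,4,0,4,4,4,0,1,4,0,0,4,1,0,1,4,4,0,4,3,0,1,1,0,1,1,4,0,3,0,4,0,2,0,0,0,0,0,4,0,3,2,4,3,0,4,0,2,2,0,0,0,2,0,2,3,3,0,3,1,0,3,4,0,4,0,2,4,2,1,4,4,1],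
[0,0,0,0,0,0,0,0,0,0,0,0,0,2,1,0,0,0,3,0,0,0,0,2,2,4,0,0,0,3,0,2,0,0,0,1,0,4,3,4,0,0,2,1,0,4,3,0,0,1,4,0,4,1,4,0,3,2,0,3,3,0,4,1,2,0,0,1,2,0,3,0,1,2,0,0,0,0,2,4,1,2,0,1,0,4,1,0,0,4,4,0,2,4,0,0,1,4,0,0,4,0,1,2,4,0,4,3,3,2,1],
[0,0,0,0,0,0,0,0,0,0,0,0,0,0,2,0,0,3,3,0,0,2,0,1,0,2,0,3,0,3,0,0,3,0,0,3,0,2,0,4,0,0,0,2,0,0,1,0,0,1,2,0,0,2,4,0,4,0,0,1,2,0,0,0,4,0,3,2,3,0,1,0,0,0,0,0,4,0,0,2,0,2,0,3,0,1,2,0,0,1,3,0,3,0,4,0,1,0,0,1,1,0,0,4,1,3,1,4,1,4,0],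
[0,0,0,0,0,0,0,0,0,0,0,0,0,1,2,0,4,2,1,0,3,3,0,0,2,0,0,4,0,0,0,3,3,0,0,1,0,3,0,4,0,0,1,2,0,0,1,0,0,4,1,0,4,1,3,0,0,4,0,0,3,0,1,3,4,0,4,1,4,0,3,0,2,4,0,0,3,0,2,4,1,1,0,3,0,1,3,0,3,1,3,0,1,0,3,0,1,2,0,2,0,0,2,1,4,2,4,3,0,0,2],
[0,0,0,0,0,0,0,0,0,0,0,0,0,3,2,0,2,2,4,0,4,4,0,2,0,2,0,4,0,3,0,0,0,0,0,0,0,3,2,1,0,4,0,2,0,4,3,0,0,0,0,0,0,2,2,0,4,4,0,3,0,0,4,4,3,0,1,1,4,0,3,0,2,4,0,1,1,0,0,1,1,4,0,4,0,3,3,0,4,1,2,0,2,2,4,0,3,0,0,2,4,0,4,1,2,4,2,2,2,2,1],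
[0,0,0,0,0,0,0,0,0,0,0,0,0,0,1,0,0,2,1,0,0,1,0,3,2,2,0,3,2,1,0,2,1,0,0,0,0,3,3,0,0,4,3,3,0,4,2,0,0,1,2,0,0,3,0,0,3,2,0,2,0,0,4,4,4,0,4,4,1,0,0,0,4,0,0,0,3,0,0,1,1,4,0,3,0,1,3,0,0,0,4,0,2,0,1,0,4,4,0,0,3,0,1,1,1,0,3,2,3,2,0],
[0,0,0,0,0,0,0,0,0,0,0,0,0,0,0,0,0,0,0,0,0,0,0,0,0,0,0,0,0,0,0,0,0,0,0,0,0,0,0,0,0,0,0,0,0,0,0,0,0,0,0,0,0,0,0,0,0,0,0,0,0,0,0,0,0,0,0,0,0,0,0,0,0,0,0,0,0,0,0,0,0,0,0,0,0,0,0,0,0,0,0,0,0,0,0,0,0,0,0,0,0,0,0,0,1,0,1,2,4,3,3],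
[0,0,0,0,0,0,0,0,0,0,0,0,0,0,0,0,0,0,0,0,0,0,0,0,0,0,0,0,0,0,0,0,0,0,0,0,0,0,0,0,0,0,0,0,0,0,0,0,0,0,0,0,0,0,0,0,0,0,0,0,0,0,0,0,0,0,0,0,0,0,0,0,0,0,0,0,0,0,0,0,0,0,0,0,0,0,0,0,0,0,0,0,0,0,0,0,0,0,0,0,0,0,0,0,0,1,0,4,4,2,2],
[0,0,0,0,0,0,0,0,0,0,0,0,0,0,0,0,0,0,0,0,0,0,0,0,0,0,0,0,0,0,0,0,0,0,0,0,0,0,0,0,0,0,0,0,0,0,0,0,0,0,0,0,0,0,0,0,0,0,0,0,0,0,0,0,0,0,0,0,0,0,0,0,0,0,0,0,0,0,0,0,0,0,0,0,0,0,0,0,0,0,0,0,0,0,0,0,0,0,0,0,0,0,0,0,0,0,1,0,0,4,1],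
[0,0,0,0,0,0,0,0,0,0,0,0,0,0,0,0,0,0,0,0,0,0,0,0,0,0,0,0,0,0,0,0,0,0,0,0,0,0,0,0,0,0,0,0,0,0,0,0,0,0,0,0,0,0,0,0,0,0,0,0,0,0,0,0,0,0,0,0,0,0,0,0,0,0,0,0,0,0,0,0,0,0,0,0,0,0,0,0,0,0,0,0,0,0,0,0,0,0,0,0,0,0,0,0,0,0,0,1,0,1,2],
[0,0,0,0,0,0,0,0,0,0,0,0,0,0,0,0,0,0,0,0,0,0,0,0,0,0,0,0,0,0,0,0,0,0,0,0,0,0,0,0,0,0,0,0,0,0,0,0,0,0,0,0,0,0,0,0,0,0,0,0,0,0,0,0,0,0,0,0,0,0,0,0,0,0,0,0,0,0,0,0,0,0,0,0,0,0,0,0,0,0,0,0,0,0,0,0,0,0,0,0,0,0,0,0,0,0,0,0,1,0,4],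
[0,0,0,0,0,0,0,0,0,0,0,0,0,0,0,0,0,0,0,0,0,0,0,0,0,0,0,0,0,0,0,0,0,0,0,0,0,0,0,0,0,0,0,0,0,0,0,0,0,0,0,0,0,0,0,0,0,0,0,0,0,0,0,0,0,0,0,0,0,0,0,0,0,0,0,0,0,0,0,0,0,0,0,0,0,0,0,0,0,0,0,0,0,0,0,0,0,0,0,0,0,0,0,0,0,0,0,0,0,1,0],
[0,0,0,0,0,0,0,0,0,0,0,0,0,0,0,0,0,0,0,0,0,0,0,0,0,0,0,0,0,0,0,0,0,0,0,0,0,0,0,0,0,0,0,0,0,0,0,0,0,0,0,0,0,0,0,0,0,0,0,0,0,0,0,0,0,0,0,0,0,0,0,0,0,0,0,0,0,0,0,0,0,0,0,0,0,0,0,0,0,0,0,0,0,0,0,0,0,0,0,0,0,0,0,0,0,0,0,0,0,0,1]]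

noncomputable def tabDi : List (List ℕ) := [[0,0,0,0,0,2,0,0,0,0,0,0,0,0,0,0,0,0,0,0,0,0,0,0,0,0,0,0,0,0,0,0,0,0,0,0,0,0,0,0,0,0,0,0,0,0,0,0,0,0,0,0,0,0,0,0,0,0,0,0,0,0,0,0,0,0,0,0,0,0,0,0,0,0,0,0,0,0,0,0,0,0,0,0,0,0,0,0,0,0,0,0,0,0,0,0,0,0,0,0,0,0,0,0,0,0,0,0,0,0,0],
[0,0,0,0,0,0,2,0,0,0,0,0,0,0,0,0,0,0,0,0,0,0,0,0,0,0,0,0,0,0,0,0,0,0,0,0,0,0,0,0,0,0,0,0,0,0,0,0,0,0,0,0,0,0,0,0,0,0,0,0,0,0,0,0,0,0,0,0,0,0,0,0,0,0,0,0,0,0,0,0,0,0,0,0,0,0,0,0,0,0,0,0,0,0,0,0,0,0,0,0,0,0,0,0,0,0,0,0,0,0,0],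
[0,0,1,0,0,0,0,0,0,0,0,0,0,0,0,0,0,0,0,0,0,0,0,0,0,0,0,0,0,0,0,0,0,0,0,0,0,0,0,0,0,0,0,0,0,0,0,0,0,0,0,0,0,0,0,0,0,0,0,0,0,0,0,0,0,0,0,0,0,0,0,0,0,0,0,0,0,0,0,0,0,0,0,0,0,0,0,0,0,0,0,0,0,0,0,0,0,0,0,0,0,0,0,0,0,0,0,0,0,0,0],
[0,0,0,1,0,0,0,0,0,0,0,0,0,0,0,0,0,0,0,0,0,0,0,0,0,0,0,0,0,0,0,0,0,0,0,0,0,0,0,0,0,0,0,0,0,0,0,0,0,0,0,0,0,0,0,0,0,0,0,0,0,0,0,0,0,0,0,0,0,0,0,0,0,0,0,0,0,0,0,0,0,0,0,0,0,0,0,0,0,0,0,0,0,0,0,0,0,0,0,0,0,0,0,0,0,0,0,0,0,0,0],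
[0,0,0,0,1,0,0,0,0,0,0,0,0,0,0,0,0,0,0,0,0,0,0,0,0,0,0,0,0,0,0,0,0,0,0,0,0,0,0,0,0,0,0,0,0,0,0,0,0,0,0,0,0,0,0,0,0,0,0,0,0,0,0,0,0,0,0,0,0,0,0,0,0,0,0,0,0,0,0,0,0,0,0,0,0,0,0,0,0,0,0,0,0,0,0,0,0,0,0,0,0,0,0,0,0,0,0,0,0,0,0],
[2,0,0,0,0,0,0,0,0,0,0,0,0,0,0,0,0,0,0,0,0,0,0,0,0,0,0,0,0,0,0,0,0,0,0,0,0,0,0,0,0,0,0,0,0,0,0,0,0,0,0,0,0,0,0,0,0,0,0,0,0,0,0,0,0,0,0,0,0,0,0,0,0,0,0,0,0,0,0,0,0,0,0,0,0,0,0,0,0,0,0,0,0,0,0,0,0,0,0,0,0,0,0,0,0,0,0,0,0,0,0],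
[0,2,0,0,0,0,0,0,0,0,0,0,0,0,0,0,0,0,0,0,0,0,0,0,0,0,0,0,0,0,0,0,0,0,0,0,0,0,0,0,0,0,0,0,0,0,0,0,0,0,0,0,0,0,0,0,0,0,0,0,0,0,0,0,0,0,0,0,0,0,0,0,0,0,0,0,0,0,0,0,0,0,0,0,0,0,0,0,0,0,0,0,0,0,0,0,0,0,0,0,0,0,0,0,0,0,0,0,0,0,0],
[0,0,0,0,0,0,0,0,0,1,0,0,0,0,0,0,0,2,0,2,0,1,4,0,3,3,2,0,3,2,0,0,0,2,0,1,1,0,1,3,1,0,1,4,0,0,0,1,0,0,2,2,0,3,4,0,0,0,4,0,2,1,0,4,3,0,0,2,3,4,0,3,0,2,4,0,2,4,0,0,0,0,2,0,3,4,2,1,0,0,2,0,0,2,0,2,0,0,0,0,0,0,0,0,0,0,0,0,0,0,0],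
[0,0,0,0,0,0,0,0,0,0,1,0,0,0,3,0,0,2,2,2,0,2,1,0,0,1,2,0,0,4,0,0,0,1,0,2,3,0,2,2,1,0,4,3,0,0,0,3,0,2,3,2,0,2,4,2,0,0,1,0,3,4,0,4,2,2,0,2,0,2,0,4,0,1,3,3,0,2,0,0,0,0,2,0,3,3,4,2,0,2,1,2,0,1,4,1,0,0,4,0,4,0,0,2,0,0,0,0,0,0,0],
[0,0,0,0,0,0,0,4,0,0,0,0,0,0,0,0,0,0,0,4,0,2,2,0,2,3,2,0,3,3,0,0,0,2,0,4,0,0,4,1,3,0,1,1,0,0,0,1,0,3,1,0,0,1,2,2,0,0,1,0,4,3,0,4,3,2,0,0,4,1,0,3,0,4,2,3,2,3,0,0,0,0,0,0,0,0,3,3,0,2,2,0,0,4,3,4,0,0,4,0,2,0,0,2,0,0,0,0,0,0,0],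
[0,0,0,0,0,0,0,0,4,0,0,0,0,0,1,0,0,2,0,3,0,1,3,0,2,0,3,0,3,2,0,0,0,2,0,2,0,0,0,3,2,0,0,4,0,0,0,1,0,0,0,4,0,4,0,2,0,0,1,0,4,1,0,4,3,2,0,3,4,1,0,3,0,2,1,3,0,4,0,0,0,0,1,0,0,2,1,1,0,2,0,4,0,2,0,2,0,0,0,0,2,0,0,3,0,0,0,0,0,0,0],
[0,0,0,0,0,0,0,0,0,0,0,0,0,0,4,0,1,1,1,3,0,3,2,0,2,1,4,0,4,0,0,0,0,2,0,3,0,0,2,0,3,0,3,0,0,0,0,1,0,3,2,1,0,4,0,1,0,0,3,0,4,0,0,0,4,2,0,4,0,3,0,2,0,3,1,3,2,4,0,0,0,0,1,0,3,3,4,3,0,4,3,4,0,3,0,0,0,0,2,0,4,0,0,3,0,0,0,0,0,0,0],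
[0,0,0,0,0,0,0,0,0,0,0,0,0,0,3,0,0,1,1,1,1,4,3,0,0,2,2,0,3,0,0,0,0,1,0,1,4,0,4,0,1,0,0,0,0,0,0,3,0,2,3,4,0,3,4,3,0,0,4,0,1,1,0,2,1,2,0,1,4,4,0,2,0,0,4,0,0,3,0,0,0,0,2,0,3,3,3,2,0,3,0,2,0,3,2,3,0,0,2,0,0,0,0,1,0,0,0,0,0,0,0],
[0,0,0,0,0,0,0,0,0,0,0,0,0,0,3,0,0,3,3,0,0,2,1,1,3,1,2,0,4,1,0,0,0,3,0,4,3,0,3,1,3,0,0,2,0,0,0,4,0,1,4,4,0,2,4,0,0,0,3,0,3,0,0,4,0,3,0,4,4,4,0,0,0,4,0,2,0,2,0,0,0,0,1,0,2,1,0,0,0,0,0,1,0,4,0,1,0,0,2,0,3,0,0,2,0,0,0,0,0,0,0],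
[0,0,0,0,0,0,0,0,0,0,0,0,0,0,3,0,0,0,0,0,0,4,3,0,1,1,0,1,3,0,0,0,0,1,0,1,0,0,1,1,4,0,0,0,0,0,0,3,0,2,0,3,0,1,2,1,0,0,0,0,4,0,0,1,2,0,0,4,1,2,0,0,0,2,1,4,2,0,0,0,0,0,2,0,2,1,4,0,0,1,2,0,0,1,2,3,0,0,0,0,4,0,0,4,0,0,0,0,0,0,0],
[0,0,0,0,0,0,0,0,0,0,0,0,0,0,0,0,0,1,4,0,0,1,0,0,4,3,2,0,0,0,0,1,0,0,0,1,3,0,1,3,3,0,2,0,0,0,0,0,0,4,2,0,0,4,1,2,0,0,4,0,3,4,0,0,4,2,0,4,2,1,0,0,0,1,4,1,4,2,0,0,0,0,2,0,1,3,4,0,0,1,2,0,0,3,2,1,0,0,4,0,0,0,0,2,0,0,0,0,0,0,0],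
[0,0,0,0,0,0,0,0,0,0,0,0,0,0,2,0,0,4,0,2,0,2,0,0,2,2,3,0,1,4,0,0,0,3,1,4,2,0,3,0,0,0,0,3,0,0,0,4,0,4,2,4,0,1,2,3,0,0,3,0,4,3,0,2,2,0,0,1,4,2,0,1,0,3,2,0,3,0,0,0,0,0,1,0,0,1,3,4,0,4,1,1,0,4,1,3,0,0,4,0,1,0,0,0,0,0,0,0,0,0,0],
[0,0,0,0,0,0,0,0,0,0,0,0,0,0,1,0,0,2,2,0,0,1,3,0,3,1,4,0,0,4,0,0,0,3,0,0,2,1,3,2,3,0,1,3,0,0,0,4,0,1,1,4,0,1,4,2,0,0,4,0,4,0,0,1,4,2,0,2,2,0,0,3,0,0,4,2,4,1,0,0,0,0,1,0,0,1,1,0,0,0,2,0,0,1,0,1,0,0,3,0,4,0,0,1,0,0,0,0,0,0,0],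
[0,0,0,0,0,0,0,0,0,0,0,0,0,0,4,0,0,0,2,0,0,3,3,0,4,3,2,0,3,4,0,0,0,4,0,4,2,0,4,0,2,1,2,3,0,0,0,2,0,2,2,3,0,2,4,3,0,0,3,0,3,0,0,1,4,4,0,1,4,2,0,4,0,3,0,1,1,4,0,0,0,0,3,0,0,2,2,0,0,0,2,3,0,3,4,1,0,0,2,0,4,0,0,1,0,0,0,0,0,0,0],
[0,0,0,0,0,0,0,0,0,0,0,0,0,0,1,0,0,0,0,4,0,4,0,0,4,2,3,0,2,1,0,0,0,0,0,2,0,0,2,3,1,0,0,2,0,1,0,0,0,1,0,4,0,0,1,1,0,0,4,0,0,2,0,1,2,3,0,1,2,1,0,3,0,2,2,1,0,3,0,0,0,0,2,0,3,1,3,3,0,0,4,1,0,1,3,2,0,0,2,0,2,0,0,0,0,0,0,0,0,0,0],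
[0,0,0,0,0,0,0,0,0,0,0,0,0,0,2,0,0,2,4,1,0,3,3,0,2,3,2,0,1,4,0,0,0,1,0,3,0,0,4,0,4,0,0,3,0,0,0,3,1,4,4,2,0,4,4,1,0,0,2,0,2,3,0,3,0,0,0,4,1,4,0,0,0,2,1,3,1,2,0,0,0,0,2,0,1,0,1,2,0,4,1,0,0,4,1,2,0,0,2,0,4,0,0,4,0,0,0,0,0,0,0],
[0,0,0,0,0,0,0,0,0,0,0,0,0,0,4,0,0,4,4,0,0,2,4,0,4,0,4,0,0,1,0,0,0,4,0,1,2,0,4,4,4,0,3,2,0,0,0,2,0,3,4,3,1,2,2,4,0,0,3,0,2,0,0,0,4,4,0,0,3,3,0,3,0,3,3,1,2,1,0,0,0,0,3,0,3,3,1,0,0,0,3,3,0,2,0,4,0,0,1,0,1,0,0,4,0,0,0,0,0,0,0],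
[0,0,0,0,0,0,0,0,0,0,0,0,0,0,0,0,0,3,0,0,0,3,1,0,0,1,2,0,3,3,0,0,0,0,0,2,0,0,0,4,4,0,3,1,0,0,0,0,0,2,0,4,0,0,3,0,1,0,3,0,1,0,0,4,3,1,0,2,0,1,0,0,0,2,1,0,4,1,0,0,0,0,0,0,1,2,2,0,0,1,4,0,0,0,1,0,0,0,2,0,1,0,0,1,0,0,0,0,0,0,0],
[0,0,0,0,0,0,0,0,0,0,0,0,0,0,3,0,0,4,4,0,0,1,0,0,2,0,3,0,3,4,0,0,0,2,0,2,1,0,2,2,1,0,4,3,0,0,0,1,0,3,1,3,0,1,2,4,0,0,1,1,0,0,0,1,0,3,0,2,4,3,0,1,0,3,4,3,3,0,0,0,0,0,4,0,2,0,4,0,0,2,1,3,0,1,2,1,0,0,4,0,3,0,0,0,0,0,0,0,0,0,0],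
[0,0,0,0,0,0,0,0,0,0,0,0,0,0,2,0,0,2,0,2,0,3,4,0,3,1,3,0,0,3,0,0,0,0,0,1,1,0,1,2,2,0,0,1,0,0,0,0,0,1,4,4,0,4,1,1,0,0,1,0,2,0,1,0,2,0,0,0,4,0,0,2,0,2,4,2,0,2,0,0,0,0,0,0,1,4,2,0,0,4,1,2,0,3,0,0,0,0,0,0,0,0,0,0,0,0,0,0,0,0,0],
[0,0,0,0,0,0,0,0,0,0,0,0,0,0,0,0,0,2,2,0,0,2,4,0,3,4,4,0,0,0,0,0,0,3,0,4,4,0,3,3,0,0,2,0,0,0,0,4,0,4,4,0,0,4,0,2,0,0,3,0,4,0,0,2,4,4,1,1,1,3,0,1,0,4,2,2,0,4,0,0,0,0,1,0,1,1,0,0,0,4,3,4,0,2,0,2,0,0,1,0,1,0,0,1,0,0,0,0,0,0,0],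
[0,0,0,0,0,0,0,0,0,0,0,0,0,0,4,0,0,1,2,0,0,1,2,0,2,0,4,0,1,2,0,0,0,2,0,0,1,0,2,0,2,0,4,4,0,0,0,1,0,0,3,3,0,1,4,1,0,0,1,0,0,0,0,0,3,4,0,1,3,1,1,0,0,1,0,3,1,1,0,0,0,0,4,0,0,0,1,0,0,4,4,1,0,1,4,1,0,0,0,0,4,0,0,1,0,0,0,0,0,0,0],
[0,0,0,0,0,0,0,0,0,0,0,0,0,0,1,0,0,4,0,0,0,0,3,0,1,4,3,0,1,1,0,0,0,1,0,0,1,0,1,0,3,0,1,2,0,0,0,3,0,2,4,0,0,3,4,1,0,0,0,0,3,0,0,1,2,2,0,2,2,1,0,1,1,1,4,4,4,3,0,0,0,0,2,0,1,1,2,0,0,4,3,2,0,3,1,3,0,0,2,0,0,0,0,2,0,0,0,0,0,0,0],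
[0,0,0,0,0,0,0,0,0,0,0,0,0,0,2,0,0,2,2,0,0,3,0,0,4,4,2,0,4,2,0,0,3,4,0,2,1,0,4,4,2,0,0,4,0,0,0,2,0,3,2,1,0,1,4,3,0,0,2,0,3,0,0,4,3,1,0,2,4,2,0,2,0,2,2,1,4,4,0,0,0,0,3,0,0,4,2,0,0,3,4,4,0,1,3,4,0,0,4,0,0,0,0,3,0,0,0,0,0,0,0],
[0,0,0,0,0,0,0,0,0,0,0,0,0,0,0,0,0,4,2,0,0,0,0,0,2,2,4,0,4,4,0,0,0,2,0,4,3,0,2,1,1,0,2,3,0,0,0,1,0,2,4,3,0,4,1,2,0,0,4,0,3,0,0,0,1,2,0,4,1,1,0,3,0,2,3,3,1,4,1,0,0,0,4,0,4,3,4,0,0,0,2,4,0,1,3,2,0,0,2,0,2,0,0,2,0,0,0,0,0,0,0],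
[0,0,0,0,0,0,0,0,0,0,0,0,0,0,1,0,0,0,1,2,0,3,2,0,2,1,1,0,0,4,0,0,0,3,0,1,2,0,4,0,3,0,3,3,0,0,0,4,0,1,1,1,0,2,1,4,0,0,4,0,3,1,0,1,1,1,0,0,2,4,0,4,0,2,2,3,2,0,0,0,1,0,2,0,2,4,2,0,0,0,2,2,0,1,3,4,0,0,3,0,0,0,0,1,0,0,0,0,0,0,0],
[0,0,0,0,0,0,0,0,0,0,0,0,0,0,1,0,0,0,2,4,0,2,4,0,0,1,2,0,0,4,4,0,0,0,0,4,1,0,0,1,1,0,0,3,0,0,0,0,0,1,3,3,0,1,2,3,0,0,2,0,0,1,0,0,2,1,0,1,4,2,0,1,0,0,2,2,3,2,0,0,0,0,4,0,1,4,0,0,0,1,1,0,0,2,3,4,0,0,2,0,4,0,0,0,0,0,0,0,0,0,0],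
[0,0,0,0,0,0,0,0,0,0,0,0,0,0,4,0,0,3,3,0,0,1,3,0,1,3,4,0,3,2,0,0,0,1,0,3,1,0,1,4,4,0,4,4,0,0,0,3,0,3,3,1,0,4,2,3,0,0,2,0,3,0,0,0,4,1,0,1,0,4,0,0,0,1,4,4,4,0,0,3,0,0,2,0,0,4,2,0,0,4,4,4,0,4,3,4,0,0,2,0,0,0,0,4,0,0,0,0,0,0,0],
[0,0,0,0,0,0,0,0,0,0,0,0,0,0,4,0,0,3,1,0,0,1,1,0,3,3,0,0,4,0,0,0,0,2,0,2,4,0,4,3,1,0,1,0,0,0,0,1,0,0,2,1,0,2,1,1,0,0,3,0,4,1,0,2,3,3,0,1,4,0,0,2,0,3,1,3,4,2,0,0,0,0,3,0,0,4,3,2,1,3,3,1,0,1,2,3,0,0,1,0,2,0,0,3,0,0,0,0,0,0,0],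
[0,0,0,0,0,0,0,0,0,0,0,0,0,0,4,0,0,2,2,1,0,3,2,0,0,4,1,0,3,4,0,0,0,0,0,3,3,0,0,3,3,0,2,3,0,0,0,0,0,4,3,3,0,0,4,1,0,1,3,0,4,1,0,0,1,1,0,2,1,0,0,0,0,3,2,0,2,4,0,0,0,0,0,0,3,0,2,1,0,2,3,2,0,2,4,3,0,0,3,0,4,0,0,0,0,0,0,0,0,0,0],
[0,0,0,0,0,0,0,0,0,0,0,0,0,0,3,0,0,1,1,0,0,0,0,0,1,2,2,0,0,2,0,0,0,1,0,3,1,0,1,2,4,0,4,4,0,0,0,3,0,2,2,3,0,0,1,2,0,0,0,0,0,0,0,0,1,0,0,0,2,3,0,4,0,2,0,4,0,0,0,0,0,0,2,0,1,0,2,0,0,0,3,4,1,4,0,0,0,0,3,0,1,0,0,2,0,0,0,0,0,0,0],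
[0,0,0,0,0,0,0,0,0,0,0,0,0,0,2,0,0,0,2,0,0,2,0,0,1,1,1,0,2,0,0,0,0,1,0,1,3,0,1,0,2,0,0,0,0,0,0,3,0,0,0,2,0,4,1,0,0,0,1,0,0,0,0,4,1,4,0,0,1,4,0,0,0,4,0,4,2,1,0,0,0,0,2,0,0,0,3,0,0,0,1,3,0,1,0,4,1,0,2,0,1,0,0,0,0,0,0,0,0,0,0],
[0,0,0,0,0,0,0,0,0,0,0,0,0,0,0,0,0,2,3,0,0,2,2,0,4,4,3,0,0,0,0,0,0,4,0,4,0,0,4,3,4,0,0,0,0,0,0,2,0,0,3,1,0,3,2,2,0,0,0,0,4,0,0,2,0,1,0,1,1,2,0,4,0,2,2,1,1,0,0,0,0,0,3,0,0,0,1,0,0,4,4,4,0,0,4,4,0,0,4,1,0,0,0,0,0,0,0,0,0,0,0],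
[0,0,0,0,0,0,0,0,0,0,0,0,0,0,3,0,0,4,1,2,0,4,1,0,0,4,0,0,3,0,0,0,0,4,0,3,0,0,1,0,3,0,2,0,0,0,0,2,0,4,0,3,0,2,3,4,0,0,4,0,1,2,0,2,4,0,0,2,2,2,0,2,0,0,2,0,3,2,0,0,0,0,0,0,4,2,4,3,0,3,1,1,0,0,1,1,0,0,0,0,2,0,1,3,0,0,0,0,0,0,0],
[0,0,0,0,0,0,0,0,0,0,0,0,0,0,0,0,0,0,2,0,0,3,2,0,4,2,2,0,0,0,0,0,0,4,0,4,3,0,4,3,0,0,4,0,0,0,0,2,0,2,3,1,0,2,0,4,0,0,4,0,4,0,0,2,3,3,0,4,2,1,0,2,0,3,3,1,3,3,0,0,0,0,3,0,2,0,1,0,0,2,3,2,0,3,2,2,0,0,0,0,3,0,0,3,0,0,0,0,0,0,0],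
[0,0,0,0,0,0,0,0,0,0,0,0,0,0,3,0,0,3,2,0,0,2,1,0,1,2,1,0,3,0,0,0,0,1,0,4,4,0,1,4,2,0,0,0,0,0,0,3,0,1,0,2,0,2,2,0,0,0,1,0,3,0,0,1,0,4,0,0,1,0,0,4,0,4,3,4,3,4,0,0,0,0,2,0,0,4,0,0,0,4,1,2,0,0,4,4,0,0,3,0,2,0,0,0,0,0,0,0,0,0,0],
[0,0,0,0,0,0,0,0,0,0,0,0,0,0,1,0,0,0,3,0,0,1,0,0,4,2,2,0,1,0,0,0,0,4,0,4,3,0,4,4,2,0,4,0,0,0,0,2,0,1,3,3,0,4,1,3,0,0,4,0,1,0,0,0,2,1,0,2,4,0,0,3,0,0,0,1,1,4,0,0,0,0,3,0,0,4,1,0,0,4,2,3,0,0,3,1,0,0,1,0,4,0,0,3,0,0,0,0,0,0,0],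
[0,0,0,0,0,0,0,0,0,0,0,0,0,0,3,0,0,4,1,0,0,3,4,0,2,4,2,0,1,3,0,0,0,2,0,0,3,0,2,3,3,0,2,1,0,0,3,1,0,0,0,1,0,3,1,4,0,0,2,0,1,0,0,0,2,3,0,3,2,3,0,0,0,2,0,3,0,0,0,0,0,0,4,0,0,3,2,0,0,2,4,1,0,4,0,4,0,0,2,0,2,0,0,1,0,0,0,0,0,0,0],
[0,0,0,0,0,0,0,0,0,0,0,0,0,0,0,0,0,0,1,0,0,0,3,0,4,1,4,0,3,3,0,0,0,4,0,4,3,0,4,1,2,0,1,1,0,0,0,2,0,2,3,1,0,3,1,4,0,0,1,0,1,0,0,3,0,0,0,0,2,1,0,3,0,1,4,1,0,4,0,0,0,0,3,0,0,2,2,0,0,2,2,4,0,0,3,4,0,0,0,0,3,0,0,4,0,0,0,0,0,0,0],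
[0,0,0,0,0,0,0,0,0,0,0,0,0,0,3,0,0,1,1,1,0,2,3,0,2,3,2,0,0,2,0,0,0,2,0,3,0,0,1,3,0,0,4,4,0,0,0,1,0,1,3,4,0,1,2,0,0,0,1,0,0,3,0,4,0,2,0,3,2,1,0,3,0,3,4,3,2,4,0,0,0,0,0,0,1,0,2,4,0,3,4,1,0,4,3,1,0,0,0,0,1,0,0,2,0,0,0,0,0,0,0],
[0,0,0,0,0,0,0,0,0,0,0,0,0,0,3,0,0,3,4,2,0,1,4,0,3,4,3,0,2,4,0,0,0,4,0,3,0,0,2,0,3,0,2,3,4,0,0,2,0,0,3,2,0,4,0,1,0,0,3,0,0,2,0,0,1,1,0,3,3,3,0,3,0,2,1,2,3,4,0,0,0,0,3,0,2,3,4,1,0,3,2,3,0,3,2,1,0,0,4,0,2,0,0,3,0,0,0,0,0,0,0],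
[0,0,0,0,0,0,0,0,0,0,0,0,0,0,2,0,0,4,1,0,0,4,3,0,2,1,1,0,3,1,0,0,0,2,0,4,2,0,2,3,2,0,1,2,0,0,0,1,0,4,3,1,0,3,0,1,0,0,2,0,2,0,0,0,0,0,0,0,2,4,0,0,0,4,1,3,2,0,0,0,0,0,4,0,2,4,2,0,0,4,2,3,0,1,4,1,0,0,2,0,2,0,0,4,0,0,0,0,0,0,0],
[0,0,0,0,0,0,0,0,0,0,0,0,0,0,2,0,0,0,4,1,0,2,2,0,4,0,4,0,2,0,0,0,0,3,0,3,1,0,0,4,2,0,4,0,0,0,0,4,0,2,2,0,0,3,0,0,0,0,4,0,4,2,0,2,3,1,0,2,4,3,0,2,0,2,1,4,3,1,0,0,0,0,2,0,1,0,4,0,0,0,0,2,0,1,3,1,0,0,3,0,4,0,0,0,0,0,0,0,0,0,0],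
[0,0,0,0,0,0,0,0,0,0,0,0,0,0,4,0,0,3,4,2,0,2,2,0,3,4,3,0,3,4,0,0,0,1,0,4,2,0,0,0,3,0,0,3,0,0,0,3,0,0,0,0,0,4,4,4,0,0,2,0,3,2,0,2,3,4,0,4,1,1,0,2,0,1,0,2,3,4,0,0,0,0,1,0,1,3,0,1,0,1,1,2,0,1,4,3,0,1,0,0,1,0,0,1,0,0,0,0,0,0,0],
[0,0,0,0,0,0,0,0,0,0,0,0,0,0,3,0,0,1,4,0,0,1,1,0,2,4,3,0,3,0,0,0,0,2,0,0,2,0,2,1,1,0,1,0,0,0,0,1,0,3,3,4,0,0,3,4,0,0,1,0,2,0,0,3,0,2,0,4,2,3,0,3,0,3,2,3,3,3,0,0,0,0,4,0,0,3,2,0,0,2,4,4,0,1,3,1,0,0,3,0,2,0,0,1,0,0,0,0,0,0,0],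
[0,0,0,0,0,0,0,0,0,0,0,0,0,0,2,0,0,1,1,0,0,1,1,0,1,0,1,0,0,3,0,0,0,1,0,2,2,0,1,1,4,0,3,1,0,0,0,3,0,1,2,4,0,1,4,4,0,0,2,0,4,0,0,0,2,4,0,1,0,2,0,0,0,4,4,4,1,1,0,0,0,0,2,0,0,1,3,0,0,2,3,1,0,2,2,0,0,0,4,0,0,0,0,0,0,0,0,0,0,0,0],
[0,0,0,0,0,0,0,0,0,0,0,0,0,0,3,0,0,1,0,0,0,3,2,0,0,1,1,0,3,0,0,0,0,0,0,2,4,0,0,3,4,0,3,0,0,0,0,0,0,4,4,1,0,2,3,1,0,0,1,0,4,0,0,3,3,0,0,4,1,1,0,2,0,3,2,0,1,4,0,0,0,0,0,0,4,3,0,0,0,2,2,2,0,1,2,3,0,0,2,0,1,0,0,2,0,0,0,0,0,0,0],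
[0,0,0,0,0,0,0,0,0,0,0,0,0,0,2,0,0,0,3,0,0,3,2,0,2,2,0,0,3,1,0,0,0,2,0,0,4,0,2,2,1,0,4,2,0,0,0,1,0,1,2,0,0,2,2,0,0,0,1,0,4,0,0,1,4,3,0,3,3,1,0,2,0,1,3,3,1,3,0,0,0,0,4,0,3,1,3,0,0,1,0,1,0,1,4,3,0,0,3,0,3,0,0,3,0,0,0,0,0,0,0],
[0,0,0,0,0,0,0,0,0,0,0,0,0,0,0,0,0,2,4,0,0,1,2,0,4,1,2,0,2,2,0,0,0,4,0,4,4,0,4,1,1,0,0,4,0,0,0,2,0,4,1,1,0,3,4,3,0,0,3,0,2,0,0,1,1,2,0,2,3,1,0,4,0,3,0,1,4,0,0,0,0,0,3,0,4,3,0,0,0,4,3,1,0,4,0,4,0,0,1,0,0,0,0,2,0,0,0,0,0,0,0],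
[0,0,0,0,0,0,0,0,0,0,0,0,0,0,2,0,0,2,2,0,0,1,0,0,4,4,1,0,2,0,0,0,0,4,0,3,2,0,4,0,1,0,3,0,0,0,0,2,0,2,2,2,0,2,2,0,0,0,2,0,0,0,0,1,4,1,0,4,2,4,0,0,0,4,4,1,0,1,0,0,0,0,3,0,4,1,2,0,0,1,2,3,0,3,3,1,0,0,3,0,4,0,0,1,0,0,0,0,0,0,0],
[0,0,0,0,0,0,0,0,0,0,0,0,0,0,0,0,0,3,0,0,0,1,4,0,2,3,3,0,1,1,0,0,0,2,0,3,3,0,2,2,4,0,4,2,0,0,0,1,0,1,4,2,0,4,4,3,0,0,3,0,2,0,0,1,2,2,0,1,4,4,0,1,0,1,0,3,3,3,0,0,0,0,4,0,1,0,3,0,0,2,4,3,0,4,0,2,0,0,0,0,0,0,0,2,0,0,0,0,0,0,0],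
[0,0,0,0,0,0,0,0,0,0,0,0,0,0,1,0,0,3,2,0,0,3,2,0,2,1,0,0,1,0,0,0,0,2,0,2,0,0,2,4,3,0,4,0,0,0,0,1,0,4,3,2,0,4,3,1,0,0,4,0,2,0,0,0,0,2,0,3,3,0,0,0,0,3,1,3,2,1,0,0,0,0,4,0,0,4,3,0,0,3,3,1,0,1,4,4,0,0,2,0,4,0,0,4,0,0,0,0,0,0,0],
[0,0,0,0,0,0,0,0,0,0,0,1,0,0,2,0,0,3,0,3,0,0,1,0,0,1,2,0,3,1,0,0,0,2,0,2,4,0,1,2,2,0,0,2,0,0,0,1,0,1,2,3,0,0,1,2,0,0,4,0,3,2,0,2,2,4,0,4,4,0,0,4,0,3,0,3,4,0,0,0,0,0,4,0,2,0,0,4,0,4,1,4,0,3,4,4,0,0,0,0,3,0,0,1,0,0,0,0,0,0,0],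
[0,0,0,0,0,0,0,0,0,0,0,0,0,0,0,0,0,4,0,0,0,2,0,0,1,2,0,0,0,0,0,0,0,1,0,2,0,0,1,3,0,0,1,0,0,0,0,3,0,2,1,3,0,3,4,1,0,0,1,0,0,0,0,4,2,4,0,0,0,4,0,4,0,3,0,4,0,3,0,0,0,0,2,0,0,2,3,0,0,1,4,3,0,4,4,2,0,0,2,0,1,0,0,4,0,0,0,0,0,0,0],
[0,0,0,0,0,0,0,0,0,0,0,0,0,0,1,0,0,2,1,0,0,2,2,0,4,3,4,0,4,3,0,0,0,4,0,4,3,0,4,0,2,0,4,1,0,0,0,2,0,4,3,1,0,3,1,1,0,0,2,0,3,0,0,4,3,3,0,2,0,2,0,1,0,4,2,1,4,3,0,0,0,2,3,0,3,4,2,0,0,1,2,2,0,0,4,4,0,0,2,0,2,0,0,2,0,0,0,0,0,0,0],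
[0,0,0,0,0,0,0,0,0,0,0,0,0,0,0,0,0,1,4,0,0,0,0,0,0,1,4,0,4,4,0,0,0,0,0,0,4,0,0,4,0,0,3,3,0,0,0,0,0,2,2,4,0,2,1,3,0,0,0,0,2,0,0,0,0,2,0,2,4,0,0,3,0,0,4,0,4,1,0,0,0,0,0,0,1,4,1,0,0,4,3,3,0,4,0,4,0,0,4,0,2,0,0,2,0,0,0,0,0,0,0],
[0,0,0,0,0,0,0,0,0,0,0,0,0,0,2,0,0,1,4,3,0,0,0,0,3,0,3,0,0,3,0,0,0,4,0,0,4,0,2,3,2,0,4,1,0,0,0,2,0,0,3,0,0,4,0,2,0,0,0,0,0,3,0,1,0,4,0,1,2,1,0,4,0,2,3,2,4,4,0,0,0,0,2,0,3,1,2,2,0,1,3,1,0,0,4,0,0,0,4,0,2,0,0,3,0,0,0,0,0,0,0],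
[0,0,0,0,0,0,0,0,0,0,0,0,0,0,3,0,0,4,2,3,0,1,4,0,3,0,2,0,2,4,0,0,0,1,0,4,1,0,3,4,1,0,2,3,0,0,0,3,0,3,1,3,0,3,4,1,0,0,3,0,1,3,0,4,3,4,0,1,4,3,0,1,0,0,4,3,0,0,0,0,0,0,0,0,0,1,0,4,0,3,0,2,0,0,2,4,0,0,3,0,3,0,0,4,0,0,0,0,0,0,0],
[0,0,0,0,0,0,0,0,0,0,0,0,0,0,2,0,0,4,2,0,0,0,3,0,4,4,4,0,4,2,0,0,0,4,0,2,0,0,4,3,2,0,0,4,0,0,0,2,0,1,3,2,0,0,0,1,0,0,3,0,4,0,0,2,2,0,0,3,2,3,0,1,0,2,3,1,1,0,0,0,0,0,3,0,3,4,0,0,0,2,3,2,0,2,2,2,0,0,3,0,3,0,0,2,0,0,0,0,0,0,0],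
[0,0,0,0,0,0,0,0,0,0,0,0,0,0,0,0,0,0,3,0,0,4,4,0,1,2,4,0,1,1,0,0,0,1,0,3,2,0,1,1,3,0,3,2,0,0,0,3,0,1,0,1,0,3,0,2,0,0,3,0,3,0,0,2,3,4,0,3,2,2,0,2,0,3,4,4,4,4,0,0,0,0,2,0,4,1,1,0,0,2,3,0,0,3,1,2,0,0,1,0,0,0,0,0,0,0,0,0,0,0,0],
[0,0,0,0,0,0,0,0,0,0,0,0,0,0,0,0,0,0,4,0,0,3,0,0,0,3,0,0,2,2,0,0,0,0,0,3,1,0,0,2,2,0,2,4,0,0,0,0,0,0,4,2,0,4,3,4,0,0,0,0,2,0,0,3,2,2,0,0,4,1,0,4,0,3,2,0,4,1,0,0,0,0,0,0,1,2,1,0,0,3,1,1,0,0,3,2,0,0,1,0,2,0,0,0,0,0,0,0,0,0,0],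
[0,0,0,0,0,0,0,0,0,0,0,0,0,0,0,0,0,2,1,0,0,3,0,0,2,0,1,0,4,4,0,0,0,2,0,4,3,0,2,1,1,0,3,3,0,0,0,1,0,3,2,1,0,3,2,1,0,0,1,0,0,0,0,4,1,1,0,1,0,0,0,1,0,4,1,3,2,0,0,0,0,0,4,0,4,0,0,0,0,3,0,0,0,3,0,0,0,0,2,0,4,0,0,1,0,0,0,0,0,0,0],
[0,0,0,0,0,0,0,0,0,0,0,0,0,0,2,0,0,3,1,0,0,1,4,0,3,0,3,0,3,1,0,0,0,3,0,2,4,0,3,1,2,0,2,2,0,0,0,4,0,1,4,0,0,2,1,2,0,0,2,0,0,0,0,1,3,1,0,4,4,1,0,0,0,0,3,2,1,2,0,0,0,0,1,0,1,0,3,0,0,4,1,4,0,4,4,3,0,0,0,0,2,0,0,2,0,0,0,0,0,0,0],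
[0,0,0,0,0,0,0,0,0,0,0,0,0,0,1,0,0,2,3,0,0,4,2,0,3,3,4,0,2,1,0,0,0,3,0,2,4,0,3,2,1,0,4,2,0,0,0,4,0,2,4,0,0,0,4,2,0,0,4,0,1,0,0,1,0,3,0,3,4,1,0,1,0,2,0,2,0,2,0,0,0,0,1,0,2,2,1,0,0,4,0,4,0,0,4,4,0,0,4,0,2,0,0,3,0,0,0,0,0,0,0],
[0,0,0,0,0,0,0,0,0,0,0,0,0,0,0,0,0,3,2,0,0,0,3,0,4,0,2,0,3,3,0,0,0,4,0,0,2,0,4,0,2,0,2,1,0,0,0,2,0,4,2,0,0,2,2,1,0,0,1,0,0,0,0,3,2,0,0,0,4,1,0,0,0,3,2,1,2,2,0,0,0,0,3,0,3,2,3,0,0,2,2,4,0,1,0,4,0,0,3,0,4,0,0,1,0,0,0,0,0,0,0],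
[0,0,0,0,0,0,0,0,0,0,0,0,0,0,3,0,0,1,3,0,0,3,0,0,0,1,1,0,4,1,0,0,0,0,0,4,4,0,0,3,3,0,1,2,0,0,0,0,0,0,1,1,0,3,2,4,0,0,2,0,2,0,0,1,2,1,0,3,0,0,0,4,0,4,1,0,3,4,0,0,0,0,0,0,1,4,1,0,0,2,4,0,0,2,4,2,0,0,0,0,1,0,0,1,0,0,0,0,0,0,0],
[0,0,0,0,0,0,0,0,0,0,0,0,0,0,3,0,0,3,4,0,0,1,1,0,0,4,0,0,2,4,0,0,0,0,0,0,3,0,0,0,3,0,2,3,0,0,0,0,0,4,2,2,0,3,1,3,0,0,1,0,0,0,0,1,4,3,0,2,3,1,0,4,0,2,0,0,4,0,0,0,0,0,0,0,0,3,4,0,0,0,0,3,0,3,2,3,0,0,2,0,2,0,0,2,0,0,0,0,0,0,0],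
[0,0,0,0,0,0,0,0,0,0,0,0,0,0,3,0,0,4,0,0,0,2,2,0,0,3,1,0,3,0,0,0,0,0,0,3,0,0,0,2,1,0,3,0,0,0,0,0,0,1,0,0,0,1,3,3,0,0,2,0,2,0,0,3,3,4,0,0,0,1,0,2,0,4,4,0,4,2,0,0,0,0,0,0,2,3,1,0,0,1,3,2,0,0,0,1,0,0,3,0,0,0,0,3,0,0,0,0,0,0,0],
[0,0,0,0,0,0,0,0,0,0,0,0,0,0,4,0,0,0,1,0,0,4,2,0,4,1,4,0,4,0,0,0,0,4,0,2,2,0,4,3,1,0,4,0,0,0,0,2,0,0,4,1,0,3,3,2,0,0,2,0,4,0,0,2,2,4,0,1,2,3,0,3,0,1,3,1,2,2,0,0,0,0,3,3,1,0,2,0,0,2,0,2,0,4,2,4,0,0,1,0,0,0,0,2,0,0,0,0,0,0,0],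
[0,0,0,0,0,0,0,0,0,0,0,0,0,0,4,0,0,0,1,0,0,1,3,0,2,0,1,0,4,0,0,0,0,2,0,0,1,0,2,0,3,0,4,0,0,0,0,1,0,3,0,0,0,3,2,3,0,0,3,0,4,0,0,2,3,0,0,2,0,3,0,4,0,2,3,3,2,4,0,0,0,0,4,0,1,0,2,0,0,1,2,3,0,0,3,1,0,0,1,0,0,0,0,1,0,0,0,0,0,0,0],
[0,0,0,0,0,0,0,0,0,0,0,0,0,0,0,0,0,2,0,3,0,4,0,0,1,2,3,0,2,2,0,0,0,0,0,0,2,0,2,4,0,0,2,4,0,0,0,2,0,0,0,2,0,1,0,4,0,0,1,0,4,1,0,0,0,1,0,1,0,3,0,4,0,3,3,4,3,4,0,0,0,0,0,0,4,3,3,4,0,4,0,0,0,3,3,2,0,0,3,0,4,0,0,1,0,0,0,0,0,0,0],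
[0,0,0,0,0,0,0,0,0,0,0,0,0,0,1,0,0,0,3,0,0,2,2,0,4,1,0,0,4,3,0,0,0,4,0,0,3,0,4,4,2,0,0,1,0,0,0,2,0,2,2,3,0,1,2,0,0,0,1,0,0,0,0,3,4,3,0,2,3,1,0,4,0,4,3,1,4,3,0,0,0,0,3,0,3,3,1,0,0,4,4,1,0,2,1,0,0,0,1,0,0,0,0,2,0,0,0,0,0,0,0],
[0,0,0,0,0,0,0,0,0,0,0,0,0,0,4,0,0,0,1,0,0,1,2,0,1,1,0,0,1,2,0,0,0,1,0,1,4,0,1,0,2,0,3,4,0,0,0,3,0,3,2,1,0,4,0,0,0,0,4,0,3,0,0,1,3,0,0,3,2,1,0,3,0,1,2,4,1,4,0,0,0,0,2,0,4,2,1,0,0,0,3,3,0,1,4,3,0,0,4,0,1,0,0,4,0,0,0,0,0,0,0],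
[0,0,0,0,0,0,0,0,0,0,0,0,0,0,4,0,0,1,0,0,0,4,3,0,1,0,0,0,3,0,0,0,0,1,0,1,1,0,1,2,1,0,3,0,0,0,0,3,0,0,3,1,0,0,4,3,0,0,1,0,0,0,0,1,3,0,0,0,0,3,0,1,0,2,2,4,4,2,0,0,0,0,2,0,3,3,3,0,0,1,2,4,0,1,0,0,0,0,3,0,0,0,0,4,0,0,0,0,0,0,0],
[0,0,0,0,0,0,0,0,0,0,0,0,0,0,0,0,0,1,4,0,0,3,3,0,3,3,4,0,3,3,0,0,0,3,0,2,4,0,3,1,0,0,2,1,0,0,0,4,0,2,3,0,0,0,4,0,0,0,3,0,0,0,0,3,2,0,0,1,1,0,0,1,0,2,0,2,0,2,0,0,0,0,1,0,4,2,4,0,0,3,4,0,0,2,4,1,0,0,1,0,3,0,0,1,0,0,0,0,0,0,0],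
[0,0,0,0,0,0,0,0,0,0,0,0,0,0,0,4,0,3,3,3,0,1,2,0,2,4,0,0,0,0,0,0,0,4,0,4,4,0,0,1,4,0,3,0,0,0,0,2,0,1,2,1,0,0,4,2,0,0,0,0,1,2,0,4,4,1,0,2,1,4,0,2,0,1,2,0,3,4,0,0,0,0,2,0,1,4,0,3,0,1,2,3,0,2,3,2,0,0,1,0,4,0,0,3,0,0,0,0,0,0,0],
[0,0,0,0,0,0,0,0,0,0,0,0,0,3,4,0,0,4,3,0,0,0,2,0,1,4,3,0,3,2,0,0,0,1,0,3,1,0,1,0,3,0,1,4,0,0,0,3,0,3,0,4,0,4,3,0,0,0,1,0,0,0,0,0,1,0,0,4,0,0,0,0,0,0,3,4,2,2,0,0,0,0,2,0,3,1,3,0,0,3,3,4,0,4,1,3,0,0,2,0,0,0,0,2,0,0,0,0,0,0,0],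
[0,0,0,0,0,0,0,0,0,0,0,0,0,0,2,0,0,1,2,3,0,0,1,0,1,1,1,0,1,4,0,0,0,2,0,4,2,0,0,3,3,0,2,3,0,0,0,1,0,3,4,4,0,1,3,1,0,0,3,0,3,4,0,1,4,0,0,3,0,1,0,3,0,0,0,4,2,4,0,0,0,0,2,0,2,2,3,2,0,1,0,0,0,2,3,0,0,0,3,0,2,0,0,0,0,0,0,0,0,0,0],
[0,0,0,0,0,0,0,0,0,0,0,0,0,0,1,0,0,4,2,0,0,0,2,0,0,3,1,0,2,1,0,0,0,0,0,1,4,0,0,1,2,0,0,2,0,0,0,0,0,1,4,2,0,3,1,4,0,0,1,0,4,0,0,2,4,3,0,2,0,2,0,3,0,3,1,0,4,2,0,0,0,0,0,0,3,3,2,0,0,3,0,4,0,3,2,0,0,0,1,0,1,0,0,2,0,0,0,0,0,0,0],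
[0,0,0,0,0,0,0,0,0,0,0,0,0,0,1,0,0,1,1,0,0,4,2,0,2,0,4,0,0,4,0,0,0,2,0,1,2,0,2,3,2,0,2,3,0,0,0,1,0,1,0,1,0,4,0,1,0,0,4,0,3,0,0,1,3,0,0,4,1,4,0,0,0,4,1,3,3,0,0,0,0,0,4,0,3,2,4,0,0,4,0,0,0,4,3,4,0,0,3,0,4,0,0,1,0,0,0,0,0,0,0],
[0,0,0,0,0,0,0,0,0,0,0,0,0,0,2,0,0,1,4,0,0,2,3,0,0,2,3,0,4,2,0,0,0,0,0,2,2,0,0,3,1,0,3,0,0,0,0,0,0,0,4,3,0,3,1,0,0,0,1,0,0,0,0,4,3,3,0,3,0,0,0,1,0,2,0,0,2,1,0,0,0,0,0,0,1,0,1,0,0,3,0,1,0,4,0,2,0,0,2,0,1,0,0,2,0,0,0,0,0,0,0],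
[0,0,0,0,0,0,0,0,0,0,0,0,0,0,4,0,0,2,4,0,0,0,2,0,4,1,4,0,3,4,0,0,0,4,0,0,1,0,4,0,3,0,4,3,0,0,0,2,0,3,3,4,0,1,1,1,0,0,2,0,4,0,0,2,1,1,0,1,0,3,0,2,0,4,4,1,2,1,0,0,0,0,3,0,2,2,4,0,0,2,2,0,0,0,4,3,0,0,0,0,1,0,0,2,0,0,0,0,0,0,0],
[0,0,0,0,0,0,0,0,0,0,0,0,0,0,1,0,0,4,3,0,0,2,4,0,0,2,3,0,3,2,0,0,0,0,0,2,3,0,0,2,4,0,4,4,0,0,0,0,0,3,1,1,0,4,2,0,0,0,4,0,3,1,0,4,3,3,0,1,0,3,0,1,0,2,1,0,1,1,0,0,0,0,4,0,2,4,2,2,0,2,3,2,0,3,2,4,0,0,4,0,3,3,0,1,0,0,0,0,0,0,0],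
[0,0,0,0,0,0,0,0,0,0,0,0,0,0,0,0,0,0,3,4,0,1,0,0,1,3,0,0,3,3,0,0,0,2,0,2,0,0,1,2,0,0,2,1,0,0,0,1,0,1,3,4,0,3,4,3,0,0,4,0,2,2,0,2,4,0,0,0,0,3,0,3,0,4,4,4,0,0,0,0,0,0,2,0,4,3,0,1,0,3,2,0,0,3,3,4,0,0,2,0,1,0,0,3,0,0,0,0,0,0,0],
[0,0,0,0,0,0,0,0,0,0,0,0,0,0,4,0,0,1,2,0,0,4,0,0,0,0,2,0,1,2,0,0,0,0,0,4,2,0,0,2,1,0,4,4,0,0,0,0,0,3,0,2,0,1,0,4,0,0,1,0,0,0,0,3,4,4,0,4,2,1,0,1,0,0,1,0,0,4,0,0,0,0,0,0,1,0,1,0,0,0,2,4,0,4,3,0,0,0,0,0,4,0,0,2,0,0,0,0,0,0,0],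
[0,0,0,0,0,0,0,0,0,0,0,0,0,0,1,0,0,1,1,0,0,1,1,0,1,3,0,0,0,4,0,0,0,1,0,2,3,0,1,3,1,0,2,3,0,0,0,3,0,4,2,1,0,1,2,4,0,0,2,0,3,0,0,0,3,3,0,3,0,1,0,1,0,2,0,4,0,0,0,0,0,0,2,0,4,2,4,0,0,0,1,3,0,2,0,0,0,0,1,0,4,0,0,0,0,0,0,0,0,0,0],
[0,0,0,0,0,0,0,0,0,0,0,0,0,0,2,0,0,0,3,0,0,1,2,0,3,2,0,0,4,2,0,0,0,3,0,2,0,0,3,0,3,0,1,4,0,0,0,4,0,0,3,1,0,2,3,3,0,0,4,0,1,0,0,3,2,4,0,3,1,2,0,4,0,0,3,2,2,4,0,0,0,0,1,0,3,2,0,0,0,1,0,0,0,1,4,2,0,0,2,0,1,0,0,3,0,0,0,0,0,0,0],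
[0,0,0,0,0,0,0,0,0,0,0,0,0,0,3,0,0,0,0,0,0,4,1,0,2,4,1,0,0,2,0,0,0,2,0,2,2,0,2,4,1,0,3,4,0,0,0,1,0,4,4,0,0,3,4,3,0,0,2,0,3,0,0,2,3,0,0,3,0,0,0,3,0,4,1,3,4,4,0,0,0,0,4,0,2,2,2,0,0,3,0,4,0,2,4,3,0,0,2,0,3,0,0,3,0,0,0,0,0,0,0],
[0,0,0,0,0,0,0,0,0,0,0,0,0,0,1,0,0,3,2,0,0,0,3,0,3,1,3,0,0,4,0,0,0,3,0,2,2,0,3,1,0,0,2,3,0,0,0,4,0,0,2,1,0,3,0,0,0,0,0,0,0,0,0,1,4,0,0,2,0,0,0,4,0,1,0,2,4,4,0,0,0,0,1,0,0,3,1,0,0,2,2,2,0,3,0,1,0,0,3,0,1,0,0,3,0,0,0,0,0,0,0],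
[0,0,0,0,0,0,0,0,0,0,0,0,0,0,0,0,0,3,3,0,0,1,3,0,2,4,3,0,3,3,0,0,0,2,0,4,3,0,2,2,2,0,4,1,0,0,0,1,0,2,1,0,0,3,2,0,0,0,4,0,2,0,0,1,3,4,0,2,4,2,0,2,0,1,3,3,3,1,0,0,0,0,4,0,4,2,1,0,0,4,4,3,0,1,4,4,0,0,2,0,3,0,0,4,0,0,0,0,0,0,0],
[0,0,0,0,0,0,0,0,0,0,0,0,0,0,2,0,0,4,1,0,0,4,2,0,2,1,1,0,4,2,0,0,0,2,0,3,2,0,2,1,3,0,3,4,0,0,0,1,0,1,2,0,0,0,2,4,0,0,2,0,2,0,0,3,3,2,0,0,2,0,0,2,0,4,0,3,1,4,0,0,0,0,4,0,2,4,2,0,0,3,0,1,0,4,3,1,0,0,1,0,4,0,0,2,0,0,0,0,0,0,0],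
[0,0,0,0,0,0,0,0,0,0,0,0,0,0,2,0,0,4,2,0,0,0,1,0,3,2,2,0,1,4,0,0,0,3,0,2,2,0,3,3,0,0,4,3,0,0,0,4,0,1,4,3,0,1,1,2,0,0,4,0,3,0,0,3,3,0,0,1,0,1,0,3,0,0,1,2,3,4,0,0,0,0,1,0,0,1,4,0,0,0,2,4,0,0,4,2,0,0,1,0,4,0,0,1,0,0,0,0,0,0,0],
[0,0,0,0,0,0,0,0,0,0,0,0,1,0,2,0,0,0,0,3,0,4,3,0,1,4,1,0,3,1,0,0,0,0,0,2,0,0,1,1,3,0,3,2,0,0,0,0,0,3,1,2,0,0,1,0,0,0,3,0,3,0,0,3,0,3,0,1,4,3,0,4,0,2,1,4,1,1,0,0,0,0,2,0,1,1,4,0,0,3,4,3,0,3,1,4,0,0,3,0,1,0,0,4,0,0,0,0,0,0,0],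
[0,0,0,0,0,0,0,0,0,0,0,0,0,0,4,0,0,1,3,0,0,0,4,0,4,1,3,0,1,2,0,0,0,4,0,0,1,0,4,4,4,0,1,4,0,0,0,2,0,3,4,0,0,1,1,4,0,0,0,0,2,0,0,3,3,0,0,4,3,2,0,2,0,0,4,1,0,0,0,0,0,0,3,0,0,0,4,0,0,3,0,0,0,3,3,0,0,0,0,0,3,0,0,3,0,0,0,0,0,0,0],
[0,0,0,0,0,0,0,0,0,0,0,0,0,0,1,0,0,2,4,0,0,3,4,0,1,2,0,0,3,2,0,0,0,1,0,1,1,0,1,4,1,0,0,4,0,0,0,3,0,0,4,3,0,4,2,0,0,0,3,0,0,0,0,1,0,3,0,4,0,4,0,2,0,4,2,4,1,1,0,0,0,0,2,0,0,4,1,0,0,1,0,3,0,4,3,0,0,0,2,0,2,0,0,4,0,0,0,0,0,0,0],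
[0,0,0,0,0,0,0,0,0,0,0,0,0,0,4,0,0,1,0,0,0,3,0,0,0,4,2,0,4,0,0,0,0,0,0,2,4,0,0,1,0,0,2,0,0,0,0,0,0,0,0,2,0,2,0,4,0,0,1,0,0,0,0,0,1,4,0,4,2,0,0,0,0,0,2,0,3,2,0,0,0,0,0,0,3,2,2,0,0,1,1,0,0,4,0,0,0,0,4,0,3,0,0,3,0,0,0,0,0,0,0],
[0,0,0,0,0,0,0,0,0,0,0,0,0,0,1,0,0,1,1,0,0,0,2,0,0,4,3,0,2,1,0,0,0,0,0,1,1,0,0,1,2,0,1,2,0,0,0,0,0,2,2,2,0,4,0,1,0,0,2,0,2,2,0,0,4,4,0,3,3,2,0,3,0,3,3,0,0,4,0,0,0,0,3,0,0,4,3,1,0,1,4,4,0,3,2,1,0,0,2,0,0,0,0,2,0,0,0,0,0,0,0],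
[0,0,0,0,0,0,0,0,0,0,0,0,0,0,2,0,0,1,0,2,0,3,0,0,1,4,2,0,3,1,0,0,0,4,0,4,0,0,4,1,3,0,2,2,0,0,0,2,0,4,4,0,0,2,1,3,0,0,1,0,3,1,0,3,3,1,0,3,4,3,0,1,0,2,3,4,0,1,0,0,0,0,0,0,4,4,1,3,0,0,0,1,0,4,3,2,0,0,4,0,0,0,0,3,0,0,0,0,0,0,0],
[0,0,0,0,0,0,0,0,0,0,0,0,0,0,4,0,0,0,2,0,0,2,0,0,1,2,2,0,1,2,0,0,0,1,0,1,0,0,1,1,4,0,0,4,0,0,0,3,0,2,2,0,0,0,2,3,0,0,1,0,0,0,0,2,1,4,0,3,3,1,0,0,0,1,2,4,1,2,0,0,0,0,2,0,0,2,4,0,0,2,2,4,0,0,2,3,0,0,0,0,0,0,0,4,0,0,0,0,0,0,0],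
[0,0,0,0,0,0,0,0,0,0,0,0,0,0,0,0,0,0,0,0,0,0,0,0,0,0,0,0,0,0,0,0,0,0,0,0,0,0,0,0,0,0,0,0,0,0,0,0,0,0,0,0,0,0,0,0,0,0,0,0,0,0,0,0,0,0,0,0,0,0,0,0,0,0,0,0,0,0,0,0,0,0,0,0,0,0,0,0,0,0,0,0,0,0,0,0,0,0,0,0,0,0,0,0,0,0,0,0,0,2,0],
[0,0,0,0,0,0,0,0,0,0,0,0,0,0,0,0,0,0,0,0,0,0,0,0,0,0,0,0,0,0,0,0,0,0,0,0,0,0,0,0,0,0,0,0,0,0,0,0,0,0,0,0,0,0,0,0,0,0,0,0,0,0,0,0,0,0,0,0,0,0,0,0,0,0,0,0,0,0,0,0,0,0,0,0,0,0,0,0,0,0,0,0,0,0,0,0,0,0,0,0,0,0,0,0,0,0,0,0,0,0,2],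
[0,0,0,0,0,0,0,0,0,0,0,0,0,0,0,0,0,0,0,0,0,0,0,0,0,0,0,0,0,0,0,0,0,0,0,0,0,0,0,0,0,0,0,0,0,0,0,0,0,0,0,0,0,0,0,0,0,0,0,0,0,0,0,0,0,0,0,0,0,0,0,0,0,0,0,0,0,0,0,0,0,0,0,0,0,0,0,0,0,0,0,0,0,0,0,0,0,0,0,0,0,0,0,0,0,0,1,0,0,0,0],
[0,0,0,0,0,0,0,0,0,0,0,0,0,0,0,0,0,0,0,0,0,0,0,0,0,0,0,0,0,0,0,0,0,0,0,0,0,0,0,0,0,0,0,0,0,0,0,0,0,0,0,0,0,0,0,0,0,0,0,0,0,0,0,0,0,0,0,0,0,0,0,0,0,0,0,0,0,0,0,0,0,0,0,0,0,0,0,0,0,0,0,0,0,0,0,0,0,0,0,0,0,0,0,0,0,0,0,1,0,0,0],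
[0,0,0,0,0,0,0,0,0,0,0,0,0,0,0,0,0,0,0,0,0,0,0,0,0,0,0,0,0,0,0,0,0,0,0,0,0,0,0,0,0,0,0,0,0,0,0,0,0,0,0,0,0,0,0,0,0,0,0,0,0,0,0,0,0,0,0,0,0,0,0,0,0,0,0,0,0,0,0,0,0,0,0,0,0,0,0,0,0,0,0,0,0,0,0,0,0,0,0,0,0,0,0,0,0,0,0,0,1,0,0],
[0,0,0,0,0,0,0,0,0,0,0,0,0,0,0,0,0,0,0,0,0,0,0,0,0,0,0,0,0,0,0,0,0,0,0,0,0,0,0,0,0,0,0,0,0,0,0,0,0,0,0,0,0,0,0,0,0,0,0,0,0,0,0,0,0,0,0,0,0,0,0,0,0,0,0,0,0,0,0,0,0,0,0,0,0,0,0,0,0,0,0,0,0,0,0,0,0,0,0,0,0,0,0,0,2,0,0,0,0,0,0],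
[0,0,0,0,0,0,0,0,0,0,0,0,0,0,0,0,0,0,0,0,0,0,0,0,0,0,0,0,0,0,0,0,0,0,0,0,0,0,0,0,0,0,0,0,0,0,0,0,0,0,0,0,0,0,0,0,0,0,0,0,0,0,0,0,0,0,0,0,0,0,0,0,0,0,0,0,0,0,0,0,0,0,0,0,0,0,0,0,0,0,0,0,0,0,0,0,0,0,0,0,0,0,0,0,0,2,0,0,0,0,0]]

noncomputable def tabZi : List (List ℕ) := [[4,4,0,0,0,0,0,2,1,0,0,4,0,4,3,1,2,0,4,0,3,4,2,4,2,0,2,4,1,2,1,2,2,2,1,0,2,0,1,3,2,3,0,1,0,3,0,1,0,1,2,1,3,4,0,4,4,3,4,1,2,1,0,1,3,1,2,4,2,2,4,1,2,1,2,3,0,0,4,1,2,2,1,4,2,0,2,1,2,1,1,0,0,1,3,1,0,2,0,0,2,0,2,0,4,3,0,0,0,0,0],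
[4,1,0,0,0,0,0,0,2,0,0,4,0,2,1,1,2,0,3,0,2,3,1,2,0,2,1,1,3,4,1,2,1,3,1,2,0,4,0,2,3,4,0,2,0,2,2,3,0,0,0,3,1,4,1,4,1,3,2,3,2,3,2,4,0,4,0,4,1,0,2,3,4,2,3,0,3,4,1,3,2,1,0,3,3,3,2,0,0,4,1,0,3,2,1,2,2,3,1,0,3,0,2,2,1,1,0,0,0,0,0],
[0,0,0,4,1,0,0,0,0,0,0,2,3,2,3,4,2,1,4,1,3,0,3,0,1,3,4,0,4,1,1,4,0,1,2,2,1,4,3,0,4,4,2,3,4,1,4,0,3,3,2,0,2,2,4,0,1,2,3,2,0,3,3,0,0,4,1,1,4,3,4,2,3,0,2,2,1,2,0,1,1,0,1,2,2,3,3,3,2,3,1,1,3,3,2,3,2,3,2,1,0,1,4,2,0,0,3,2,3,0,0],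
[0,0,4,0,0,0,0,0,0,0,0,0,2,2,1,0,3,0,2,4,1,2,3,3,1,3,1,1,4,2,0,1,3,1,0,0,0,0,4,1,4,0,0,4,1,2,0,0,2,2,3,1,2,2,3,2,4,3,4,2,2,0,3,1,1,3,3,4,1,3,2,2,1,4,4,2,1,1,2,1,4,1,2,2,1,1,3,1,4,0,3,4,3,2,1,0,4,1,2,0,3,3,4,0,0,0,2,2,3,0,0],
[0,0,0,2,2,0,0,0,0,0,0,4,4,0,1,3,0,0,0,3,3,3,1,2,3,3,4,0,0,2,2,0,2,3,4,3,0,4,2,1,0,3,0,0,2,1,4,1,4,0,0,2,2,4,4,4,3,0,2,0,2,1,3,0,2,1,3,1,4,1,4,3,1,1,4,1,1,3,0,0,0,4,4,2,0,1,3,2,2,2,1,4,2,4,3,0,0,3,0,0,1,1,0,1,0,0,0,3,3,0,0],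
[0,0,0,0,0,2,4,0,0,3,0,4,0,4,2,4,4,2,4,0,4,4,1,2,3,1,3,4,4,2,4,1,4,2,1,4,1,2,1,0,2,3,2,4,0,1,4,2,0,2,1,3,0,0,1,2,3,1,2,1,3,3,2,3,2,0,4,0,2,1,4,0,3,4,2,3,1,0,1,4,1,1,2,0,1,0,2,3,0,3,4,4,0,4,2,1,4,1,1,3,2,4,2,2,0,0,0,0,0,0,1],
[0,0,0,0,0,3,3,0,0,2,2,0,2,3,1,0,0,3,2,2,0,3,4,4,3,2,2,0,3,1,0,0,3,3,0,4,3,4,1,2,3,1,3,2,2,0,3,1,3,0,0,1,0,3,3,4,3,0,1,2,0,1,4,0,0,3,3,4,4,0,3,1,4,3,1,3,2,4,0,3,0,2,0,0,4,1,3,0,0,4,4,1,3,4,2,3,4,0,1,2,2,4,0,3,0,0,0,0,0,3,0],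
[3,1,2,2,0,2,3,3,3,2,0,0,2,4,4,4,3,0,1,0,2,0,0,3,2,0,3,3,0,3,2,4,4,3,3,0,2,4,1,0,2,1,3,4,0,4,2,3,4,2,4,3,1,1,3,4,3,1,4,2,2,3,0,3,1,1,2,0,4,3,2,0,2,1,2,4,1,0,2,0,4,3,2,4,2,1,4,4,2,0,4,2,0,2,4,2,4,3,1,4,1,2,0,2,1,1,0,0,4,3,1],
[0,3,4,2,2,3,1,1,2,0,0,0,2,2,0,3,4,0,0,3,0,3,3,4,0,4,2,3,3,3,0,3,0,1,1,0,3,1,0,0,1,0,3,2,3,2,4,4,4,0,4,4,3,2,4,3,0,1,1,2,4,2,4,3,1,2,0,1,2,4,3,2,0,1,4,0,0,1,4,3,2,4,4,2,3,1,2,0,0,0,1,0,1,0,2,4,1,1,0,4,0,1,3,3,3,3,0,4,2,2,3],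
[0,0,0,0,4,0,1,0,0,3,2,4,3,3,1,3,4,2,3,3,3,0,2,3,0,2,4,4,0,2,0,4,4,2,1,1,3,4,2,0,3,1,2,1,2,0,1,2,1,0,1,1,0,2,4,0,2,3,3,2,4,1,2,3,4,3,4,3,1,3,0,3,3,4,4,0,4,0,0,3,3,0,0,4,1,0,3,0,1,4,1,2,0,0,2,1,3,3,3,2,0,3,3,1,3,3,2,4,1,4,2],
[0,0,3,0,4,0,0,0,0,3,4,4,1,0,0,4,1,2,4,2,1,3,0,1,1,3,2,3,4,2,4,2,2,0,4,0,3,0,1,0,4,1,1,3,4,2,4,2,1,4,4,0,4,4,0,1,0,2,3,2,3,4,2,3,0,1,3,2,0,0,4,0,2,0,3,3,2,3,3,0,2,4,3,1,4,1,0,1,0,4,3,1,0,0,2,3,0,4,1,3,1,1,3,1,1,3,0,1,3,2,2],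
[0,0,4,4,3,0,3,0,0,4,4,0,1,1,2,4,2,2,4,1,0,0,1,0,3,2,2,2,3,4,2,2,2,0,3,3,4,4,0,2,3,0,2,3,2,1,4,3,2,1,2,4,1,2,1,3,3,1,4,1,2,3,0,2,1,4,2,2,3,3,0,1,3,4,2,1,4,1,2,0,2,4,0,2,3,2,4,4,0,1,0,3,2,0,0,4,2,4,4,2,3,2,3,2,3,1,3,4,3,4,0],
[0,0,1,4,0,4,1,0,0,2,3,0,3,0,0,0,2,4,1,2,4,2,4,4,1,1,2,3,2,2,4,2,2,0,3,2,2,4,3,1,0,2,4,2,2,4,1,1,1,2,3,0,2,2,1,4,2,1,2,3,0,1,3,1,1,1,2,2,1,3,1,1,3,1,1,3,3,3,0,4,2,1,1,2,2,0,1,3,2,3,1,2,3,1,3,0,3,2,3,3,1,1,2,3,0,0,0,1,4,1,0],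
[0,0,1,0,0,4,4,0,0,2,3,2,4,2,0,3,3,3,1,2,4,4,4,0,0,4,4,0,2,0,0,2,2,2,1,2,4,4,1,1,0,2,4,1,4,0,1,4,2,2,0,2,2,0,3,3,3,4,2,3,1,1,0,0,0,4,0,3,3,0,2,0,3,1,2,1,4,4,3,1,4,2,2,2,0,1,4,1,2,4,0,2,4,2,1,0,4,2,0,2,1,4,2,2,4,1,4,1,1,1,4],
[0,0,2,0,4,4,2,0,0,3,1,0,2,0,4,4,1,0,1,1,1,1,3,2,3,1,2,0,3,0,0,4,2,0,2,2,0,3,0,0,2,1,0,3,2,1,0,4,1,3,1,1,4,0,3,1,1,1,0,0,0,0,1,2,3,2,3,4,0,2,4,1,1,0,4,0,1,0,3,1,3,0,3,1,3,2,4,3,4,1,0,3,3,4,4,1,0,0,4,3,3,1,0,3,2,4,0,3,2,4,2],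
[0,0,4,3,1,3,2,0,0,0,0,3,3,0,0,2,0,4,3,0,0,2,3,0,1,0,1,1,2,0,3,4,1,3,2,1,3,0,2,2,1,0,3,2,2,2,0,3,2,4,1,3,0,4,0,0,0,0,3,4,4,0,3,4,2,3,1,2,1,2,4,0,0,0,1,1,4,0,3,1,0,2,3,4,4,4,4,4,4,4,2,4,0,4,2,0,1,4,4,3,4,0,3,2,4,3,2,1,2,2,2],
[0,0,1,0,4,2,1,0,0,4,1,1,4,0,4,4,3,3,2,1,1,1,1,4,2,1,2,1,3,1,4,0,2,1,2,0,0,4,0,1,2,3,2,3,1,3,2,2,4,0,4,4,4,3,2,0,1,2,1,4,1,4,3,4,1,1,3,0,4,3,4,2,2,3,0,1,3,1,3,2,2,3,1,3,3,0,0,3,0,2,4,3,4,4,1,0,0,4,3,1,2,1,2,4,3,0,2,1,3,1,1],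
[0,0,1,0,4,0,3,0,0,2,4,2,4,1,1,2,2,3,4,0,4,4,0,3,0,0,3,3,0,4,2,1,4,1,3,3,3,2,4,1,1,4,0,0,2,2,4,2,2,4,3,3,4,1,4,1,2,0,2,2,4,3,0,0,4,0,1,0,0,4,0,1,4,2,1,0,3,0,1,3,3,4,1,2,0,2,1,2,2,2,2,0,1,4,4,0,2,2,1,2,1,2,1,2,2,2,1,3,4,1,0],
[0,0,3,1,3,0,3,0,0,0,3,1,0,2,1,1,4,4,2,2,0,4,4,1,0,4,0,0,3,2,4,0,0,1,2,4,0,4,2,1,0,1,3,0,3,2,2,2,3,4,0,2,3,3,2,2,3,1,2,2,0,0,2,3,0,3,1,0,0,2,4,0,0,4,4,1,0,3,3,4,1,1,2,1,2,3,3,4,4,4,1,1,4,1,3,4,0,4,2,2,2,2,1,3,1,2,0,3,4,4,2],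
[0,0,2,3,3,1,4,0,0,0,0,3,1,1,2,1,2,1,1,0,0,4,4,3,3,0,2,3,4,3,2,2,4,0,2,0,1,4,1,3,1,3,2,0,1,1,2,2,4,1,3,1,3,0,2,0,3,0,4,2,1,3,4,0,4,2,2,1,4,0,0,0,1,3,1,4,0,4,3,4,1,3,4,4,1,2,1,2,2,0,2,4,1,2,0,3,4,1,1,4,1,1,0,2,1,3,4,2,2,1,4],
[0,0,0,0,4,3,2,0,0,1,1,0,3,3,0,4,2,0,3,2,3,4,0,1,3,0,0,3,2,2,2,2,2,3,0,1,0,3,0,4,4,3,4,4,2,4,1,4,2,4,0,4,1,3,1,4,3,3,4,3,0,2,0,3,2,4,0,2,1,2,3,2,1,0,3,4,4,2,1,1,4,3,3,0,4,4,2,2,4,2,2,2,4,3,1,0,2,3,0,1,4,3,3,3,2,0,0,0,0,0,4],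
[0,0,3,1,2,2,0,0,0,3,4,4,2,2,3,2,3,0,3,0,0,4,2,1,0,4,2,1,4,1,2,0,3,2,2,2,4,1,1,1,2,4,3,0,4,3,3,1,1,2,0,1,3,0,3,0,4,0,0,3,2,4,1,0,3,2,1,2,0,0,4,0,3,0,4,2,4,4,2,4,1,1,4,0,3,3,0,1,3,1,3,0,3,3,1,0,1,4,4,0,1,2,1,4,2,4,1,0,3,4,2],
[0,0,0,4,4,0,0,0,0,1,3,3,0,2,3,2,0,1,3,3,3,1,2,3,0,3,1,3,2,1,1,2,2,0,1,0,3,4,3,4,3,3,1,3,2,0,4,2,0,0,2,3,0,0,4,0,1,3,1,3,0,1,0,0,4,3,4,3,0,1,0,3,4,1,2,2,3,3,1,4,2,2,3,2,0,0,0,3,1,4,4,2,4,3,2,1,2,1,4,1,1,4,1,3,4,4,2,1,2,3,0],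
[0,0,4,4,2,1,0,0,0,1,1,1,4,2,3,1,4,2,2,3,0,0,4,3,3,2,0,3,1,2,1,2,4,0,3,2,1,4,1,0,4,3,4,1,1,0,4,0,4,1,3,0,3,3,2,4,3,0,2,0,2,4,1,4,3,3,0,2,0,3,2,4,4,0,1,1,0,3,2,1,0,1,3,4,0,0,1,2,4,3,2,0,3,2,2,3,2,3,3,3,2,3,3,0,1,1,2,2,1,2,2],
[0,0,0,3,0,0,2,0,0,4,0,2,3,1,0,2,2,0,4,3,0,1,4,1,1,2,4,3,3,1,1,3,2,3,1,2,1,1,4,0,4,0,2,2,4,0,4,1,1,0,2,3,0,1,4,3,0,1,4,1,0,3,2,3,4,4,1,0,3,1,1,0,1,2,3,2,3,0,2,3,3,1,2,2,3,3,4,2,1,1,2,1,0,3,0,1,0,3,3,2,4,3,3,3,4,4,3,3,3,4,2],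
[0,0,1,1,4,4,3,0,0,3,1,2,0,2,1,0,3,3,0,1,3,2,0,0,4,3,1,0,2,3,3,2,1,4,2,2,3,2,0,0,3,4,3,3,1,3,3,2,1,2,3,4,1,0,1,0,3,3,2,2,4,3,0,4,4,3,1,2,3,1,2,2,0,4,1,2,2,0,4,1,3,2,3,4,2,1,3,2,2,3,3,2,3,1,3,0,0,4,3,2,0,1,0,2,1,3,1,0,4,0,2],
[0,0,4,1,3,4,4,0,0,0,4,2,1,2,2,1,1,3,2,1,0,3,3,0,4,0,4,2,1,4,3,2,0,2,2,4,4,0,0,2,4,4,4,2,1,4,4,4,1,0,1,3,2,2,0,1,1,2,0,3,1,2,1,2,1,1,3,0,2,3,3,0,4,0,3,3,1,0,2,1,1,3,0,1,0,4,1,2,2,0,2,1,2,4,2,4,3,1,3,2,0,0,3,0,3,0,1,3,0,1,0],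
[0,0,2,1,1,4,3,0,0,3,3,2,0,2,1,2,3,2,1,4,1,1,1,0,1,3,1,1,3,0,3,0,2,0,2,1,0,3,0,2,4,0,2,2,1,1,4,3,1,2,3,3,3,1,1,0,2,2,3,4,2,2,3,3,2,2,0,0,2,0,3,0,2,3,3,0,3,2,0,0,2,0,1,0,0,1,3,0,2,3,2,3,0,3,4,3,4,4,0,1,0,4,2,1,0,4,4,0,0,0,4],
[0,0,3,4,1,3,3,0,0,3,1,3,3,2,0,0,4,0,1,0,3,4,4,1,0,0,1,1,2,2,3,1,1,4,2,4,0,1,3,4,0,1,0,0,1,3,1,2,1,1,4,1,4,1,0,4,3,1,3,1,0,4,0,2,3,4,3,0,1,3,4,1,4,3,3,4,4,2,4,3,4,4,1,3,1,2,0,3,0,0,2,4,3,0,1,4,0,3,2,4,1,2,3,2,1,1,1,2,0,1,3],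
[0,0,4,2,1,1,1,0,0,1,1,0,0,4,1,3,3,2,1,0,3,1,2,2,0,0,1,4,4,1,3,4,4,2,4,3,4,4,0,2,4,4,1,1,4,4,0,1,4,2,3,4,3,2,3,1,1,0,1,4,3,1,1,1,1,4,1,0,3,1,3,3,1,4,4,2,3,0,1,1,0,3,3,3,4,3,3,4,3,4,2,2,1,3,1,2,4,2,2,4,2,2,3,4,0,2,1,1,1,0,0],
[0,0,0,0,4,1,3,0,0,0,4,3,1,2,3,2,2,3,1,0,0,0,1,1,1,0,0,2,1,2,4,0,3,1,1,3,0,1,2,1,3,2,2,1,3,1,2,4,1,1,1,3,3,0,0,4,0,0,1,2,3,0,2,0,1,4,3,1,0,3,2,3,1,4,2,4,4,2,0,4,0,0,2,0,4,0,0,2,0,1,4,1,0,3,2,1,0,1,3,3,2,3,2,2,2,1,4,0,1,4,4],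
[0,0,2,2,1,4,3,0,0,4,1,4,1,4,1,2,1,1,1,1,0,1,0,2,0,1,4,1,2,0,4,1,2,3,2,0,2,4,0,1,1,1,0,4,2,1,2,2,0,1,4,4,0,1,2,3,2,2,1,3,4,4,1,4,1,0,3,2,2,2,1,0,3,3,1,0,3,3,2,0,0,2,0,1,3,4,1,0,2,3,0,3,3,3,4,4,0,2,4,3,4,1,2,2,0,2,0,4,1,4,2],
[0,0,2,1,4,3,4,0,0,2,0,0,1,1,1,0,0,4,1,3,3,0,2,1,0,0,2,4,3,3,1,0,2,3,4,0,0,3,2,3,0,2,3,3,3,3,1,3,0,4,3,0,0,1,4,4,0,4,4,3,3,1,1,2,2,1,4,2,2,1,2,2,2,2,2,0,4,1,2,3,4,3,4,4,4,0,0,3,4,1,1,0,3,2,3,1,0,0,4,0,2,4,4,4,0,1,0,0,1,1,1],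
[0,0,0,0,3,3,2,0,0,3,0,0,1,3,4,0,4,1,1,3,2,3,3,3,1,3,2,2,3,0,4,2,4,2,4,4,4,1,2,0,0,0,2,2,2,2,2,2,2,0,2,4,1,3,0,4,0,2,3,2,1,3,4,1,2,2,2,0,2,2,1,0,1,4,1,1,1,2,1,2,4,3,2,1,0,0,3,4,2,3,3,2,1,3,2,3,3,4,1,3,3,0,0,4,0,1,2,1,2,0,2],
[0,0,3,4,0,3,1,0,0,0,4,4,4,2,2,2,4,2,4,1,2,1,0,4,3,2,0,4,3,0,4,0,0,0,0,3,0,3,2,1,4,0,2,1,0,2,3,1,4,3,1,2,3,3,4,1,2,4,4,1,1,1,2,2,1,3,2,2,1,3,0,0,0,3,3,0,3,2,4,2,1,3,4,2,4,0,1,2,3,1,4,1,2,1,1,0,3,1,1,2,3,1,3,0,3,3,2,2,4,1,0],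
[0,0,2,2,3,2,2,0,0,1,2,0,3,3,2,3,2,3,2,2,4,1,1,2,3,0,1,1,2,4,1,0,0,4,2,2,1,3,4,3,3,2,4,4,4,1,3,0,1,4,3,2,0,1,2,2,0,4,0,1,3,0,2,2,0,4,2,2,2,3,3,3,0,0,0,0,3,4,4,2,3,4,1,4,3,4,0,3,3,4,4,0,3,3,2,1,0,0,4,2,0,1,3,0,1,0,0,1,2,1,0],
[0,0,2,4,1,1,2,0,0,1,0,3,4,4,4,3,3,1,0,3,4,3,4,0,0,1,0,3,1,3,0,4,3,1,0,4,4,4,2,3,1,1,2,1,4,0,4,4,2,0,2,3,2,2,0,2,0,0,3,2,2,1,0,2,3,1,2,4,0,0,0,3,2,4,3,3,2,0,3,4,3,0,3,0,3,3,1,0,2,4,3,2,2,2,0,1,1,1,0,4,2,3,2,0,3,2,2,3,1,1,2],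
[0,0,3,1,1,3,4,0,0,2,1,4,1,3,2,3,1,3,4,0,2,1,1,4,4,3,2,3,3,4,1,1,4,1,1,0,4,1,3,1,2,2,3,0,3,1,0,2,3,2,0,4,2,1,1,0,4,2,2,3,2,1,2,0,2,0,1,4,0,3,4,3,0,3,0,4,0,4,4,0,1,4,1,0,2,3,3,3,1,3,0,4,2,2,3,4,3,2,4,3,4,1,4,1,2,0,2,4,2,1,0],
[0,0,4,1,3,1,0,0,0,2,2,0,2,4,2,1,4,4,1,4,0,3,2,0,0,3,2,3,0,0,0,1,0,1,3,1,4,1,2,4,4,1,4,3,0,3,3,1,3,4,0,3,2,4,1,4,1,4,1,2,4,3,4,3,1,2,4,3,0,2,1,2,2,2,3,1,3,2,3,1,4,1,4,3,4,3,4,0,1,3,3,3,2,4,4,2,4,0,0,4,3,2,0,1,3,1,2,2,4,0,2],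
[0,0,3,1,0,2,4,0,0,1,2,3,2,2,3,4,4,3,0,0,1,4,4,0,0,2,4,4,0,3,4,0,4,0,0,1,2,4,0,2,0,1,3,1,2,4,1,0,4,1,2,3,3,3,4,0,4,3,0,4,3,2,4,0,4,4,3,3,2,2,1,3,0,1,1,2,3,0,1,0,1,2,1,2,0,1,4,3,3,1,1,1,3,0,1,1,3,1,0,4,1,2,1,1,0,4,2,0,4,2,4],
[0,0,2,3,3,3,1,0,0,3,2,4,2,0,3,4,2,0,4,2,1,3,4,3,1,3,3,3,1,0,2,4,1,3,2,0,3,0,1,0,0,3,4,3,4,3,1,4,2,2,4,4,3,0,1,1,3,3,2,0,3,0,2,2,0,0,1,1,1,2,4,3,4,1,0,4,4,4,2,1,2,4,3,1,3,1,4,2,3,3,2,4,2,1,4,0,3,3,1,3,4,1,1,2,1,0,1,4,2,3,4],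
[0,0,3,0,2,4,2,0,0,1,2,3,4,3,0,0,4,2,2,2,4,3,0,1,2,1,2,2,4,1,2,3,3,2,2,3,3,0,3,3,1,4,1,2,2,0,3,0,2,0,4,1,4,0,2,4,0,3,4,1,2,4,1,1,1,4,0,1,0,4,1,0,1,0,2,2,3,4,0,4,3,0,2,4,3,3,1,3,2,2,3,3,2,0,0,3,2,4,0,0,3,2,1,0,1,3,4,3,1,4,2],
[0,0,4,1,3,2,0,0,0,4,1,4,2,2,1,0,3,0,1,1,4,4,2,1,4,3,4,1,3,3,1,2,1,1,3,0,4,2,1,3,2,0,2,2,1,4,4,4,3,4,2,0,4,0,4,4,0,3,1,4,4,1,4,1,0,4,4,3,2,3,3,0,2,4,4,4,3,3,2,4,4,1,4,3,1,2,4,1,2,1,1,0,4,4,1,1,3,0,4,0,1,2,0,3,2,2,4,2,2,2,4],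
[0,0,3,1,4,2,1,0,0,4,4,0,3,2,0,3,3,1,1,3,3,0,0,0,2,0,1,1,3,1,0,1,1,3,4,3,3,3,4,1,1,2,4,1,1,3,4,0,1,1,1,2,3,2,1,4,4,4,2,0,3,4,0,3,4,4,0,1,2,0,2,0,0,2,0,0,0,1,3,3,2,0,1,3,3,3,0,0,2,2,3,4,3,3,0,0,1,2,3,4,4,3,1,1,2,4,1,2,3,2,4],
[0,0,3,1,4,1,1,0,0,3,0,4,4,1,1,4,1,1,2,3,1,0,4,3,3,4,2,1,4,1,2,3,2,1,0,4,2,0,3,3,4,0,4,3,0,2,2,2,3,4,3,2,2,2,3,0,0,3,3,2,4,1,3,4,4,3,2,0,0,2,3,0,1,1,2,4,2,2,4,4,2,2,4,2,1,3,0,0,2,4,0,1,2,0,3,1,3,0,4,2,1,0,1,0,1,0,4,0,1,3,4],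
[0,0,1,3,2,4,0,0,0,2,4,3,4,3,1,3,2,4,4,1,3,3,3,3,1,4,2,0,1,2,0,1,3,2,3,3,3,3,1,0,4,4,3,1,2,2,2,0,3,0,2,4,3,0,3,3,1,3,4,0,1,3,1,4,0,2,4,4,2,4,2,4,2,1,4,2,4,2,1,4,3,1,1,2,4,4,1,0,3,0,2,4,3,3,3,3,1,2,4,2,1,4,4,4,0,2,3,0,4,4,4],
[0,0,4,3,4,2,2,0,0,3,4,3,1,3,3,4,4,4,1,0,2,3,1,4,3,4,1,2,2,2,3,0,4,0,2,1,1,0,4,4,3,3,0,4,4,2,0,3,2,3,1,0,3,0,2,1,1,1,1,3,1,4,2,0,1,0,1,2,1,0,1,3,4,1,1,3,0,4,4,4,1,3,3,1,1,0,1,2,2,4,2,4,3,2,2,4,1,4,0,0,2,0,2,0,3,1,2,1,1,2,1],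
[0,0,1,2,3,3,1,0,0,0,0,2,3,3,4,1,1,2,3,2,2,2,0,0,2,1,1,4,1,0,1,3,3,1,4,0,2,4,4,2,0,3,2,2,0,1,1,0,4,2,4,3,1,0,4,1,2,4,1,1,1,1,2,1,3,1,2,3,3,0,2,2,0,1,1,3,2,1,4,1,4,3,4,4,1,0,2,4,3,1,4,1,0,3,1,0,2,4,4,4,3,4,1,4,2,0,4,1,0,0,4],
[0,0,4,3,0,3,4,0,0,4,2,3,0,2,0,3,0,4,1,1,4,2,2,3,2,3,0,2,2,0,0,4,4,0,0,1,0,4,1,2,1,2,1,3,0,0,4,4,0,3,4,0,2,1,4,4,0,2,3,1,1,2,0,3,3,3,3,0,1,2,4,1,4,2,3,0,0,1,0,2,1,0,3,4,3,3,3,3,0,3,2,4,2,2,1,3,1,3,3,4,3,4,2,2,1,3,1,0,4,1,1],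
[0,0,4,2,1,3,2,0,0,0,3,1,4,2,0,4,3,4,0,3,3,0,2,4,2,4,3,3,3,3,2,3,2,0,0,3,3,4,1,4,2,1,0,0,1,0,1,3,1,1,4,1,0,2,3,4,1,4,3,2,3,2,2,0,1,1,1,3,3,0,1,4,2,0,3,3,2,0,2,3,4,3,3,2,4,2,1,2,3,4,4,0,0,3,3,4,4,3,3,3,1,3,0,2,1,0,2,1,1,0,2],
[0,0,2,4,0,1,0,0,0,3,3,0,1,2,4,3,2,4,4,0,4,4,1,3,2,2,2,3,2,1,4,4,3,1,3,2,3,4,2,3,4,4,0,3,0,0,0,0,3,2,2,4,1,4,4,2,2,1,1,4,4,3,3,4,0,3,3,2,4,3,2,2,3,4,3,0,2,1,3,4,0,0,2,0,1,4,4,0,3,1,3,1,4,3,0,1,3,3,4,3,4,0,1,3,0,0,4,4,3,2,0],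
[0,0,0,3,3,0,4,0,0,1,2,4,2,2,4,0,3,3,3,1,2,3,0,3,0,1,2,4,1,4,3,2,2,2,3,1,1,2,0,2,1,1,4,2,3,3,2,1,3,2,1,2,2,3,0,4,2,4,2,2,0,3,0,1,2,0,4,0,0,0,1,2,0,1,4,1,4,0,4,4,3,1,3,3,1,3,0,3,4,0,2,1,0,2,1,2,4,2,0,0,2,3,1,0,2,1,2,1,4,2,2],
[0,0,4,2,2,3,4,0,0,4,3,1,1,2,0,3,3,2,0,1,0,1,0,4,3,0,0,3,0,4,1,2,3,0,0,1,3,1,3,1,4,4,3,3,0,2,0,2,0,2,4,4,1,2,4,0,3,3,3,1,0,4,0,2,2,2,4,2,4,1,3,2,1,0,3,0,2,4,1,3,2,0,2,4,2,2,1,3,0,4,3,2,3,0,3,2,0,3,0,4,0,3,2,0,4,4,3,4,3,2,0],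
[0,0,3,1,3,0,0,0,0,4,2,0,4,1,4,2,0,0,1,4,3,3,2,3,0,2,3,0,3,4,4,0,0,4,2,2,2,0,2,0,2,1,2,4,3,1,1,2,2,1,2,4,1,2,0,2,1,2,2,1,0,3,2,1,0,0,4,3,0,1,0,2,3,1,2,2,0,3,1,0,3,1,4,2,2,1,3,4,4,4,0,0,3,2,1,0,0,4,2,4,1,2,3,1,4,4,2,2,3,2,1],
[0,0,3,2,0,1,1,0,0,1,1,3,0,1,1,0,4,1,3,1,0,4,2,4,4,1,2,2,2,0,3,4,4,3,2,1,0,1,4,3,2,1,4,2,3,2,3,0,3,3,1,0,2,2,3,0,3,3,1,0,0,4,2,3,1,2,1,0,3,3,3,4,4,2,1,4,2,4,1,3,1,4,0,4,2,4,4,3,0,3,1,1,1,3,0,1,3,1,4,3,2,4,1,2,2,3,3,0,0,3,2],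
[0,0,4,4,2,4,2,0,0,1,1,2,3,3,1,1,3,3,4,4,3,4,1,2,3,2,4,2,0,3,3,4,4,4,1,4,4,3,3,4,3,2,4,4,4,2,0,1,2,1,2,4,1,2,0,2,3,1,4,2,3,1,2,0,0,4,0,2,1,3,2,3,4,3,4,3,4,4,4,0,3,4,2,0,2,2,3,3,3,1,4,4,3,4,0,4,4,0,2,1,1,2,3,0,4,3,2,4,0,2,2],
[0,0,4,0,0,3,4,0,0,3,4,0,4,2,0,4,3,3,1,4,1,1,0,3,2,0,2,0,2,1,4,0,0,3,4,4,2,0,0,4,4,4,3,0,1,4,1,4,4,4,1,1,1,4,0,4,0,3,2,3,1,4,2,3,0,1,4,1,1,3,1,3,4,2,0,4,1,0,1,0,3,0,1,0,1,3,0,3,0,0,1,1,2,4,3,0,2,2,3,1,0,1,1,0,1,3,0,3,2,4,1],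
[0,0,3,4,2,2,3,0,0,3,1,2,3,3,3,2,4,1,4,3,4,4,2,1,1,4,1,2,0,4,1,3,1,2,4,0,2,0,1,2,2,2,1,3,1,1,2,4,2,2,3,1,3,1,0,0,3,1,1,1,1,1,3,4,4,1,2,3,2,2,2,3,2,3,2,2,0,2,2,4,4,4,0,3,0,1,2,4,2,0,2,0,2,1,0,3,3,1,2,1,4,0,0,3,0,0,1,0,4,2,2],
[0,0,2,2,0,3,3,0,0,1,1,0,0,1,0,4,0,3,4,0,2,0,2,2,4,2,2,0,4,2,0,2,2,2,4,4,2,1,3,0,1,0,2,1,4,1,2,4,1,0,2,2,2,3,2,3,1,4,4,3,3,2,3,1,2,2,4,1,2,0,4,4,0,1,3,4,3,4,0,1,2,4,0,0,4,0,2,0,3,0,3,0,0,0,2,1,4,2,4,1,0,1,2,0,3,3,4,4,0,0,1],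
[0,0,3,1,4,4,0,0,0,3,0,1,0,2,1,3,1,4,0,1,4,2,1,0,2,4,3,1,4,4,2,1,4,3,4,0,4,2,0,3,1,4,0,2,1,2,4,0,0,3,2,2,2,2,0,1,4,3,0,3,3,1,0,2,3,2,3,1,0,1,4,2,0,3,1,2,2,1,2,2,2,3,2,0,4,3,2,4,4,2,1,1,4,0,3,4,0,4,3,4,2,3,1,1,1,1,0,3,1,4,2],
[0,0,0,4,0,2,3,0,0,0,3,3,3,1,2,3,3,2,3,4,3,3,4,3,0,2,0,2,3,0,2,1,0,1,4,0,2,4,4,1,3,4,4,0,2,0,0,2,1,3,0,1,3,1,1,4,1,1,1,2,3,0,3,0,2,3,4,1,3,4,3,1,2,4,4,2,1,3,2,4,1,3,1,3,0,3,4,4,4,1,0,2,4,1,3,3,1,0,4,2,1,4,2,2,1,2,3,2,2,2,0],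
[0,0,2,4,1,0,1,0,0,0,0,1,1,4,4,3,0,2,3,4,3,2,3,4,3,1,2,2,1,2,0,3,3,0,0,1,4,2,3,3,0,1,2,4,3,2,2,4,3,0,1,4,3,4,2,2,3,4,0,1,0,1,2,0,0,0,4,3,1,3,0,0,3,3,2,2,4,1,4,3,4,3,3,4,1,1,1,0,0,4,0,1,2,1,1,3,2,4,0,1,4,0,2,1,3,4,1,3,0,0,3],
[0,0,2,1,2,1,2,0,0,1,1,1,2,2,2,1,0,0,0,0,0,0,1,2,1,0,1,4,3,0,0,4,2,4,1,0,3,3,3,0,4,1,4,2,4,2,2,4,4,3,0,2,2,2,0,3,3,0,4,4,2,0,1,4,2,0,3,3,2,3,1,4,3,0,0,3,3,2,1,3,4,0,2,2,0,2,1,2,1,4,3,2,1,0,0,3,3,3,0,2,0,0,3,3,2,4,1,4,0,2,1],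
[0,0,3,0,0,2,3,0,0,0,3,3,3,3,3,3,4,3,4,3,3,4,0,2,4,4,1,0,1,2,0,0,3,3,3,2,2,0,1,3,3,4,1,3,0,1,2,0,1,0,2,4,1,1,0,3,0,2,2,4,2,3,4,2,1,2,3,0,4,4,0,1,2,4,0,1,4,4,4,1,0,1,4,1,1,4,4,1,3,0,1,2,4,2,4,1,3,0,1,1,0,1,0,1,2,2,2,4,4,0,4],
[0,0,2,3,0,3,0,0,0,0,0,4,4,2,2,4,2,2,3,3,4,3,2,1,3,0,1,2,1,4,0,2,3,2,1,4,2,2,0,2,4,0,2,2,1,2,0,3,3,1,0,1,1,0,0,4,0,0,1,0,0,4,0,4,3,3,0,3,4,0,3,3,1,1,1,3,2,0,3,2,4,4,3,2,3,3,2,2,3,1,1,3,1,4,4,4,3,0,0,4,1,1,4,4,4,2,1,3,3,1,2],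
[0,0,0,2,1,2,2,0,0,0,0,3,3,3,1,3,4,2,0,3,0,3,3,0,0,0,1,2,0,3,3,1,0,1,4,2,2,3,0,4,0,4,3,2,2,1,4,4,3,0,4,4,1,0,3,3,1,2,2,3,3,0,2,3,3,2,2,0,4,1,2,1,2,4,1,1,1,3,0,2,2,1,2,0,2,3,3,1,3,1,4,4,1,1,0,3,4,3,2,0,3,1,1,2,0,3,4,0,4,4,3],
[0,0,4,3,3,3,0,0,0,0,0,2,1,1,2,0,3,3,0,0,3,1,2,3,3,0,1,1,1,4,3,2,3,1,3,1,1,3,3,0,3,2,2,0,0,4,0,2,4,2,3,0,4,3,3,1,4,2,1,4,1,3,2,2,0,4,1,0,2,0,1,1,1,1,1,2,2,0,1,0,1,4,2,4,0,0,4,0,4,4,0,2,0,4,4,2,1,0,3,1,1,2,4,0,1,3,2,4,2,0,0],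
[0,0,1,1,2,3,1,0,0,4,4,3,2,4,2,3,3,4,1,0,2,2,0,2,4,2,1,0,2,1,0,2,2,1,1,1,3,3,0,1,2,0,4,1,3,4,3,4,3,4,1,4,0,1,2,4,1,0,4,0,2,4,2,0,4,0,3,3,1,0,1,3,0,0,1,3,2,0,2,0,4,2,3,3,4,1,4,2,2,2,4,1,0,3,3,0,4,1,3,1,0,3,0,4,3,4,3,0,0,0,3],
[0,0,1,2,4,2,2,0,0,1,4,2,4,2,1,3,3,3,2,4,4,1,0,0,0,1,4,3,0,2,4,1,0,0,1,3,0,0,2,4,2,2,2,1,2,4,0,2,1,0,1,2,2,1,4,0,2,4,0,0,0,4,4,3,4,1,2,0,1,1,2,2,2,1,3,2,3,3,3,2,4,0,2,0,4,2,3,4,0,1,2,4,3,0,1,3,0,2,4,3,0,3,2,3,3,3,0,0,1,4,4],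
[0,0,3,4,2,1,1,0,0,3,4,1,2,0,0,4,4,0,0,1,4,4,4,2,3,1,4,2,1,4,1,3,1,2,2,3,0,2,3,2,2,3,0,1,0,2,0,3,4,3,0,3,2,2,4,1,3,0,4,0,2,3,3,1,0,3,4,0,0,3,2,2,2,4,0,4,1,4,3,1,0,0,0,3,1,3,0,1,2,4,2,1,3,1,4,2,3,3,1,0,2,4,4,0,1,3,0,4,1,0,4],
[0,0,0,4,3,3,3,0,0,4,2,0,4,0,3,4,3,3,2,0,1,0,0,3,2,4,0,0,3,1,3,1,4,0,2,3,3,4,0,0,0,3,3,3,4,0,1,2,3,2,2,2,4,3,1,0,2,1,2,1,4,4,4,0,0,2,2,0,3,0,3,2,3,1,3,0,1,3,0,4,2,2,3,3,4,0,0,2,3,1,3,3,2,2,4,4,1,3,4,2,4,1,4,3,4,4,4,2,1,2,0],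
[0,0,0,4,1,2,0,0,0,1,2,3,2,4,0,1,1,1,0,3,4,0,0,2,4,3,2,1,2,4,1,2,3,0,2,4,3,4,0,3,0,3,1,4,0,0,3,2,3,4,1,4,2,4,1,0,4,0,0,3,1,2,4,4,4,4,3,2,4,0,1,0,0,2,0,1,0,0,3,2,2,0,3,4,1,4,2,3,3,0,0,1,0,0,3,1,0,4,1,1,2,4,4,3,2,1,4,3,2,2,4],
[0,0,0,3,1,0,3,0,0,2,4,2,4,1,4,3,0,4,3,0,2,1,2,2,2,4,0,3,0,3,2,3,1,3,1,4,0,2,0,4,4,3,1,2,1,3,2,1,0,4,0,0,3,1,3,3,2,4,3,0,1,0,0,1,1,0,1,2,4,0,2,2,3,2,1,4,1,3,4,0,0,4,1,0,1,2,2,4,2,4,4,2,2,3,1,4,0,0,4,2,1,2,0,2,3,4,3,0,3,1,3],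
[0,0,3,4,0,0,4,0,0,1,3,3,4,4,0,3,4,0,1,1,2,3,4,2,2,2,4,1,0,3,0,0,1,3,4,1,3,3,3,2,3,2,2,2,3,3,0,4,3,1,4,0,1,3,4,2,4,2,3,0,2,2,4,4,2,1,0,3,2,1,4,3,2,4,0,2,2,1,4,0,4,1,0,0,1,3,3,3,0,1,2,1,4,3,3,0,0,0,2,3,4,2,0,2,1,2,1,0,2,3,1],
[0,0,4,4,3,3,3,0,0,0,3,0,2,1,4,3,1,2,3,0,2,1,4,2,1,2,1,0,1,1,1,3,1,4,4,0,4,0,2,2,2,0,1,4,3,0,4,3,2,1,0,4,1,1,3,0,1,2,2,4,0,2,0,3,3,2,2,2,3,4,0,1,3,1,0,3,4,3,0,2,0,4,4,0,1,2,2,3,4,1,1,4,0,3,4,0,4,4,3,0,0,0,2,1,1,1,4,0,3,2,4],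
[0,0,3,3,4,2,4,0,0,3,1,4,4,2,4,3,4,0,2,0,2,1,2,0,4,1,1,3,4,3,4,3,4,0,0,2,4,0,4,1,2,4,1,2,0,1,0,0,3,1,2,2,1,3,3,0,2,0,0,3,4,2,2,4,1,4,4,2,0,1,2,2,1,1,4,0,1,1,4,3,3,4,1,4,1,4,3,2,3,3,4,2,3,2,3,4,0,3,3,0,4,1,1,0,1,2,2,2,3,2,0],
[0,0,3,4,3,0,3,0,0,4,3,0,2,4,3,0,3,4,3,0,2,2,1,4,3,1,3,4,0,0,1,1,3,4,0,4,4,1,3,3,3,0,2,0,0,1,1,0,4,2,3,2,2,4,4,0,0,1,3,1,3,3,3,4,2,1,0,2,4,3,1,3,4,2,2,4,4,0,4,2,4,1,3,0,3,3,0,3,0,2,1,0,2,1,1,0,3,0,4,1,1,2,1,2,1,2,4,0,3,3,2],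
[0,0,2,4,1,2,2,0,0,1,0,0,3,0,3,2,4,0,0,2,2,1,4,3,1,2,2,4,4,1,0,0,0,1,2,4,2,0,0,4,3,1,0,2,4,0,0,4,2,2,0,1,0,3,1,0,0,1,4,2,4,1,0,2,4,4,0,2,2,1,4,3,0,4,2,1,0,4,3,0,2,4,0,3,1,4,0,0,3,2,4,3,1,0,1,2,0,3,3,1,1,4,1,2,0,1,1,0,4,1,0],
[0,0,2,4,3,4,4,0,0,1,4,4,4,3,2,4,3,4,4,1,3,1,1,0,0,1,1,4,3,3,0,4,1,2,2,2,0,0,3,2,3,3,3,0,3,3,0,4,3,2,3,3,3,4,3,2,1,0,4,4,0,0,3,0,2,1,0,3,2,2,3,3,4,3,1,3,1,2,2,0,4,1,2,4,4,2,2,3,2,2,0,0,1,1,3,2,1,2,0,3,0,0,1,4,1,3,4,0,4,1,0],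
[0,0,1,1,0,3,2,0,0,0,3,2,4,2,3,2,4,4,4,3,0,1,3,0,2,0,4,4,1,1,2,2,3,1,1,1,2,1,2,2,0,0,2,2,4,1,0,2,3,3,4,4,1,4,4,0,4,0,4,3,2,0,0,2,2,0,0,1,4,4,0,3,1,3,2,4,2,4,4,0,3,3,4,2,0,3,1,1,2,4,2,4,0,0,2,3,4,3,0,4,0,2,4,3,2,0,2,1,0,2,0],
[0,0,2,2,1,0,2,0,0,2,3,1,3,3,4,2,3,1,3,0,3,2,4,3,3,3,2,2,1,2,0,0,1,3,4,4,1,1,3,0,0,4,0,0,1,0,1,1,3,4,0,4,3,4,0,3,4,4,3,1,1,1,2,4,4,4,0,0,3,4,1,2,4,1,3,0,1,1,2,4,1,2,0,2,3,1,4,0,1,3,3,1,3,0,0,4,1,1,1,4,3,3,4,3,3,2,1,4,4,0,0],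
[0,0,2,1,4,3,4,0,0,0,2,3,4,1,1,1,3,3,4,4,4,4,3,2,0,0,2,4,3,0,4,2,4,2,3,3,0,0,0,2,0,1,4,3,4,1,2,4,3,2,2,3,4,1,3,3,3,0,4,4,4,2,0,1,4,2,2,2,1,0,2,0,4,3,3,4,2,2,1,2,1,0,0,4,1,0,3,1,3,0,2,0,4,2,4,3,0,4,3,2,2,1,1,1,2,3,3,3,3,3,1],
[0,0,4,0,2,3,0,0,0,0,0,4,3,0,4,2,3,1,1,1,1,4,0,1,2,2,1,4,3,4,2,0,1,2,1,0,3,0,4,3,1,0,4,2,4,3,4,4,0,1,0,1,1,4,4,1,3,3,2,0,4,3,2,3,0,1,3,1,3,2,2,1,4,4,3,3,0,0,1,0,0,4,1,0,1,4,2,0,0,2,1,0,4,3,2,1,4,1,4,3,3,2,2,1,4,0,0,3,3,4,4],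
[0,0,0,2,4,0,4,0,0,2,3,1,4,3,1,2,4,2,4,1,3,0,4,3,1,3,4,1,4,3,3,4,3,2,0,1,0,0,2,1,4,3,1,3,0,0,2,0,4,2,1,1,4,1,0,2,1,3,3,0,2,2,3,1,3,1,1,1,2,1,3,2,1,2,4,4,3,0,0,3,4,3,3,4,3,0,3,2,3,2,0,4,4,4,4,2,0,0,3,1,2,2,2,3,1,3,2,4,0,4,4],
[0,0,4,2,0,4,4,0,0,1,1,0,2,4,4,2,2,4,1,4,2,3,1,3,0,4,1,1,0,0,1,0,4,2,2,0,3,3,3,0,4,0,4,2,0,4,0,2,3,2,4,1,2,1,1,1,3,0,1,3,4,3,3,1,3,3,3,0,2,4,2,4,3,4,0,1,0,4,3,1,3,0,4,2,3,1,2,1,3,0,1,1,0,0,3,4,0,4,1,0,4,4,0,0,0,2,1,4,1,1,2],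
[0,0,0,0,4,0,4,0,0,4,2,3,4,1,3,0,3,2,1,4,2,2,0,1,1,0,1,3,1,2,0,4,1,0,2,0,0,3,4,2,0,2,1,0,4,1,2,2,2,3,2,0,4,1,3,2,4,4,1,0,4,2,1,0,4,3,0,3,4,0,3,4,3,1,3,0,2,1,0,1,3,1,2,3,2,2,1,4,4,4,0,3,2,1,2,0,2,2,4,0,0,0,2,3,0,4,1,0,1,2,3],
[0,0,3,0,0,4,0,0,0,0,3,3,0,0,0,4,0,2,4,1,4,4,2,3,1,0,4,3,1,0,3,4,4,1,4,3,3,0,1,4,2,1,2,0,3,3,3,2,3,4,4,1,3,3,3,4,1,2,4,2,2,3,1,2,4,1,1,1,2,0,2,0,3,0,1,1,3,0,3,4,2,2,3,2,0,4,2,1,4,2,0,0,3,1,3,0,4,2,1,3,3,4,0,3,3,0,1,3,2,0,1],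
[0,0,1,1,4,0,0,0,0,2,0,4,3,2,0,0,4,1,2,1,2,1,3,4,4,4,0,2,1,1,3,2,0,1,3,4,3,4,1,2,3,2,0,0,0,0,2,2,0,4,4,4,1,2,4,1,2,0,0,2,3,1,2,3,2,2,1,0,3,1,4,2,3,2,3,2,2,1,0,2,4,4,4,4,1,2,2,4,0,2,2,0,1,2,3,3,0,2,3,3,3,2,0,4,0,0,0,3,1,0,4],
[0,0,4,4,2,1,1,0,0,4,2,0,2,3,3,4,2,4,0,3,2,4,1,3,1,0,0,4,3,0,4,1,0,4,1,1,2,3,1,2,2,0,2,1,4,2,1,4,4,0,4,4,3,2,1,3,0,3,0,2,2,1,4,1,2,0,2,4,0,0,1,1,1,2,0,0,2,0,4,1,0,4,4,1,2,1,0,0,4,2,3,4,3,4,2,4,1,1,3,1,4,3,0,1,3,1,0,4,2,3,4],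
[0,0,0,4,2,1,0,0,0,0,3,3,1,2,1,1,3,0,2,2,0,2,3,1,0,0,2,4,0,1,1,4,3,0,1,2,2,3,3,0,3,2,3,2,0,0,3,0,2,3,1,2,1,3,4,2,0,0,0,4,3,3,1,3,1,0,4,4,2,3,4,2,1,1,3,3,3,1,1,0,3,0,1,3,1,3,1,3,0,4,2,2,4,4,0,4,0,2,1,0,2,3,4,1,1,2,2,0,4,4,0],
[0,0,2,1,2,0,2,0,0,0,1,0,1,3,2,1,0,2,3,1,1,3,1,2,1,0,2,0,1,3,1,2,2,1,2,2,4,0,2,4,0,3,1,3,4,2,0,3,2,4,1,3,0,0,1,4,1,0,3,0,0,1,4,3,4,0,3,2,3,2,1,2,0,0,1,0,4,3,2,4,1,3,0,0,1,0,2,0,0,4,2,2,3,4,1,2,1,3,2,4,3,1,0,2,3,4,2,3,3,4,0],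
[0,0,1,1,3,2,1,0,0,4,2,3,3,1,3,0,3,3,4,1,1,2,2,4,2,1,1,3,0,0,2,2,0,2,0,2,4,2,3,2,3,4,0,4,1,3,1,2,0,3,0,3,3,3,1,3,1,3,2,3,0,2,1,3,0,1,0,0,1,4,3,0,3,4,1,2,1,3,4,4,0,2,1,1,1,0,4,3,2,3,0,0,3,3,1,1,4,1,3,4,0,2,2,2,1,1,4,3,0,3,3],
[0,0,4,3,4,3,2,0,0,4,1,1,0,2,3,3,3,4,3,2,0,0,4,2,0,0,0,1,2,2,0,3,2,3,3,2,0,4,1,3,4,3,3,4,4,4,4,2,4,1,3,2,1,4,2,0,0,1,3,0,1,1,1,2,2,4,1,0,2,1,0,0,4,1,2,2,2,4,4,2,3,3,4,2,2,2,2,1,2,2,0,4,4,0,0,2,0,1,4,1,2,2,3,1,4,0,0,2,4,3,0],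
[0,0,1,4,2,3,4,0,0,2,3,3,2,0,3,2,4,2,4,3,2,2,4,4,0,1,3,0,4,2,4,0,1,1,2,3,4,0,3,1,4,0,4,0,3,2,2,3,4,4,3,3,3,2,3,2,0,3,3,3,2,4,4,0,1,3,0,2,1,0,0,1,3,4,0,2,1,3,1,3,4,4,4,4,0,4,4,0,3,3,2,1,4,4,2,3,0,1,3,1,4,3,3,1,2,3,3,4,2,4,4],
[0,0,4,1,1,1,4,0,0,0,0,0,3,4,0,2,0,4,4,1,4,4,0,2,3,2,1,2,0,1,1,0,4,4,4,0,0,3,3,2,4,3,2,1,0,1,2,2,2,2,1,2,2,4,3,1,2,3,4,0,0,2,2,4,3,3,2,3,0,2,3,2,1,2,3,1,3,2,3,2,2,4,3,4,2,4,2,0,2,2,3,1,2,3,4,4,3,1,3,3,4,1,1,2,1,3,1,0,0,1,0],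
[0,0,4,1,3,0,2,0,0,3,2,1,0,2,2,4,1,3,3,2,4,0,2,2,1,3,0,0,0,2,3,3,3,1,1,4,2,4,0,3,3,0,2,1,0,0,2,2,0,0,3,3,3,0,1,0,1,2,4,4,3,0,3,3,4,1,4,1,2,1,0,0,4,1,1,2,0,0,4,2,4,2,4,4,2,4,2,2,4,4,4,3,3,3,3,4,2,2,4,3,1,2,3,2,2,3,0,0,2,1,0],
[0,0,1,1,0,3,4,0,0,1,1,3,3,0,1,2,2,1,2,2,4,3,2,0,4,1,2,1,4,4,1,0,0,3,0,0,4,3,4,1,0,0,3,1,2,3,0,1,0,3,4,3,4,3,1,3,4,0,0,1,0,2,4,0,1,1,3,1,4,2,4,1,3,0,3,1,1,4,1,0,0,3,4,0,4,4,2,2,0,0,4,1,2,3,2,3,0,1,1,0,4,1,2,3,3,2,2,3,0,2,3],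
[0,0,3,0,4,0,0,0,0,0,0,1,0,2,2,1,0,0,2,3,0,3,0,2,3,3,3,0,2,0,1,1,0,3,3,1,3,1,1,0,1,3,1,0,0,0,4,3,2,4,3,3,0,3,4,2,0,2,2,4,2,2,2,3,3,0,3,4,4,3,2,3,0,3,1,4,1,1,2,3,4,4,3,4,4,4,0,0,0,4,1,3,2,4,1,3,1,3,2,1,2,3,4,0,3,1,0,0,3,3,2],
[0,0,3,4,3,2,0,0,0,2,2,4,2,2,1,1,3,2,4,2,3,4,4,3,1,4,1,2,2,3,4,3,2,0,0,0,3,4,0,4,0,4,3,3,0,3,3,2,3,1,4,1,2,4,2,3,3,0,0,1,4,4,0,1,3,2,0,2,3,2,2,4,0,3,3,4,0,3,1,4,3,4,1,2,1,4,0,0,4,3,3,3,0,4,4,4,3,1,2,1,2,0,3,3,4,4,3,1,3,3,0],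
[0,0,2,4,3,3,4,0,0,1,2,4,3,4,1,2,1,4,0,2,2,3,1,4,1,0,1,3,1,3,1,1,1,3,1,3,0,0,1,1,2,1,4,0,0,4,1,2,4,4,2,1,2,0,4,4,0,1,1,3,4,1,0,4,1,4,4,2,3,0,3,2,3,2,4,3,2,4,3,4,3,0,0,4,3,4,2,4,4,3,1,1,0,4,0,2,0,1,2,4,1,0,4,1,3,4,4,1,0,2,1],
[0,0,0,2,1,4,3,0,0,2,4,4,0,3,1,1,0,1,3,2,2,3,0,1,4,3,4,3,4,3,4,0,3,1,4,1,1,2,4,3,3,0,1,2,2,1,2,4,3,2,4,2,4,4,2,0,4,4,2,3,2,1,2,4,0,0,3,3,0,2,1,3,2,4,4,1,4,1,1,3,0,1,0,3,4,2,2,0,3,1,2,2,4,2,4,1,0,0,2,0,3,0,2,1,2,2,1,1,0,3,2],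
[0,0,3,1,4,0,0,0,0,2,4,2,3,4,4,3,4,1,1,4,0,0,4,1,4,1,2,4,2,4,1,2,4,1,3,1,0,1,1,4,0,4,1,4,0,1,1,2,1,3,0,1,3,4,4,0,4,4,0,3,1,3,3,3,0,0,3,1,3,1,3,1,0,1,0,4,4,1,2,2,1,4,0,0,4,2,4,1,0,3,3,2,0,2,3,2,4,0,4,4,1,0,1,4,1,4,2,3,0,1,0],
[0,0,3,0,4,4,4,0,0,3,4,0,4,1,2,4,0,0,2,1,0,0,4,0,4,1,0,2,2,0,3,0,4,3,1,4,4,2,0,2,2,3,0,0,0,1,4,1,2,3,4,0,0,0,0,4,3,0,4,0,4,2,4,3,1,1,3,2,1,2,1,3,0,4,1,3,3,3,4,0,2,4,4,4,3,3,3,0,4,3,1,2,0,4,4,1,0,1,1,3,4,0,1,0,1,0,2,4,3,4,1],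
[0,0,2,3,1,1,1,0,0,0,0,2,3,4,4,1,2,3,0,4,3,2,2,2,2,4,0,3,2,4,0,3,2,2,3,3,3,2,1,4,4,2,2,2,2,2,2,1,4,0,3,1,4,2,4,3,4,3,2,1,3,0,2,0,3,1,1,3,0,1,3,1,0,2,2,2,2,3,0,0,2,2,1,4,0,1,2,0,4,3,2,2,0,0,0,1,4,0,0,4,0,0,1,4,3,2,3,1,2,0,2],
[0,0,0,0,0,0,0,0,0,0,0,0,0,0,4,0,3,0,4,0,2,4,0,3,1,1,3,3,0,1,0,3,4,3,0,4,1,2,1,3,1,2,0,1,0,2,1,2,0,3,1,4,1,0,2,0,2,2,3,0,2,1,4,2,3,4,1,3,4,2,1,3,1,1,0,4,4,4,3,0,3,4,3,3,4,4,3,3,4,3,3,0,4,3,3,2,1,3,2,0,1,1,1,1,2,2,0,0,0,0,0],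
[0,0,0,0,0,0,0,0,0,0,0,0,0,0,3,0,0,0,3,0,0,2,0,1,0,3,3,1,0,2,0,0,3,0,0,2,0,4,0,4,3,4,0,2,0,0,2,0,0,3,1,2,3,0,1,0,2,0,1,0,4,0,0,2,3,3,3,4,0,3,0,1,2,3,0,0,2,2,1,0,0,3,0,4,3,3,1,0,0,3,3,2,2,1,1,0,1,0,4,0,2,0,0,1,2,3,0,0,0,0,0],
[0,0,0,0,0,0,0,0,0,0,0,0,3,0,3,0,0,4,0,1,0,3,1,0,0,4,3,0,0,1,0,0,0,0,0,2,4,0,4,0,3,0,3,0,4,0,0,0,3,1,4,4,0,3,3,2,0,0,0,0,3,1,0,0,3,4,0,0,2,3,2,0,3,1,1,0,3,1,0,0,0,0,0,0,0,0,0,0,3,3,3,2,0,3,4,4,0,0,0,4,3,0,0,4,0,0,3,1,3,0,0],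
[0,0,0,0,0,0,0,0,0,0,0,0,0,0,3,0,0,1,1,0,0,4,0,0,1,3,3,0,0,1,0,0,0,0,0,3,1,0,1,2,1,0,2,2,0,0,0,0,0,3,2,4,0,2,1,0,0,0,0,0,1,1,0,4,0,3,0,1,1,3,0,0,3,3,0,2,1,1,0,0,0,0,0,0,0,0,0,0,3,2,3,3,0,0,0,1,0,0,0,1,4,1,0,0,0,0,0,0,2,0,0],
[0,0,0,0,0,0,0,0,0,0,0,0,0,0,3,0,0,2,4,0,0,0,0,0,0,1,3,0,0,1,0,0,0,0,0,2,2,0,0,2,4,0,4,3,0,0,0,0,0,4,1,0,0,4,3,0,0,0,0,0,0,0,0,3,4,1,0,0,4,3,3,0,3,0,0,0,2,1,0,0,0,0,0,0,0,0,0,0,0,3,0,2,0,0,4,2,0,0,0,2,2,0,0,2,0,0,1,2,2,0,0],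
[0,0,0,0,0,0,0,0,0,4,2,4,2,4,4,4,0,1,1,2,0,2,4,0,4,4,4,0,4,4,4,0,0,0,1,1,1,0,0,0,1,0,1,1,2,0,0,0,3,0,0,2,0,2,2,4,0,0,0,1,2,4,0,4,4,4,0,4,4,4,0,0,1,2,4,4,4,4,0,4,0,0,0,0,0,0,0,0,3,1,1,1,0,1,1,1,0,0,0,4,3,0,0,4,0,0,0,0,0,3,2],
[0,0,0,0,0,0,0,0,0,0,4,0,4,3,0,0,0,0,4,4,0,3,3,0,3,0,0,0,3,0,0,0,0,0,0,0,0,0,3,4,4,0,0,4,4,0,0,0,1,1,3,3,0,0,3,3,0,0,0,2,3,3,0,3,0,0,0,3,0,0,4,0,0,3,3,3,0,0,0,3,0,0,0,0,0,0,0,0,3,2,0,0,0,2,0,0,0,0,0,0,3,3,0,1,0,0,0,0,0,0,2]]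

end H68.Ly
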